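import Mathlib

/-!
# Arithmetic of primes next to a power of two
-/

set_option autoImplicit false
set_option linter.all false

namespace CfsgLib.Known.ThreeClasses

theorem dvd_nine {c : ℕ} (hc : c ∣ 9) : c = 1 ∨ c = 3 ∨ c = 9 := by
  have := Nat.le_of_dvd (by norm_num) hc
  interval_cases c <;> first | omega | norm_num at hc

theorem exists_mul_two_pow {k a : ℕ} (h : k ∣ 9 * 2 ^ a) :
    ∃ c j, c ∣ 9 ∧ j ≤ a ∧ k = c * 2 ^ j := by
  obtain ⟨c, d, hc, hd, rfl⟩ := Nat.dvd_mul.1 h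
  obtain ⟨j, hj, rfl⟩ := (Nat.dvd_prime_pow Nat.prime_two).1 hd
  exact ⟨c, j, hc, hj, rfl⟩

/-- Fermat: no `9 * 2 ^ j` is one modulo `2 ^ i + 1`. -/
theorem fermat_ne {i q j : ℕ} (hi : 8 ≤ i) (hq : q = 2 ^ i + 1) : (9 * 2 ^ j) % q ≠ 1 := by
  intro h
  have h256 : 2 ^ 8 ≤ 2 ^ i := Nat.pow_le_pow_right (by norm_num) hi
  have hi2 : ((2 : ZMod q) ^ i) = -1 := by
    have : ((2 ^ i + 1 : ℕ) : ZMod q) = 0 := by rw [← hq]; exact ZMod.natCast_self q
    push_cast at this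
    linear_combination this
  have h1 : (9 : ZMod q) * 2 ^ j = 1 := by
    have : ((9 * 2 ^ j : ℕ) : ZMod q) = ((1 : ℕ) : ZMod q) := by
      rw [ZMod.natCast_eq_natCast_iff']
      rw [h, Nat.mod_eq_of_lt (by omega)]
    exact_mod_cast this
  have hper : ((2 : ZMod q) ^ (2 * i)) = 1 := by rw [mul_comm, pow_mul, hi2]; norm_num
  set s := 2 * i - j % (2 * i) with hs
  have h2 : (9 : ZMod q) = 2 ^ s := by
    have : (2 : ZMod q) ^ (j % (2 * i)) * 2 ^ s = 1 := by
      rw [← pow_add, hs, Nat.add_sub_cancel' (Nat.mod_lt _ (by omega)).le, hper]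
    have h3 : (2 : ZMod q) ^ j = 2 ^ (j % (2 * i)) := pow_eq_pow_mod j hper
    rw [h3] at h1
    linear_combination (2 : ZMod q) ^ s * h1 - 9 * this
  by_cases hsi : s ≤ i
  · have h4 : ((9 : ℕ) : ZMod q) = ((2 ^ s : ℕ) : ZMod q) := by exact_mod_cast h2
    rw [ZMod.natCast_eq_natCast_iff', Nat.mod_eq_of_lt (by omega),
      Nat.mod_eq_of_lt (by have := Nat.pow_le_pow_right (show 0 < 2 by norm_num) hsi; omega)] at h4
    rcases Nat.eq_zero_or_pos s with hs0 | hs0
    · rw [hs0] at h4; norm_num at h4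
    · have : Even (2 ^ s) := (Nat.even_pow.2 ⟨even_two, hs0.ne'⟩)
      rw [← h4] at this
      norm_num at this
  · set t := s - i with ht
    have hti : t ≤ i := by omega
    have hst : s = i + t := by omega
    rw [hst, pow_add, hi2] at h2
    have h4 : ((9 + 2 ^ t : ℕ) : ZMod q) = 0 := by push_cast; linear_combination h2
    rw [ZMod.natCast_eq_zero_iff] at h4
    have h5 := Nat.pow_le_pow_right (show 0 < 2 by norm_num) hti
    obtain ⟨c, hc⟩ := h4
    have hc1 : c = 1 := by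
      rcases c with _ | _ | c
      · simp at hc
      · rfl
      · nlinarith
    subst hc1
    have hlt : t < i := by
      rcases lt_or_eq_of_le hti with h6 | h6
      · exact h6
      · rw [h6] at hc; omega
    have h7 := Nat.pow_le_pow_right (show 0 < 2 by norm_num) (show t + 1 ≤ i by omega)
    rw [pow_succ] at h7
    omega

/-- Mersenne: `c * 2 ^ j` is one modulo `2 ^ i - 1` only for `c = 1`. -/
theorem mersenne_c {i q j c : ℕ} (hi : 7 ≤ i) (hq : q + 1 = 2 ^ i) (hc : c ∣ 9)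
    (h : (c * 2 ^ j) % q = 1) : c = 1 := by
  have h128 : 2 ^ 7 ≤ 2 ^ i := Nat.pow_le_pow_right (by norm_num) hi
  have hi2 : ((2 : ZMod q) ^ i) = 1 := by
    have : ((q + 1 : ℕ) : ZMod q) = ((2 ^ i : ℕ) : ZMod q) := by rw [hq]
    push_cast at this
    rw [ZMod.natCast_self, zero_add] at this
    exact this.symm
  have h1 : (c : ZMod q) * 2 ^ j = 1 := by
    have : ((c * 2 ^ j : ℕ) : ZMod q) = ((1 : ℕ) : ZMod q) := by
      rw [ZMod.natCast_eq_natCast_iff', h, Nat.mod_eq_of_lt (by omega)]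
    exact_mod_cast this
  set s := (i - j % i) % i with hs
  have hsi : s < i := Nat.mod_lt _ (by omega)
  have h2 : (c : ZMod q) = 2 ^ s := by
    have h3 : (2 : ZMod q) ^ j = 2 ^ (j % i) := pow_eq_pow_mod j hi2
    have h4 : (2 : ZMod q) ^ (j % i) * 2 ^ s = 1 := by
      rw [hs, ← pow_eq_pow_mod (i - j % i) hi2, ← pow_add,
        Nat.add_sub_cancel' (Nat.mod_lt _ (by omega)).le, hi2]
    rw [h3] at h1
    linear_combination (2 : ZMod q) ^ s * h1 - (c : ZMod q) * h4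
  have h5 : ((c : ℕ) : ZMod q) = ((2 ^ s : ℕ) : ZMod q) := by exact_mod_cast h2
  have h6 := Nat.pow_le_pow_right (show 0 < 2 by norm_num) (show s + 1 ≤ i by omega)
  rw [pow_succ] at h6
  have := dvd_nine hc
  rw [ZMod.natCast_eq_natCast_iff', Nat.mod_eq_of_lt (by omega), Nat.mod_eq_of_lt (by omega)] at h5
  rcases Nat.eq_zero_or_pos s with hs0 | hs0
  · rw [hs0, pow_zero] at h5; exact h5
  · have he : Even (2 ^ s) := Nat.even_pow.2 ⟨even_two, hs0.ne'⟩
    rw [← h5] at he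
    rcases this with rfl | rfl | rfl
    · rfl
    · norm_num at he
    · norm_num at he

/-- Degrees congruent to a small number modulo `2 ^ i - 1` are divisible by `2 ^ i`. -/
theorem mersenne_dvd {i q c A : ℕ} {v : ℤ} (hi : 7 ≤ i) (hq : q + 1 = 2 ^ i) (hc : c ∣ 9)
    (hv : v * v ≤ 19) (hd : (q : ℤ) ∣ (c * 2 ^ A : ℕ) - v) (hD : q - 1 ≤ c * 2 ^ A) :
    2 ^ i ∣ c * 2 ^ A := by
  by_cases hA : i ≤ A
  · exact dvd_mul_of_dvd_right (pow_dvd_pow 2 hA) c
  exfalso
  have hv1 : -4 ≤ v ∧ v ≤ 4 := ⟨by nlinarith, by nlinarith⟩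
  have hc' := dvd_nine hc
  set t := 2 ^ (i - 3) with ht
  have ht16 : 16 ≤ t := le_trans (by norm_num) (Nat.pow_le_pow_right (show 0 < 2 by norm_num) (show 4 ≤ i - 3 by omega))
  have hit : 2 ^ i = 8 * t := by
    rw [ht, show (8 : ℕ) = 2 ^ 3 by norm_num, ← pow_add]; congr 1; omega
  obtain ⟨k, hk⟩ := hd
  rcases (show A + 4 ≤ i ∨ A = i - 3 ∨ A = i - 2 ∨ A = i - 1 by omega) with h | h | h | h
  · have h1 := Nat.pow_le_pow_right (show 0 < 2 by norm_num) h
    rw [pow_add] at h1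
    have h128 : 2 ^ 7 ≤ 2 ^ i := Nat.pow_le_pow_right (by norm_num) hi
    have h2 : c * 2 ^ A ≤ 9 * 2 ^ A := Nat.mul_le_mul_right _ (by omega)
    omega
  all_goals
    have hval : 2 ^ A = t ∨ 2 ^ A = 2 * t ∨ 2 ^ A = 4 * t := by
      rw [h, ht]
      first
      | exact Or.inl rfl
      | exact Or.inr (Or.inl (by rw [← pow_succ']; congr 1; omega))
      | exact Or.inr (Or.inr (by rw [show (4 : ℕ) = 2 ^ 2 by norm_num, ← pow_add]; congr 1; omega))
    have hk' : ((c * 2 ^ A : ℕ) : ℤ) - v = (8 * (t : ℤ) - 1) * k := by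
      rw [hk]; congr 1; omega
    have hDlo : (8 : ℤ) * t - 2 ≤ ((c * 2 ^ A : ℕ) : ℤ) := by omega
    have hDhi : ((c * 2 ^ A : ℕ) : ℤ) ≤ 36 * t := by
      have : c * 2 ^ A ≤ 9 * (4 * t) := Nat.mul_le_mul (by omega) (by omega)
      omega
    have ht' : (16 : ℤ) ≤ t := by exact_mod_cast ht16
    have hk0 : 0 ≤ k := by
      by_contra hn
      have hn' : k ≤ -1 := by omega
      nlinarith only [mul_le_mul_of_nonneg_left hn' (show (0 : ℤ) ≤ 8 * t - 1 by linarith), hk', hDlo, hv1.2, ht']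
    have hk5 : k ≤ 5 := by
      by_contra hn
      have hn' : 6 ≤ k := by omega
      nlinarith only [mul_le_mul_of_nonneg_left hn' (show (0 : ℤ) ≤ 8 * t - 1 by linarith), hk', hDhi, hv1.1, ht']
    interval_cases k <;> rcases hc' with rfl | rfl | rfl <;> rcases hval with e | e | e <;>
      rw [e] at hk' <;> push_cast at hk' <;> omega

end CfsgLib.Known.ThreeClasses
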