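import Cfsg.Agent.Lib.Known.ThreeClasses.Sums
import Cfsg.Agent.Lib.Known.ThreeClasses.Arith
import Cfsg.Agent.Lib.Blocks.FrobeniusAutomizerChars

/-!
# No rational character of degree a large Fermat or Mersenne prime

A simple group of order `9 * 2 ^ a * q ^ b` has no rational irreducible character of degree `q`
when `q = 2 ^ i + 1` with `8 ≤ i` or `q = 2 ^ i - 1` with `7 ≤ i`.
-/

set_option autoImplicit false
set_option linter.all false

namespace CfsgLib.Known.ThreeClasses

open Cfsg CfsgLib.Char CfsgLib.CharDegree CfsgLib.Blocks Subgroup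

universe u

variable {G : Type u} [Group G] [Finite G] {q a b : ℕ}

/-- A rational character of degree `q`, where `q² ∤ |G|`, forces self-centralising elements of
order `q`. -/
theorem centralizer_eq [IsSimpleGroup G] (hperf : _root_.commutator G = ⊤) (hq : q.Prime)
    (hq2 : q ≠ 2) (hq3 : q ≠ 3) (hcard : Nat.card G = 9 * 2 ^ a * q) {χ : IrrCharacter G}
    (hrat : IsRat χ) (hdeg : charDegree (χ : G → ℂ) = q) {y : G} (hy : orderOf y = q) :
    centralizer ({y} : Set G) = zpowers y := by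
  classical
  haveI := Fact.mk hq
  haveI := Fintype.ofFinite G
  have hq5 : 5 ≤ q := by
    have := hq.two_le
    rcases (show q = 4 ∨ 5 ≤ q ∨ q < 4 by omega) with h | h | h
    · subst h; exact absurd hq (by norm_num)
    · exact h
    · omega
  have hndvd : ¬ q ∣ 9 * 2 ^ a := fun h => by
    rcases hq.dvd_mul.1 h with h1 | h1
    · exact hq3 ((Nat.prime_dvd_prime_iff_eq hq Nat.prime_three).1 (hq.dvd_of_dvd_pow (show q ∣ 3 ^ 2 from h1)))
    · exact hq2 ((Nat.prime_dvd_prime_iff_eq hq Nat.prime_two).1 (hq.dvd_of_dvd_pow h1))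
  have hvan : ∀ z : G, q ∣ orderOf z → (χ : G → ℂ) z = 0 := fun z hz =>
    Perm.ThreePrimeOrder.vanish_of_full hq (by
      rw [hcard, hdeg, Nat.mul_div_cancel _ hq.pos]; exact hndvd) hz
  have hle : zpowers y ≤ centralizer ({y} : Set G) :=
    zpowers_le.2 (mem_centralizer_singleton_iff.2 rfl)
  have hyC : Nat.card (zpowers y) = q := by rw [Nat.card_zpowers, hy]
  have hnone : ∀ p : ℕ, p.Prime → p ∣ Nat.card (centralizer ({y} : Set G)) → p = q := by
    intro p hp hpd
    by_contra hne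
    haveI := Fact.mk hp
    obtain ⟨w, hw⟩ := exists_prime_orderOf_dvd_card' p hpd
    rw [← Subgroup.orderOf_coe] at hw
    have hcom : Commute y (w : G) := (mem_centralizer_singleton_iff.1 w.2).symm
    have hco : q.Coprime p := (Nat.coprime_primes hq hp).2 (Ne.symm hne)
    have h1 : (χ : G → ℂ) 1 = ((q : ℤ) : ℂ) := by rw [apply_one_eq_charDegree, hdeg, Int.cast_natCast]
    obtain ⟨m, hm⟩ := sum_mixed (IsIrr.isCharacter χ.2) hy hw hco hcom (c := 0) (fun i j hi => by
      refine hvan _ ?_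
      have hoi : orderOf (y ^ i) = q := by
        rw [Nat.Coprime.orderOf_pow]
        · exact hy
        · rw [hy]; exact hq.coprime_iff_not_dvd.2 hi
      rw [(hcom.pow_pow i j).orderOf_mul_eq_mul_orderOf_of_coprime, hoi]
      · exact dvd_mul_right _ _
      · rw [hoi]
        exact Nat.Coprime.coprime_dvd_right (orderOf_pow_dvd j) (by rw [hw]; exact hco))
    rw [mul_zero, add_zero] at hm
    obtain ⟨v, hv⟩ := hrat.exists_int (w : G)
    have hw1 : (w : G) ≠ 1 := fun e => hp.ne_one (by rw [← hw, e, orderOf_one])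
    have hvlt := lt_degree h1 (by exact_mod_cast hq.one_lt) hw1 hv
    have hpG : p ∣ Nat.card G := hw ▸ orderOf_dvd_natCard (w : G)
    rw [hcard, show (9 : ℕ) = 3 ^ 2 by norm_num] at hpG
    have hp23 : p = 2 ∨ p = 3 := by
      rcases hp.dvd_mul.1 hpG with h | h
      · rcases hp.dvd_mul.1 h with h | h
        · exact Or.inr ((Nat.prime_dvd_prime_iff_eq hp Nat.prime_three).1 (hp.dvd_of_dvd_pow h))
        · exact Or.inl ((Nat.prime_dvd_prime_iff_eq hp Nat.prime_two).1 (hp.dvd_of_dvd_pow h))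
      · exact absurd ((Nat.prime_dvd_prime_iff_eq hp hq).1 h) hne
    have hsum : ∑ j ∈ Finset.range p, (χ : G → ℂ) ((w : G) ^ j) = (q : ℂ) + ((p : ℂ) - 1) * v := by
      have h0 : (0 : ℕ) ∈ Finset.range p := Finset.mem_range.2 hp.pos
      rw [← Finset.add_sum_erase _ _ h0, pow_zero, h1,
        Finset.sum_congr rfl (g := fun _ => (v : ℂ)) (fun i hi => by
          rw [hrat.apply_pow _ (hw ▸ ((hp.coprime_iff_not_dvd).2 fun hd =>
            absurd (Nat.le_of_dvd (Nat.pos_of_ne_zero (Finset.ne_of_mem_erase hi)) hd)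
              (not_le.2 (Finset.mem_range.1 (Finset.mem_of_mem_erase hi)))).symm), hv]),
        Finset.sum_const, Finset.card_erase_of_mem h0, Finset.card_range, nsmul_eq_mul,
        Nat.cast_sub hp.one_le, Nat.cast_one, Int.cast_natCast]
    rw [hsum] at hm
    have hm' : (q : ℤ) + ((p : ℤ) - 1) * v = (q : ℤ) * p * m := by exact_mod_cast hm
    have hqodd : ¬ (2 : ℤ) ∣ q := by
      rw [show (2 : ℤ) = ((2 : ℕ) : ℤ) by rfl, Int.natCast_dvd_natCast]
      exact fun h => hq2 ((Nat.prime_dvd_prime_iff_eq Nat.prime_two hq).1 h).symm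
    have habs : -(q : ℤ) ≤ v := by
      have hle' := IsChar.norm_le (IsIrr.isCharacter χ.2) (w : G)
      rw [hv, h1, Complex.norm_intCast, Complex.norm_intCast] at hle'
      have h2 : |v| ≤ |(q : ℤ)| := by exact_mod_cast hle'
      rw [Nat.abs_cast] at h2
      exact neg_le_of_abs_le h2
    rcases hp23 with rfl | rfl
    · have h4 := Perm.ThreePrimeOrder.four_dvd_degree_sub hperf χ (u := (w : G))
        (by rw [← pow_two, ← hw, pow_orderOf_eq_one]) hv
      rw [hdeg] at h4
      push_cast at hm'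
      have hm0 : m = 0 := by
        by_contra h
        have : (1 : ℤ) ≤ m := by exact_mod_cast Nat.one_le_iff_ne_zero.2 h
        nlinarith
      subst hm0
      omega
    · push_cast at hm'
      obtain ⟨t, rfl⟩ : (q : ℤ) ∣ v := by
        have hd : (q : ℤ) ∣ 2 * v := ⟨3 * m - 1, by linear_combination hm'⟩
        rcases (Nat.prime_iff_prime_int.1 hq).dvd_or_dvd hd with h | h
        · exact absurd (Int.le_of_dvd two_pos h) (by omega)
        · exact h
      have ht1 : t < 1 := by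
        by_contra hc
        nlinarith
      have ht2 : -1 ≤ t := by
        by_contra hc
        nlinarith [show t ≤ -2 by omega]
      have he : 1 + 2 * t = 3 * (m : ℤ) :=
        mul_left_cancel₀ (show (q : ℤ) ≠ 0 by omega) (by linear_combination hm')
      omega
  refine (eq_of_le_of_card_ge hle ?_).symm
  rw [hyC]
  set c := Nat.card (centralizer ({y} : Set G))
  have hc : c ∣ 9 * 2 ^ a * q := hcard ▸ Subgroup.card_subgroup_dvd_card _
  obtain ⟨c', hc'⟩ : q ∣ c := hyC ▸ Subgroup.card_dvd_of_le hle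
  by_contra hgt
  have hc1 : c' ≠ 1 := fun e => hgt (by rw [hc', e, mul_one])
  obtain ⟨p, hp, hpd⟩ := Nat.exists_prime_and_dvd hc1
  have := hnone p hp (hc' ▸ hpd.mul_left q)
  subst this
  refine hndvd (hpd.trans ?_)
  rw [hc', mul_comm (9 * 2 ^ a)] at hc
  exact Nat.dvd_of_mul_dvd_mul_left hp.pos hc

set_option maxHeartbeats 1000000 in
theorem no_big_prime [IsSimpleGroup G] (hperf : _root_.commutator G = ⊤) (hq : q.Prime)
    (hcard : Nat.card G = 9 * 2 ^ a * q ^ b)
    (hbig : (∃ i, 7 ≤ i ∧ q + 1 = 2 ^ i) ∨ ∃ i, 8 ≤ i ∧ q = 2 ^ i + 1)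
    {χ : IrrCharacter G} (hrat : IsRat χ) (hdeg : charDegree (χ : G → ℂ) = q) : False := by
  classical
  haveI := Fact.mk hq
  haveI := Fintype.ofFinite G
  have hq127 : 127 ≤ q := by
    rcases hbig with ⟨i, hi, e⟩ | ⟨i, hi, e⟩
    · have := Nat.pow_le_pow_right (show 0 < 2 by norm_num) hi
      omega
    · have := Nat.pow_le_pow_right (show 0 < 2 by norm_num) hi
      omega
  have hq2 : q ≠ 2 := by omega
  have hq3 : q ≠ 3 := by omega
  have hndvd : ¬ q ∣ 9 * 2 ^ a := fun h => by
    rcases hq.dvd_mul.1 h with h1 | h1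
    · have := Nat.le_of_dvd (by norm_num) h1; omega
    · have := (Nat.prime_dvd_prime_iff_eq hq Nat.prime_two).1 (hq.dvd_of_dvd_pow h1); omega
  have hdG : q ∣ Nat.card G := hdeg ▸ Blocks.charDegree_dvd_card χ
  obtain rfl : b = 1 := by
    rcases (show b = 0 ∨ b = 1 ∨ 2 ≤ b by omega) with h | h | h
    · exfalso; rw [hcard, h, pow_zero, mul_one] at hdG; exact hndvd hdG
    · exact h
    · exact absurd (by rw [hcard]; exact dvd_mul_of_dvd_right (pow_dvd_pow q h) _)
        (hrat.not_sq_dvd hq hq2 hdeg)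
  rw [pow_one] at hcard
  -- the Sylow subgroup
  obtain ⟨Q⟩ := Sylow.nonempty (p := q) (G := G)
  have hQ : Nat.card (Q : Subgroup G) = q := by
    rw [Q.card_eq_multiplicity, hcard, Nat.factorization_mul (by positivity) hq.ne_zero,
      Finsupp.add_apply, Nat.factorization_eq_zero_of_not_dvd hndvd, hq.factorization_self,
      zero_add, pow_one]
  haveI : IsCyclic (Q : Subgroup G) := isCyclic_of_prime_card hQ
  have hord : ∀ y ∈ (Q : Subgroup G), y ≠ 1 → orderOf y = q := fun y hy hy1 => by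
    have hd := Subgroup.orderOf_dvd_natCard (Q : Subgroup G) hy
    rw [hQ, Nat.dvd_prime hq] at hd
    exact hd.resolve_left fun e => hy1 (orderOf_eq_one_iff.1 e)
  have hgen : ∀ y ∈ (Q : Subgroup G), y ≠ 1 → centralizer ({y} : Set G) = (Q : Subgroup G) := by
    intro y hy hy1
    rw [centralizer_eq hperf hq hq2 hq3 hcard hrat hdeg (hord y hy hy1)]
    exact eq_of_le_of_card_ge (zpowers_le.2 hy) (by rw [hQ, Nat.card_zpowers, hord y hy hy1])
  obtain ⟨y0, hy0, hy01⟩ := (Q : Subgroup G).bot_or_exists_ne_one.resolve_left fun e => by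
    rw [e, card_bot] at hQ; omega
  have hcQ : centralizer ((Q : Subgroup G) : Set G) = (Q : Subgroup G) := by
    refine le_antisymm ?_ ?_
    · exact le_of_le_of_eq (centralizer_le (Set.singleton_subset_iff.2 hy0)) (hgen y0 hy0 hy01)
    · exact fun x hx => mem_centralizer_iff.2 fun z hz => by
        exact congrArg Subtype.val (mul_comm' (⟨z, hz⟩ : (Q : Subgroup G)) ⟨x, hx⟩)
  set m := (centralizer ((Q : Subgroup G) : Set G)).relIndex (normalizer ((Q : Subgroup G) : Set G)) with hm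
  have S : Automizer.Setting q Q m := by
    refine ⟨fun x hx y hy => ?_, rfl, fun y hy hy1 => ?_⟩
    · exact congrArg Subtype.val (mul_comm' (⟨x, hx⟩ : (Q : Subgroup G)) ⟨y, hy⟩)
    · rw [hgen y hy hy1, hcQ, inf_eq_left]
      exact le_normalizer
  have hN : Nat.card (normalizer ((Q : Subgroup G) : Set G)) = m * q := by
    rw [hm, hcQ]
    rw [Perm.SelfCentDegree.card_subgroupOf_normalizer, hQ]
  have hmq : m ∣ q - 1 := by
    rw [← Automizer.card_aut S]
    refine (Subgroup.card_subgroup_dvd_card _).trans ?_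
    rw [IsCyclic.card_mulAut, hQ, Nat.totient_prime hq]
  set n0 := Nat.card (Sylow q G) with hn0
  have hn0m : n0 * m = 9 * 2 ^ a := by
    have h1 := Subgroup.index_mul_card (normalizer ((Q : Subgroup G) : Set G))
    rw [hn0, Q.card_eq_index_normalizer]
    rw [hN, hcard, ← mul_assoc] at h1
    exact Nat.eq_of_mul_eq_mul_right hq.pos h1
  have hn01 : n0 % q = 1 := by
    have h1 := card_sylow_modEq_one q G
    rw [Nat.ModEq, Nat.mod_eq_of_lt hq.one_lt] at h1
    exact h1
  rcases hbig with ⟨i, hi, hqi⟩ | ⟨i, hi, hqi⟩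
  swap
  · -- Fermat
    rw [hqi, Nat.add_sub_cancel] at hmq
    obtain ⟨l, -, hl⟩ := (Nat.dvd_prime_pow Nat.prime_two).1 hmq
    rw [hl] at hn0m
    obtain ⟨c, j, hc, -, he⟩ := exists_mul_two_pow (k := n0) ⟨2 ^ l, hn0m.symm⟩
    rw [he, mul_assoc, ← pow_add] at hn0m
    have hc9 : c = 9 := by
      have h9 : 9 ∣ c * 2 ^ (j + l) := hn0m ▸ dvd_mul_right _ _
      exact Nat.dvd_antisymm hc (((show Nat.Coprime 9 2 by norm_num).pow_right (j + l)).dvd_of_dvd_mul_right h9)
    rw [he, hc9] at hn01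
    exact fermat_ne hi hqi hn01
  -- Mersenne
  have h128 : 2 ^ 7 ≤ 2 ^ i := Nat.pow_le_pow_right (by norm_num) hi
  obtain ⟨c, j, hc, hja, he⟩ := exists_mul_two_pow (k := n0) ⟨m, hn0m.symm⟩
  rw [he] at hn01
  obtain rfl := mersenne_c hi hqi hc hn01
  rw [he, one_mul] at hn0m
  have hm9 : m = 9 * 2 ^ (a - j) := by
    have : 2 ^ j * m = 2 ^ j * (9 * 2 ^ (a - j)) := by
      rw [hn0m, show 2 ^ j * (9 * 2 ^ (a - j)) = 9 * (2 ^ j * 2 ^ (a - j)) by ring, ← pow_add,
        Nat.add_sub_cancel' hja]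
    exact Nat.eq_of_mul_eq_mul_left (pow_pos two_pos j) this
  have hm' : m = 9 ∨ m = 18 := by
    have h2 : 2 ^ (a - j) ∣ 2 ^ i - 2 := by
      rw [show 2 ^ i - 2 = q - 1 by omega]
      exact (dvd_mul_left _ _).trans (hm9 ▸ hmq)
    rcases (show a - j = 0 ∨ a - j = 1 ∨ 2 ≤ a - j by omega) with e | e | e
    · left; rw [hm9, e]; norm_num
    · right; rw [hm9, e]; norm_num
    · exfalso
      have h4 : 4 ∣ 2 ^ i - 2 := (pow_dvd_pow 2 e).trans h2
      have h4' : 4 ∣ 2 ^ i := pow_dvd_pow 2 (show 2 ≤ i by omega)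
      omega
  obtain ⟨M, hM⟩ := CfsgLib.ZStar.exists_isPModular hq
  haveI := hM.2.1.isPrime
  haveI := Fintype.ofFinite (Q : Subgroup G)
  obtain ⟨s, X, Y, -, hB, -, -, hY, htriv, av, d, δ, ζ, hδ, ha, hζY, hYζ, -, hval, hnorm, -, hrel⟩ :=
    Automizer.exists_config S hM (by rw [hQ]; omega)
  rw [hQ] at hY hnorm hrel
  set n := (q - 1) / m with hn
  have hnm : n * m = q - 1 := Nat.div_mul_cancel hmq
  have hn1 : 1 ≤ n := by
    rcases Nat.eq_zero_or_pos n with e | e
    · rw [e, zero_mul] at hnm; omega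
    · exact e
  have hδ1 : δ = 1 ∨ δ = -1 := hδ
  have hnz : ((q : ℤ) - 1) / (m : ℤ) = n := by
    have : (q : ℤ) - 1 = (n : ℤ) * m := by
      rw [← Nat.cast_mul, hnm]; omega
    rw [this, Int.mul_ediv_cancel _ (by omega)]
  rw [hnz] at hnorm
  have hfin := Set.toFinite X
  rw [finsum_mem_eq_finite_toFinset_sum _ hfin] at hnorm
  have hav1 : av (trivChar G) = 1 := by
    have h := (ha _ htriv).2 ⟨y0, hy0⟩ fun e => hy01 (congrArg Subtype.val e)
    rw [trivChar_apply] at h
    exact_mod_cast h.symm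
  have hxsum : ∀ χ' ∈ X, av χ' * av χ' ≤ ∑ ψ ∈ hfin.toFinset, av ψ ^ 2 := fun χ' hχ' => by
    rw [← pow_two]
    exact Finset.single_le_sum (f := fun ψ => av ψ ^ 2) (fun ψ _ => sq_nonneg _) (hfin.mem_toFinset.2 hχ')
  have hX1 : 1 ≤ ∑ ψ ∈ hfin.toFinset, av ψ ^ 2 := by
    have := hxsum _ htriv
    rw [hav1] at this
    linarith
  have hd0 : (d ^ 2) * ((n : ℤ) - 1) ≤ m := by nlinarith [sq_nonneg (d - δ)]
  have hav19 : ∀ χ' ∈ X, av χ' * av χ' ≤ 19 := fun χ' hχ' => by
    have h1 := hxsum χ' hχ'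
    have h2 : (0 : ℤ) ≤ ((n : ℤ) - 1) * d ^ 2 := mul_nonneg (by omega) (sq_nonneg d)
    have h3 : (m : ℤ) ≤ 18 := by omega
    nlinarith [sq_nonneg (d - δ)]
  -- degrees of the members of `X`
  have hdvdX : ∀ χ' ∈ X, χ' ≠ trivChar G → (2 ^ i : ℤ) ∣ charDegree (χ' : G → ℂ) := by
    intro χ' hχ' hne
    obtain ⟨hne0, hval'⟩ := ha χ' hχ'
    set D := charDegree (χ' : G → ℂ) with hD
    have h1 : (χ' : G → ℂ) 1 = ((D : ℤ) : ℂ) := by rw [apply_one_eq_charDegree, Int.cast_natCast]
    have hy0q := hord y0 hy0 hy01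
    obtain ⟨m1, hm1⟩ := sum_prime (IsIrr.isCharacter χ'.2) hq hy0q h1 (v := av χ') (fun k hk hk0 =>
      hval' ⟨y0 ^ k, pow_mem hy0 k⟩ fun e => by
        have h' := congrArg Subtype.val e
        exact absurd (Nat.le_of_dvd (Nat.pos_of_ne_zero hk0) (hy0q ▸ orderOf_dvd_of_pow_eq_one h'))
          (not_le.2 hk))
    have hD1 : 1 < (D : ℤ) := by
      have h0 := CharDegree.charDegree_pos χ'
      have : D ≠ 1 := fun e => hne (Perm.SelfCentDegree.eq_trivChar_of_degree_one hperf χ'
        (by rw [apply_one_eq_charDegree, ← hD, e, Nat.cast_one]))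
      omega
    have hlt := lt_degree h1 hD1 hy01 (hval' ⟨y0, hy0⟩ fun e => hy01 (congrArg Subtype.val e))
    have hq1 : (1 : ℤ) < q := by omega
    have hDlo : q - 1 ≤ D := by
      have hlt' := mul_lt_mul_of_pos_left hlt (show (0 : ℤ) < (q : ℤ) - 1 by omega)
      have hpos : (m1 : ℤ) < D :=
        lt_of_mul_lt_mul_left (a := (q : ℤ)) (by linarith) (by omega)
      have hprod : (D : ℤ) - m1 = ((q : ℤ) - 1) * ((m1 : ℤ) - av χ') := by linear_combination hm1
      have : (q : ℤ) - 1 ≤ D := by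
        rcases le_or_gt (m1 : ℤ) (av χ') with h | h
        · exfalso
          have := mul_nonpos_of_nonneg_of_nonpos (show (0 : ℤ) ≤ (q : ℤ) - 1 by omega) (sub_nonpos.2 h)
          omega
        · have := mul_le_mul_of_nonneg_left (show (1 : ℤ) ≤ (m1 : ℤ) - av χ' by omega)
            (show (0 : ℤ) ≤ (q : ℤ) - 1 by omega)
          omega
      omega
    have hqd : (q : ℤ) ∣ (D : ℤ) - av χ' := ⟨(m1 : ℤ) - av χ', by linear_combination hm1⟩
    have hDd : D ∣ 9 * 2 ^ a := by
      have h := Blocks.charDegree_dvd_card χ'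
      rw [hcard, ← hD] at h
      refine Nat.Coprime.dvd_of_dvd_mul_right ?_ h
      refine ((hq.coprime_iff_not_dvd).2 fun hqD => ?_).symm
      have h2 : (q : ℤ) ∣ av χ' := by
        have h3 := dvd_sub (Int.natCast_dvd_natCast.2 hqD) hqd
        rwa [sub_sub_cancel] at h3
      have h4 := Int.le_of_dvd (by positivity : (0 : ℤ) < |av χ'|) ((dvd_abs _ _).2 h2)
      have h5 := hav19 χ' hχ'
      nlinarith [abs_mul_abs_self (av χ')]
    obtain ⟨c', A, hc', -, hDe⟩ := exists_mul_two_pow hDd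
    rw [hDe] at hqd hDlo ⊢
    have h := mersenne_dvd hi hqi hc' (hav19 χ' hχ') hqd hDlo
    have h' : ((2 ^ i : ℕ) : ℤ) ∣ ((c' * 2 ^ A : ℕ) : ℤ) := Int.natCast_dvd_natCast.2 h
    push_cast at h' ⊢
    exact h'
  -- an exceptional character
  obtain ⟨η, hη⟩ : Y.Nonempty := by
    by_contra hc
    rw [Set.not_nonempty_iff_eq_empty] at hc
    rw [hc, Nat.card_coe_set_eq, Set.ncard_empty] at hY
    omega
  have h10 : ¬ q ∣ orderOf (1 : G) := by rw [orderOf_one]; exact hq.not_dvd_one
  have hr := hrel η hη 1 h10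
  rw [finsum_mem_eq_finite_toFinset_sum _ hfin,
    ← Finset.add_sum_erase _ _ (hfin.mem_toFinset.2 htriv), hav1] at hr
  simp only [apply_one_eq_charDegree] at hr
  set f := charDegree (η : G → ℂ) with hf
  have htd : charDegree (trivChar G : G → ℂ) = 1 := CharDegree.charDegree_one
  rw [htd] at hr
  have hr' : ((n : ℤ) * d - δ) * f + (1 + ∑ χ' ∈ hfin.toFinset.erase (trivChar G),
      av χ' * (charDegree (χ' : G → ℂ) : ℤ)) = 0 := by
    push_cast at hr
    refine Int.cast_injective (α := ℂ) ?_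
    push_cast
    linear_combination hr
  obtain ⟨K, hK⟩ : (2 ^ i : ℤ) ∣ ∑ χ' ∈ hfin.toFinset.erase (trivChar G),
      av χ' * (charDegree (χ' : G → ℂ) : ℤ) := Finset.dvd_sum fun χ' hχ' => by
    obtain ⟨h1, h2⟩ := Finset.mem_erase.1 hχ'
    exact dvd_mul_of_dvd_right (hdvdX χ' (hfin.mem_toFinset.1 h2) h1) _
  rw [hK] at hr'
  by_cases hd : d = 0
  swap
  · have hd2 : (1 : ℤ) ≤ d ^ 2 := by
      have := Int.one_le_abs hd
      nlinarith [sq_abs d]
    have hn19 : (n : ℤ) - 1 ≤ m := by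
      have : (0 : ℤ) ≤ (n : ℤ) - 1 := by omega
      nlinarith
    have hn19' : n ≤ 19 := by omega
    have hq343 : q ≤ 343 := by
      have : q - 1 ≤ 19 * 18 := hnm ▸ Nat.mul_le_mul hn19' (by omega)
      omega
    have hi8 : i ≤ 8 := by
      by_contra h
      have := Nat.pow_le_pow_right (show 0 < 2 by norm_num) (show 9 ≤ i by omega)
      omega
    obtain rfl : i = 7 := by
      rcases (show i = 7 ∨ i = 8 by omega) with e | e
      · exact e
      · exfalso
        rw [e] at hqi
        have : q = 255 := by omega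
        rw [this] at hq
        norm_num at hq
    have hq' : q = 127 := by omega
    subst hq'
    rcases hm' with e | e <;> rw [e] at hnm hd0
    · have : n = 14 := by omega
      rw [this] at hd0
      push_cast at hd0
      nlinarith
    · have hn7 : n = 7 := by omega
      rw [hn7] at hd0 hr'
      push_cast at hd0 hr'
      have hd1 : d = 1 ∨ d = -1 := by
        have : -2 < d := by nlinarith
        have : d < 2 := by nlinarith
        omega
      rcases hd1 with rfl | rfl <;> rcases hδ1 with rfl | rfl <;> norm_num at hr' <;> omega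
  subst hd
  simp only [mul_zero, zero_sub] at hr'
  -- the sum over the Sylow subgroup
  obtain ⟨ψ, hψ, rfl⟩ := hYζ η hη
  obtain ⟨t, ht⟩ := Perm.CharAverage.exists_sum_eq (Q : Subgroup G) (IsIrr.isCharacter (ζ ψ).2)
  haveI := Fintype.ofFinite (Automizer.aut Q)
  haveI := Automizer.finite_lin S
  have hinj : Function.Injective (fun b : Automizer.aut Q => Automizer.twist S b ψ) :=
    fun b b' h => Automizer.twist_inj S hψ h
  have hne1 : ∀ b : Automizer.aut Q, Automizer.twist S b ψ ≠ 1 := fun b e => hψ (by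
    have h' := congrArg (Automizer.twist S b⁻¹) e
    rwa [Automizer.twist_twist, mul_inv_cancel, Automizer.twist_id, Automizer.twist_one] at h')
  rw [← Finset.add_sum_erase _ _ (Finset.mem_univ (1 : (Q : Subgroup G))), OneMemClass.coe_one,
    apply_one_eq_charDegree, ← hf,
    Finset.sum_congr rfl (g := fun x => (δ : ℂ) * ∑ b : Automizer.aut Q, (Automizer.twist S b ψ x : ℂ))
      (fun x hx => by
        rw [hval ψ hψ x (Finset.ne_of_mem_erase hx), finsum_mem_range hinj, finsum_eq_sum_of_fintype,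
          Int.cast_zero, zero_add]),
    ← Finset.mul_sum, Finset.sum_comm,
    Finset.sum_congr rfl (g := fun _ => (-1 : ℂ)) (fun b _ => by
      have h' := Automizer.sum_apply S (Automizer.twist S b ψ)
      rw [if_neg (hne1 b), ← Finset.add_sum_erase _ _ (Finset.mem_univ (1 : (Q : Subgroup G))),
        map_one, Units.val_one] at h'
      linear_combination h'),
    Finset.sum_const, Finset.card_univ, ← Nat.card_eq_fintype_card, Automizer.card_aut S, hQ,
    nsmul_eq_mul] at ht
  have ht' : (f : ℤ) - δ * m = q * t := by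
    refine Int.cast_injective (α := ℂ) ?_
    push_cast
    linear_combination ht
  have hfq : f ∣ 9 * 2 ^ a := by
    have h := Blocks.charDegree_dvd_card (ζ ψ)
    rw [hcard] at h
    refine Nat.Coprime.dvd_of_dvd_mul_right ?_ h
    refine ((hq.coprime_iff_not_dvd).2 fun hqf => ?_).symm
    obtain ⟨u, hu⟩ := hqf
    have h2 : (q : ℤ) ∣ m := by
      refine ⟨δ * ((u : ℤ) - t), ?_⟩
      have hu' : (f : ℤ) = q * u := by exact_mod_cast hu
      rcases hδ1 with rfl | rfl
      · linear_combination hu' - ht'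
      · linear_combination ht' - hu'
    have h3 := Int.le_of_dvd (by omega) h2
    omega
  obtain ⟨c', A, hc', -, hfe⟩ := exists_mul_two_pow hfq
  have hodd : (2 : ℤ) ∣ 2 ^ i := dvd_pow_self _ (by omega)
  have hA : A = 0 := by
    by_contra hA
    have h2 : (2 : ℤ) ∣ f := by
      rw [hfe]; push_cast
      exact dvd_mul_of_dvd_right (dvd_pow_self _ hA) _
    have h1 : (2 : ℤ) ∣ 1 := by
      have h3 : (1 : ℤ) = δ * f - 2 ^ i * K := by linear_combination hr'
      rw [h3]
      exact dvd_sub (dvd_mul_of_dvd_right h2 _) (dvd_mul_of_dvd_left hodd _)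
    norm_num at h1
  rw [hA, pow_zero, mul_one] at hfe
  have hf9 : f ≤ 9 := hfe ▸ Nat.le_of_dvd (by norm_num) hc'
  have hP : (128 : ℤ) ≤ 2 ^ i := by exact_mod_cast h128
  have hfδ : δ * (f : ℤ) = 1 := by
    have h3 : δ * f - 1 = 2 ^ i * K := by linear_combination -hr'
    have hb : -10 ≤ δ * (f : ℤ) ∧ δ * (f : ℤ) ≤ 9 := by rcases hδ1 with rfl | rfl <;> omega
    rcases lt_trichotomy K 0 with hK0 | hK0 | hK0
    · have := mul_le_mul_of_nonneg_left (show K ≤ -1 by omega) (show (0 : ℤ) ≤ 2 ^ i by omega)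
      omega
    · rw [hK0, mul_zero] at h3; omega
    · have := mul_le_mul_of_nonneg_left (show 1 ≤ K by omega) (show (0 : ℤ) ≤ 2 ^ i by omega)
      omega
  obtain rfl : δ = 1 := by
    rcases hδ1 with rfl | rfl
    · rfl
    · omega
  have hq1 : (q : ℤ) ∣ (m : ℤ) - 1 := ⟨-(t : ℤ), by linear_combination -ht' + hfδ⟩
  have := Int.le_of_dvd (by omega) hq1
  omega

end CfsgLib.Known.ThreeClasses
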