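import Cfsg.Agent.Lib.Known.ThreeClasses.KBlock
import Cfsg.Agent.Lib.Blocks.CentralProductPrincipal
import Cfsg.Agent.Lib.Blocks.QuotientBlocks
import Mathlib.GroupTheory.Transfer

/-!
# The regular part of the principal block when an element of order three is central

A Sylow 3-subgroup `⟨x, y⟩` of order nine with `x` central and `y` inverted: the group is
`⟨x⟩ × K` and the block is three times that of `K`.
-/

set_option autoImplicit false
set_option linter.all false

namespace CfsgLib.Known.ThreeClasses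

open Cfsg CfsgLib.Char CfsgLib.CharDegree CfsgLib.Blocks Subgroup
open scoped ComplexConjugate

universe u

variable {C : Type u} [Group C] [Finite C]

/-- The data on regular elements. -/
structure Sect (M : Ideal AlgInt) (U : C → ℂ) (u : ℤ) : Prop where
  sum : ∀ k k' : C, ¬ 3 ∣ orderOf k → ¬ 3 ∣ orderOf k' →
    ∑ᶠ ψ ∈ principalBlock M C, (ψ : C → ℂ) k * conj ((ψ : C → ℂ) k') =
      3 * (1 + U k * U k' + (1 + U k) * (1 + U k'))
  span : ∀ ψ ∈ principalBlock M C, ∃ c e : ℤ, ∀ k : C, ¬ 3 ∣ orderOf k → (ψ : C → ℂ) k = c + e * U k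
  one : U 1 = u
  mod_three : u % 3 = 1
  dvd_left : u.natAbs ∣ Nat.card C
  dvd_right : (-1 - u).natAbs ∣ Nat.card C
  int : ∀ k : C, ¬ 3 ∣ orderOf k → ∃ v : ℤ, U k = v
  move : ∃ k : C, ¬ 3 ∣ orderOf k ∧ U k ≠ u
  map_inv : ∀ k : C, ¬ 3 ∣ orderOf k → U k⁻¹ = U k
  invariant : ∀ (α : C ≃* C) (k : C), ¬ 3 ∣ orderOf k → U (α k) = U k

omit [Finite C] in
theorem map_regular_closure (α : C ≃* C) :
    (closure {c : C | ¬ 3 ∣ orderOf c}).map α.toMonoidHom = closure {c : C | ¬ 3 ∣ orderOf c} := by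
  rw [MonoidHom.map_closure]
  congr 1
  ext c
  constructor
  · rintro ⟨d, hd, rfl⟩
    show ¬ 3 ∣ orderOf (α d)
    rw [MulEquiv.orderOf_eq]; exact hd
  · intro hc
    refine ⟨α.symm c, ?_, α.apply_symm_apply c⟩
    show ¬ 3 ∣ orderOf (α.symm c)
    rw [MulEquiv.orderOf_eq]; exact hc

set_option maxHeartbeats 1000000 in
theorem exists_sect {M : Ideal AlgInt} [M.IsPrime] (hM : IsPModular 3 M) {P : Sylow 3 C}
    (hP : Nat.card (P : Subgroup C) = 9) (hab : ∀ g ∈ (P : Subgroup C), ∀ h ∈ (P : Subgroup C), g * h = h * g)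
    {x y n : C} (hx : x ∈ (P : Subgroup C)) (hy : y ∈ (P : Subgroup C)) (hx1 : x ≠ 1) (hx3 : x ^ 3 = 1)
    (hy3 : y ^ 3 = 1) (hyx : y ∉ zpowers x) (hcen : ∀ c : C, c * x = x * c)
    (hinv : n * y * n⁻¹ = y⁻¹) (hn : ¬ 3 ∣ orderOf n) :
    ∃ (U : C → ℂ) (u : ℤ), Sect M U u := by
  classical
  haveI : Fact (Nat.Prime 3) := ⟨Nat.prime_three⟩
  haveI := Fintype.ofFinite C
  set K := closure {c : C | ¬ 3 ∣ orderOf c} with hK
  haveI hKn : K.Normal := ⟨fun c hc g => by
    have := map_regular_closure (MulAut.conj g)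
    rw [hK, ← this]
    exact ⟨c, hc, rfl⟩⟩
  have hregK : ∀ c : C, ¬ 3 ∣ orderOf c → c ∈ K := fun c hc => subset_closure hc
  have hyK : y ∈ K := by
    have hnK := hregK n hn
    have h2 : n * y * n⁻¹ * y⁻¹ ∈ K := by
      rw [show n * y * n⁻¹ * y⁻¹ = n * (y * n⁻¹ * y⁻¹) by group]
      exact mul_mem hnK (hKn.conj_mem _ (inv_mem hnK) y)
    rw [hinv, show y⁻¹ * y⁻¹ = y by
      rw [← mul_inv_rev, inv_eq_iff_mul_eq_one, ← pow_two, ← pow_succ]; exact hy3] at h2
    exact h2
  -- the transfer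
  have hxK : x ∉ K := by
    letI : CommGroup (P : Subgroup C) :=
      { (inferInstance : Group (P : Subgroup C)) with
        mul_comm := fun g h => Subtype.ext (hab g g.2 h h.2) }
    let τ : C →* (P : Subgroup C) := MonoidHom.transfer (MonoidHom.id (P : Subgroup C))
    have hle : K ≤ τ.ker := by
      rw [hK, closure_le]
      intro c hc
      have h1 : orderOf (τ c) ∣ orderOf c := orderOf_map_dvd τ c
      have h2 : orderOf (τ c) ∣ 3 ^ 2 := by
        rw [show (3 : ℕ) ^ 2 = 9 by norm_num, ← hP]; exact orderOf_dvd_natCard _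
      obtain ⟨i, -, hi⟩ := (Nat.dvd_prime_pow Nat.prime_three).1 h2
      rw [SetLike.mem_coe, MonoidHom.mem_ker, ← orderOf_eq_one_iff, hi]
      rcases i with _ | i
      · rfl
      · exact absurd ((dvd_pow_self 3 (Nat.succ_ne_zero i)).trans (hi ▸ h1)) hc
    intro hxk
    have h := hle hxk
    rw [MonoidHom.mem_ker, MonoidHom.transfer_eq_pow (MonoidHom.id (P : Subgroup C)) x (fun k g₀ _ => by
      have hc : Commute g₀ (x ^ k) := Commute.pow_right (hcen g₀) k
      rw [mul_assoc, ← hc.eq, inv_mul_cancel_left])] at h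
    have h' : x ^ (P : Subgroup C).index = 1 := congrArg Subtype.val h
    refine P.not_dvd_index ?_
    have ho : orderOf x = 3 := orderOf_eq_prime hx3 hx1
    have := orderOf_dvd_of_pow_eq_one h'
    rwa [ho] at this
  have hox : orderOf x = 3 := orderOf_eq_prime hx3 hx1
  set Z := zpowers x with hZ
  have hZc : ∀ u ∈ Z, ∀ v : C, u * v = v * u := by
    rintro u ⟨i, rfl⟩ v
    exact ((Commute.zpow_left (show Commute x v from (hcen v).symm)) i).eq
  haveI hZn : Z.Normal := ⟨fun u hu g => by rw [← hZc u hu g, mul_inv_cancel_right]; exact hu⟩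
  have hdisj : Z ⊓ K = ⊥ := by
    rw [eq_bot_iff]
    rintro c ⟨hcZ, hcK⟩
    rw [mem_bot]
    by_contra hc1
    refine hxK ?_
    have hoc : orderOf c = 3 := by
      have hd := Subgroup.orderOf_dvd_natCard Z hcZ
      rw [hZ, Nat.card_zpowers, hox, Nat.dvd_prime Nat.prime_three] at hd
      exact hd.resolve_left fun e => hc1 (orderOf_eq_one_iff.1 e)
    have hzc : zpowers c = Z := eq_of_le_of_card_ge (zpowers_le.2 hcZ) (by
      rw [Nat.card_zpowers, Nat.card_zpowers, hoc, hox])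
    exact (zpowers_le.2 hcK) (hzc ▸ mem_zpowers x)
  have hPgen : (P : Subgroup C) ≤ Z ⊔ K := by
    have hdis : Z ⊓ zpowers y = ⊥ := by
      rw [eq_bot_iff]
      exact (inf_le_inf_left Z (zpowers_le.2 hyK)).trans hdisj.le
    have hoy : orderOf y = 3 := orderOf_eq_prime hy3 (fun e => hyx (by rw [show y = 1 from e]; exact one_mem _))
    have hcard : 9 ≤ Nat.card ↥(Z ⊔ zpowers y) := by
      have hz : Z ⊔ zpowers y ≤ (P : Subgroup C) := sup_le (zpowers_le.2 hx) (zpowers_le.2 hy)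
      have h1 := Subgroup.card_dvd_of_le hz
      have h2 : 3 ∣ Nat.card ↥(Z ⊔ zpowers y) := by
        have := Subgroup.card_dvd_of_le (le_sup_left : Z ≤ Z ⊔ zpowers y)
        rwa [hZ, Nat.card_zpowers, hox] at this
      rw [hP, show (9 : ℕ) = 3 ^ 2 by norm_num] at h1
      obtain ⟨i, hi, he⟩ := (Nat.dvd_prime_pow Nat.prime_three).1 h1
      rcases (show i = 0 ∨ i = 1 ∨ i = 2 by omega) with rfl | rfl | rfl
      · rw [he] at h2; norm_num at h2
      · exfalso
        refine hyx ?_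
        have hzeq : Z = Z ⊔ zpowers y := eq_of_le_of_card_ge le_sup_left (by
          rw [he, hZ, Nat.card_zpowers, hox, pow_one])
        rw [hzeq]
        exact mem_sup_right (mem_zpowers y)
      · rw [he]; norm_num
    have hPeq : Z ⊔ zpowers y = (P : Subgroup C) :=
      eq_of_le_of_card_ge (sup_le (zpowers_le.2 hx) (zpowers_le.2 hy)) (by rw [hP]; exact hcard)
    rw [← hPeq]
    exact sup_le_sup_left (zpowers_le.2 hyK) Z
  have hfactC : (Nat.card C).factorization 3 = 2 := by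
    have h := P.card_eq_multiplicity
    rw [hP, show (9 : ℕ) = 3 ^ 2 by norm_num] at h
    exact (Nat.pow_right_injective (show 2 ≤ 3 by norm_num) h).symm
  have hgen : Z ⊔ K = ⊤ := by
    rw [eq_top_iff]
    intro c _
    haveI : (Z ⊔ K).Normal := Subgroup.sup_normal Z K
    have h1 : c ^ (Z ⊔ K).index ∈ Z ⊔ K := pow_index_mem (Z ⊔ K) c
    have h9 : c ^ 9 ∈ Z ⊔ K := by
      refine mem_sup_right (hregK _ fun hd => ?_)
      have hc9 : orderOf (c ^ 9) ∣ Nat.card C / 9 := by
        refine orderOf_dvd_of_pow_eq_one ?_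
        have h9C : 9 ∣ Nat.card C := hP ▸ card_subgroup_dvd_card (P : Subgroup C)
        rw [← pow_mul, Nat.mul_div_cancel' h9C, pow_card_eq_one']
      have h3 : ¬ 3 ∣ Nat.card C / 9 := by
        have := Nat.not_dvd_ordCompl Nat.prime_three (Nat.card_pos (α := C)).ne'
        rwa [hfactC, show (3 : ℕ) ^ 2 = 9 by norm_num] at this
      exact h3 (hd.trans hc9)
    have h3i : ¬ 3 ∣ (Z ⊔ K).index := fun hd => P.not_dvd_index (hd.trans (index_dvd_of_le hPgen))
    have hco : Nat.Coprime (Z ⊔ K).index 9 :=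
      ((Nat.prime_three.coprime_iff_not_dvd.2 h3i).symm.pow_right 2)
    have hb := Nat.gcd_eq_gcd_ab (Z ⊔ K).index 9
    rw [hco] at hb
    rw [show c = c ^ ((1 : ℕ) : ℤ) by simp, hb, zpow_add, zpow_mul, zpow_mul, zpow_natCast, zpow_natCast]
    exact mul_mem (zpow_mem h1 _) (zpow_mem h9 _)
  have hcompl : IsComplement' Z K := isComplement'_of_disjoint_and_mul_eq_univ (disjoint_iff.2 hdisj) (by
    rw [← mul_normal, hgen]; rfl)
  have hcardK : 3 * Nat.card K = Nat.card C := by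
    rw [← hcompl.card_mul, hZ, Nat.card_zpowers, hox]
  have hfactK : (Nat.card K).factorization 3 = 1 := by
    have h := hfactC
    rw [← hcardK, Nat.factorization_mul (by norm_num) Nat.card_pos.ne', Finsupp.add_apply,
      Nat.prime_three.factorization_self] at h
    omega
  set y' : K := ⟨y, hyK⟩ with hy'
  have hoy' : orderOf y' = 3 := by
    rw [← Subgroup.orderOf_coe]
    exact orderOf_eq_prime hy3 (fun e => hyx (by rw [show y = 1 from e]; exact one_mem _))
  let PK : Sylow 3 K := Sylow.ofCard (zpowers y') (by rw [Nat.card_zpowers, hoy', hfactK, pow_one])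
  haveI := Fintype.ofFinite K
  obtain ⟨U0, u, hU⟩ := exists_pair (K := K) hM (P := PK) (y := y') (n := ⟨n, hregK n hn⟩)
    (by rw [Sylow.coe_ofCard, Nat.card_zpowers, hoy'])
    (by rw [Sylow.coe_ofCard]; exact mem_zpowers _)
    (fun e => by rw [e, orderOf_one] at hoy'; norm_num at hoy')
    (Subtype.ext hinv) (by rw [← Subgroup.orderOf_coe]; exact hn)
  -- restriction to `K`
  haveI := Fintype.ofFinite (IrrCharacter C)
  haveI := Fintype.ofFinite (IrrCharacter K)
  haveI := Fintype.ofFinite Z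
  have hZK : ∀ u ∈ Z, ∀ v ∈ K, u * v = v * u := fun u hu v _ => hZc u hu v
  have hfac : ∀ (ψ : IrrCharacter C) {w : C}, w ∈ Z → ∀ g : C,
      (ψ : C → ℂ) (w * g) * (ψ : C → ℂ) 1 = (ψ : C → ℂ) w * (ψ : C → ℂ) g := fun ψ w hw g =>
    CentralProduct.apply_mul_of_factors (U := Z) (V := (⊤ : Subgroup C))
      (fun u hu v _ => hZc u hu v) (sup_top_eq Z) ψ hw (mem_top g)
  have hnormZ : ∀ (ψ : IrrCharacter C) {w : C}, w ∈ Z →
      (ψ : C → ℂ) w * conj ((ψ : C → ℂ) w) = (ψ : C → ℂ) 1 * (ψ : C → ℂ) 1 := fun ψ w hw => by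
    rw [← IsIrr.map_inv ψ.2, ← hfac ψ hw w⁻¹, mul_inv_cancel]
  have hreal1 : ∀ ψ : IrrCharacter C, conj ((ψ : C → ℂ) 1) = (ψ : C → ℂ) 1 := fun ψ => by
    rw [apply_one_eq_charDegree, map_natCast]
  have hirr : ∀ ψ : IrrCharacter C, IsIrrCharacter K (fun g : K => (ψ : C → ℂ) g) := by
    intro ψ
    refine IsChar.isIrr_of_classInner_eq_one (IsChar.restrict K (IsIrr.isCharacter ψ.2)) ?_
    have h1 := classInner_irr_self ψ
    simp only [classInner] at h1 ⊢
    rw [← Fintype.sum_bijective (fun p : Z × K => (p.1 : C) * p.2) hcompl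
      (fun p => (ψ : C → ℂ) ((p.1 : C) * p.2) * conj ((ψ : C → ℂ) ((p.1 : C) * p.2))) _ (fun p => rfl),
      Fintype.sum_prod_type] at h1
    have hterm : ∀ (w : Z) (g : K), (ψ : C → ℂ) ((w : C) * g) * conj ((ψ : C → ℂ) ((w : C) * g)) =
        (ψ : C → ℂ) g * conj ((ψ : C → ℂ) g) := by
      intro w g
      refine mul_left_cancel₀ (mul_ne_zero (IsIrr.apply_one_ne_zero ψ.2) (IsIrr.apply_one_ne_zero ψ.2)) ?_
      have e := hfac ψ w.2 g
      have e' := congrArg conj e
      rw [map_mul, map_mul, hreal1] at e'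
      calc _ = ((ψ : C → ℂ) ((w : C) * g) * (ψ : C → ℂ) 1) *
            (conj ((ψ : C → ℂ) ((w : C) * g)) * (ψ : C → ℂ) 1) := by ring
        _ = _ := by rw [e, e', ← hnormZ ψ w.2]; ring
    simp only [hterm, Finset.sum_const, Finset.card_univ, nsmul_eq_mul, ← Nat.card_eq_fintype_card] at h1
    rw [show Nat.card Z = 3 by rw [hZ, Nat.card_zpowers, hox], ← hcardK] at h1
    push_cast at h1
    simp only [Nat.card_eq_fintype_card] at h1 ⊢
    rw [← h1]
    field_simp
  let res : IrrCharacter C → IrrCharacter K := fun ψ => ⟨_, hirr ψ⟩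
  have hmem : ∀ ψ : IrrCharacter C, ψ ∈ principalBlock M C ↔ res ψ ∈ principalBlock M K := by
    intro ψ
    obtain ⟨ψ₁, hψ₁⟩ : ∃ ψ₁ : IrrCharacter Z, classInner (fun w : Z => (ψ : C → ℂ) w) (ψ₁ : Z → ℂ) ≠ 0 := by
      haveI := Fintype.ofFinite (IrrCharacter Z)
      by_contra hno
      push Not at hno
      have h := classFunction_apply_eq_sum
        (IsChar.isClassFunction (IsChar.restrict Z (IsIrr.isCharacter ψ.2))) (1 : Z)
      simp only [hno, zero_mul, Finset.sum_const_zero, OneMemClass.coe_one] at h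
      exact IsIrr.apply_one_ne_zero ψ.2 h
    have h1 : ψ₁ ∈ principalBlock M Z := by
      haveI : (⊤ : Subgroup Z).Normal := inferInstance
      exact sameBlock_of_centralizer_le hM (P := (⊤ : Subgroup Z))
        (IsPGroup.of_card (n := 1) (by rw [card_top, hZ, Nat.card_zpowers, hox, pow_one]))
        le_top (trivChar Z) ψ₁
    have h2 : classInner (fun g : K => (ψ : C → ℂ) g) (res ψ : K → ℂ) ≠ 0 := by
      rw [show (fun g : K => (ψ : C → ℂ) g) = (res ψ : K → ℂ) from rfl, classInner_irr_self]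
      exact one_ne_zero
    have := CentralProduct.mem_principalBlock_iff (p := 3) hZK hgen
      (by rw [hdisj]; exact IsPGroup.of_bot) hM ψ ψ₁ (res ψ) hψ₁ h2
    exact ⟨fun h => (this.1 h).2, fun h => this.2 ⟨h1, h⟩⟩
  -- the fibres
  set ζ := Complex.exp (2 * Real.pi * Complex.I / (3 : ℕ))
  have hζ : IsPrimitiveRoot ζ 3 := Complex.isPrimitiveRoot_exp 3 (by norm_num)
  have hfib : ∀ φ : IrrCharacter K, (Finset.univ.filter fun ψ => res ψ = φ).card ≤ 3 := by
    intro φ
    refine (Finset.card_le_card_of_injOn (s := Finset.univ.filter fun ψ => res ψ = φ) (t := Polynomial.nthRootsFinset 3 (1 : ℂ))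
      (fun ψ => (ψ : C → ℂ) x / (ψ : C → ℂ) 1) ?_ ?_).trans hζ.card_nthRootsFinset.le
    · intro ψ _
      rw [Finset.mem_coe, Polynomial.mem_nthRootsFinset (by norm_num)]
      have h0 := IsIrr.apply_one_ne_zero ψ.2
      have e1 := hfac ψ (mem_zpowers x) x
      have e2 := hfac ψ (mem_zpowers x) (x * x)
      rw [show x * (x * x) = 1 by rw [← hx3, pow_succ, pow_two, mul_assoc]] at e2
      rw [div_pow, div_eq_one_iff_eq (pow_ne_zero 3 h0)]
      linear_combination -(ψ : C → ℂ) 1 * e2 - (ψ : C → ℂ) x * e1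
    · intro ψ hψ ψ' hψ' he
      simp only [Finset.coe_filter, Finset.mem_univ, true_and, Set.mem_ofPred_eq] at hψ hψ'
      have hK' : ∀ g : K, (ψ : C → ℂ) g = (ψ' : C → ℂ) g := fun g =>
        congrFun (congrArg Subtype.val (hψ.trans hψ'.symm)) g
      have h1 : (ψ : C → ℂ) 1 = (ψ' : C → ℂ) 1 := hK' 1
      have hxx : (ψ : C → ℂ) x = (ψ' : C → ℂ) x := by
        simp only at he
        rw [h1, div_left_inj' (IsIrr.apply_one_ne_zero ψ'.2)] at he
        exact he
      refine irr_ext fun g => ?_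
      obtain ⟨⟨w, g'⟩, rfl⟩ := hcompl.2 g
      have hw : (ψ : C → ℂ) w = (ψ' : C → ℂ) w := by
        obtain ⟨i, hi⟩ : ∃ i : ℕ, x ^ i = (w : C) := by
          have hw' : (w : C) ∈ zpowers x := w.2
          rwa [← mem_powers_iff_mem_zpowers, Submonoid.mem_powers_iff] at hw'
        rw [← hi]
        clear hi
        induction i with
        | zero => rw [pow_zero]; exact h1
        | succ i ih =>
          refine mul_right_cancel₀ (IsIrr.apply_one_ne_zero ψ.2) ?_
          rw [pow_succ', hfac ψ (mem_zpowers x), ih, hxx, h1, hfac ψ' (mem_zpowers x)]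
      refine mul_right_cancel₀ (IsIrr.apply_one_ne_zero ψ.2) ?_
      show (ψ : C → ℂ) ((w : C) * g') * _ = (ψ' : C → ℂ) ((w : C) * g') * _
      rw [hfac ψ w.2 g', hw, hK' g', h1, hfac ψ' w.2 g']
  have hfib3 : ∀ φ : IrrCharacter K, (Finset.univ.filter fun ψ => res ψ = φ).card = 3 := by
    intro φ
    by_contra hne
    have hC := sum_sq_degree (G := C)
    have hKs := sum_sq_degree (G := K)
    rw [← hcardK, Nat.cast_mul, ← hKs, Finset.mul_sum, ← Finset.sum_fiberwise Finset.univ res] at hC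
    have key : ∀ φ' : IrrCharacter K, ∑ ψ ∈ Finset.univ.filter (fun ψ => res ψ = φ'),
        (ψ : C → ℂ) 1 * (ψ : C → ℂ) 1 =
        (((Finset.univ.filter fun ψ => res ψ = φ').card * charDegree (φ' : K → ℂ) ^ 2 : ℕ) : ℂ) := by
      intro φ'
      rw [Finset.sum_congr rfl (g := fun _ => (φ' : K → ℂ) 1 * (φ' : K → ℂ) 1) (fun ψ hψ => by
        rw [← (Finset.mem_filter.1 hψ).2]; rfl), Finset.sum_const, nsmul_eq_mul, apply_one_eq_charDegree]
      push_cast; ring
    have hC' : ((∑ φ' : IrrCharacter K, (Finset.univ.filter fun ψ => res ψ = φ').card *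
        charDegree (φ' : K → ℂ) ^ 2 : ℕ) : ℂ) =
        ((∑ φ' : IrrCharacter K, 3 * charDegree (φ' : K → ℂ) ^ 2 : ℕ) : ℂ) := by
      rw [Nat.cast_sum, Nat.cast_sum]
      refine Eq.trans (Finset.sum_congr rfl fun φ' _ => (key φ').symm) (Eq.trans ?_ (Finset.sum_congr rfl
        fun φ' _ => (show _ = ((3 * charDegree (φ' : K → ℂ) ^ 2 : ℕ) : ℂ) by
          rw [Nat.cast_mul, Nat.cast_pow, ← apply_one_eq_charDegree])))
      simpa [pow_two] using hC
    have hlt : ∑ φ' : IrrCharacter K, (Finset.univ.filter fun ψ => res ψ = φ').card *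
        charDegree (φ' : K → ℂ) ^ 2 < ∑ φ' : IrrCharacter K, 3 * charDegree (φ' : K → ℂ) ^ 2 :=
      Finset.sum_lt_sum (fun φ' _ => Nat.mul_le_mul_right _ (hfib φ'))
        ⟨φ, Finset.mem_univ _, Nat.mul_lt_mul_of_pos_right (lt_of_le_of_ne (hfib φ) hne)
          (pow_pos (CharDegree.charDegree_pos φ) 2)⟩
    exact hlt.ne (Nat.cast_injective hC')
  -- assemble
  refine ⟨fun c => if h : c ∈ K then U0 ⟨c, h⟩ else 0, u, ?_⟩
  have hreg' : ∀ {k : C} (hk : ¬ 3 ∣ orderOf k), ¬ 3 ∣ orderOf (⟨k, hregK k hk⟩ : K) := fun {k} hk => by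
    rw [← Subgroup.orderOf_coe]; exact hk
  refine ⟨fun k k' hk hk' => ?_, fun ψ hψ => ?_, ?_, hU.mod_three, ?_, ?_, fun k hk => ?_, ?_, fun k hk => ?_, fun α k hk => ?_⟩
  · rw [dif_pos (hregK k hk), dif_pos (hregK k' hk'), ← hU.sum _ _ (hreg' hk) (hreg' hk'),
      finsum_mem_eq_finite_toFinset_sum _ (Set.toFinite _),
      finsum_mem_eq_finite_toFinset_sum _ (Set.toFinite _),
      ← Finset.sum_fiberwise_of_maps_to (t := (Set.toFinite (principalBlock M K)).toFinset) (g := res)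
        (fun ψ hψ => (Set.Finite.mem_toFinset _).2 ((hmem ψ).1 ((Set.Finite.mem_toFinset _).1 hψ))),
      Finset.mul_sum]
    refine Finset.sum_congr rfl fun φ hφ => ?_
    rw [show ((Set.toFinite (principalBlock M C)).toFinset.filter fun ψ => res ψ = φ) =
      Finset.univ.filter fun ψ => res ψ = φ by
        ext ψ
        simp only [Finset.mem_filter, Set.Finite.mem_toFinset, Finset.mem_univ, true_and, and_iff_right_iff_imp]
        rintro rfl
        exact (hmem ψ).2 ((Set.Finite.mem_toFinset _).1 hφ)]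
    rw [Finset.sum_congr rfl (g := fun _ => (φ : K → ℂ) ⟨k, hregK k hk⟩ * conj ((φ : K → ℂ) ⟨k', hregK k' hk'⟩))
      (fun ψ hψ => by rw [← (Finset.mem_filter.1 hψ).2]), Finset.sum_const, hfib3, nsmul_eq_mul]
    norm_num
  · obtain ⟨c, e, h⟩ := hU.span _ ((hmem ψ).1 hψ)
    exact ⟨c, e, fun k hk => by rw [dif_pos (hregK k hk), ← h _ (hreg' hk)]⟩
  · rw [dif_pos (one_mem K)]; exact hU.one
  · exact hU.dvd_left.trans (card_subgroup_dvd_card K)
  · exact hU.dvd_right.trans (card_subgroup_dvd_card K)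
  · rw [dif_pos (hregK k hk)]; exact hU.int _ (hreg' hk)
  · exact ⟨n, hn, by rw [dif_pos (hregK n hn)]; exact hU.move⟩
  · have hk' : ¬ 3 ∣ orderOf k⁻¹ := by rw [orderOf_inv]; exact hk
    rw [dif_pos (hregK k hk), dif_pos (hregK _ hk')]
    exact hU.map_inv ⟨k, hregK k hk⟩ (hreg' hk)
  · have hk' : ¬ 3 ∣ orderOf (α k) := by rw [MulEquiv.orderOf_eq]; exact hk
    rw [dif_pos (hregK k hk), dif_pos (hregK _ hk')]
    have hmap : ∀ (β : C ≃* C) (g : C), g ∈ K → β g ∈ K := fun β g hg => by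
      rw [hK, ← map_regular_closure β]; exact ⟨g, hg, rfl⟩
    let β : K ≃* K :=
      { toFun := fun g => ⟨α g, hmap α g g.2⟩
        invFun := fun g => ⟨α.symm g, hmap α.symm g g.2⟩
        left_inv := fun g => Subtype.ext (α.symm_apply_apply g)
        right_inv := fun g => Subtype.ext (α.apply_symm_apply g)
        map_mul' := fun g h => Subtype.ext (map_mul α (g : C) (h : C)) }
    exact hU.invariant β ⟨k, hregK k hk⟩ (hreg' hk)

end CfsgLib.Known.ThreeClasses
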