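import Cfsg.Agent.Lib.Known.ThreeClasses.CentralSection
import Cfsg.Agent.Lib.Classical.PrincipalPairs

/-!
# The two columns at an axis element

An elementary Sylow 3-subgroup of order nine with two axes inverted independently: on the section
of an axis element the principal block characters are two integral columns combined by one rational
function.
-/

set_option autoImplicit false
set_option linter.all false

namespace CfsgLib.Known.ThreeClasses

open Cfsg CfsgLib.Char CfsgLib.CharDegree CfsgLib.Blocks Subgroup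
open scoped ComplexConjugate

universe u

variable {G : Type u} [Group G]

/-- The two axes of the automizer. -/
structure Axes (R : Sylow 3 G) (x y : G) : Prop where
  comm : ∀ g ∈ (R : Subgroup G), ∀ h ∈ (R : Subgroup G), g * h = h * g
  card : Nat.card (R : Subgroup G) = 9
  mem_x : x ∈ (R : Subgroup G)
  mem_y : y ∈ (R : Subgroup G)
  x_ne : x ≠ 1
  y_ne : y ≠ 1
  x_cube : x ^ 3 = 1
  y_cube : y ^ 3 = 1
  indep : y ∉ zpowers x
  signs : ∀ n ∈ normalizer ((R : Subgroup G) : Set G),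
    (n * x * n⁻¹ = x ∨ n * x * n⁻¹ = x⁻¹) ∧ (n * y * n⁻¹ = y ∨ n * y * n⁻¹ = y⁻¹)
  flip_x : ∃ n ∈ normalizer ((R : Subgroup G) : Set G), n * x * n⁻¹ = x⁻¹ ∧ n * y * n⁻¹ = y
  flip_y : ∃ n ∈ normalizer ((R : Subgroup G) : Set G), n * x * n⁻¹ = x ∧ n * y * n⁻¹ = y⁻¹

variable {R : Sylow 3 G} {x y : G}

theorem Axes.symm (h : Axes R x y) : Axes R y x := by
  have hxy : x ∉ zpowers y := by
    intro hx
    have hoy : orderOf y = 3 := orderOf_eq_prime h.y_cube h.y_ne
    have hox : orderOf x = 3 := orderOf_eq_prime h.x_cube h.x_ne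
    haveI : Finite (zpowers y) := Nat.finite_of_card_ne_zero (by rw [Nat.card_zpowers, hoy]; norm_num)
    have he : zpowers x = zpowers y := eq_of_le_of_card_ge (zpowers_le.2 hx)
      (by rw [Nat.card_zpowers, Nat.card_zpowers, hox, hoy])
    exact h.indep (he ▸ mem_zpowers y)
  obtain ⟨n, hn, h1, h2⟩ := h.flip_x
  obtain ⟨m, hm, h3, h4⟩ := h.flip_y
  exact ⟨h.comm, h.card, h.mem_y, h.mem_x, h.y_ne, h.x_ne, h.y_cube, h.x_cube, hxy,
    fun g hg => ⟨(h.signs g hg).2, (h.signs g hg).1⟩, ⟨m, hm, h4, h3⟩, ⟨n, hn, h2, h1⟩⟩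

theorem conj_pow_nine {n z : G} (h : n * z * n⁻¹ = z ∨ n * z * n⁻¹ = z⁻¹) :
    n ^ 9 * z * (n ^ 9)⁻¹ = n * z * n⁻¹ := by
  have h2 : n * (n * z * n⁻¹) * n⁻¹ = z := by
    rcases h with e | e
    · rw [e, e]
    · rw [e, ← conj_inv, e, inv_inv]
  have hstep : ∀ k : ℕ, n ^ (2 * k + 1) * z * (n ^ (2 * k + 1))⁻¹ = n * z * n⁻¹ := by
    intro k
    induction k with
    | zero => rw [mul_zero, zero_add, pow_one]
    | succ k ih =>
      rw [show 2 * (k + 1) + 1 = (2 * k + 1) + 1 + 1 by ring, pow_succ, pow_succ]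
      calc n ^ (2 * k + 1) * n * n * z * (n ^ (2 * k + 1) * n * n)⁻¹
          = n ^ (2 * k + 1) * (n * (n * z * n⁻¹) * n⁻¹) * (n ^ (2 * k + 1))⁻¹ := by group
        _ = _ := by rw [h2, ih]
  exact hstep 4

theorem regular_pow_nine [Finite G] (h9 : Nat.card (R : Subgroup G) = 9) (g : G) :
    ¬ 3 ∣ orderOf (g ^ 9) := by
  haveI : Fact (Nat.Prime 3) := ⟨Nat.prime_three⟩
  intro hd
  have hf : (Nat.card G).factorization 3 = 2 := by
    have h := R.card_eq_multiplicity
    rw [h9, show (9 : ℕ) = 3 ^ 2 by norm_num] at h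
    exact (Nat.pow_right_injective (show 2 ≤ 3 by norm_num) h).symm
  have h9G : 9 ∣ Nat.card G := h9 ▸ card_subgroup_dvd_card (R : Subgroup G)
  have h3 := Nat.not_dvd_ordCompl Nat.prime_three (Nat.card_pos (α := G)).ne'
  rw [hf, show (3 : ℕ) ^ 2 = 9 by norm_num] at h3
  exact h3 (hd.trans (orderOf_dvd_of_pow_eq_one (by
    rw [← pow_mul, Nat.mul_div_cancel' h9G, pow_card_eq_one'])))

theorem central_mul_apply {C : Type u} [Group C] [Fintype C] {z : C} (hz : ∀ c : C, c * z = z * c)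
    (ψ : IrrCharacter C) (g : C) :
    (ψ : C → ℂ) (z * g) * (ψ : C → ℂ) 1 = (ψ : C → ℂ) z * (ψ : C → ℂ) g :=
  CentralProduct.apply_mul_of_factors (U := zpowers z) (V := (⊤ : Subgroup C))
    (fun u hu v _ => by
      obtain ⟨i, rfl⟩ := hu
      exact ((Commute.zpow_left (show Commute z v from (hz v).symm)) i).eq)
    (sup_top_eq (zpowers z)) ψ (mem_zpowers z) (mem_top g)

/-- The data at an axis element. -/
structure Col (M : Ideal AlgInt) (x k : G) (u v : ℤ) (c e : IrrCharacter G → ℤ) : Prop where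
  mod_three : u % 3 = 1
  dvd_left : u.natAbs ∣ Nat.card G
  dvd_right : (-1 - u).natAbs ∣ Nat.card G
  ne : v ≠ u
  commute : Commute x k
  regular : ¬ 3 ∣ orderOf k
  val : ∀ χ ∈ principalBlock M G, (χ : G → ℂ) x = ((c χ + u * e χ : ℤ) : ℂ)
  val_k : ∀ χ ∈ principalBlock M G, (χ : G → ℂ) (x * k) = ((c χ + v * e χ : ℤ) : ℂ)
  sum_cc : ∑ᶠ χ ∈ principalBlock M G, c χ * c χ = 6
  sum_ce : ∑ᶠ χ ∈ principalBlock M G, c χ * e χ = 3
  sum_ee : ∑ᶠ χ ∈ principalBlock M G, e χ * e χ = 6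
  deg_c : ∑ᶠ χ ∈ principalBlock M G, (charDegree (χ : G → ℂ) : ℤ) * c χ = 0
  deg_e : ∑ᶠ χ ∈ principalBlock M G, (charDegree (χ : G → ℂ) : ℤ) * e χ = 0
  orth : ∀ z w : G, IsPPart 3 z w → ¬ IsConj x w →
    ∑ᶠ χ ∈ principalBlock M G, (c χ : ℂ) * (χ : G → ℂ) z⁻¹ = 0 ∧
      ∑ᶠ χ ∈ principalBlock M G, (e χ : ℂ) * (χ : G → ℂ) z⁻¹ = 0

set_option maxHeartbeats 1000000 in
theorem Axes.exists_col [Finite G] (h : Axes R x y) {M : Ideal AlgInt} [M.IsPrime]
    (hM : IsPModular 3 M) :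
    ∃ (k : G) (u v : ℤ) (c e : IrrCharacter G → ℤ), Col M x k u v c e := by
  classical
  haveI : Fact (Nat.Prime 3) := ⟨Nat.prime_three⟩
  haveI := Fintype.ofFinite G
  haveI := Fintype.ofFinite (IrrCharacter G)
  set C := centralizer ({x} : Set G) with hC
  haveI := Fintype.ofFinite C
  haveI := Fintype.ofFinite (IrrCharacter C)
  have hRC : (R : Subgroup G) ≤ C := fun g hg => mem_centralizer_singleton_iff.2 (h.comm g hg x h.mem_x)
  obtain ⟨n0, hn0, hn0x, hn0y⟩ := h.flip_y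
  have hnx : n0 ^ 9 * x * (n0 ^ 9)⁻¹ = x := (conj_pow_nine (Or.inl hn0x)).trans hn0x
  have hny : n0 ^ 9 * y * (n0 ^ 9)⁻¹ = y⁻¹ := (conj_pow_nine (Or.inr hn0y)).trans hn0y
  have hnC : n0 ^ 9 ∈ C := mem_centralizer_singleton_iff.2 (mul_inv_eq_iff_eq_mul.1 hnx)
  let P : Sylow 3 C := R.subtype hRC
  have hP : Nat.card (P : Subgroup C) = 9 := by
    rw [Sylow.coe_subtype, Nat.card_congr (subgroupOfEquivOfLe hRC).toEquiv, h.card]
  set x' : C := ⟨x, hRC h.mem_x⟩ with hx'
  have hcen : ∀ c : C, c * x' = x' * c := fun c =>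
    Subtype.ext (mem_centralizer_singleton_iff.1 c.2)
  obtain ⟨U, u, hU⟩ := exists_sect (C := C) hM (P := P) hP
    (fun g hg g' hg' => Subtype.ext (h.comm g hg g' hg'))
    (x := x') (y := ⟨y, hRC h.mem_y⟩) (n := ⟨n0 ^ 9, hnC⟩) (h.mem_x) (h.mem_y)
    (fun e => h.x_ne (congrArg Subtype.val e)) (Subtype.ext h.x_cube) (Subtype.ext h.y_cube)
    (fun hm => h.indep (by
      obtain ⟨i, hi⟩ := hm
      exact ⟨i, congrArg Subtype.val hi⟩))
    hcen (Subtype.ext hny) (by rw [← Subgroup.orderOf_coe]; exact regular_pow_nine h.card n0)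
  obtain ⟨k0, hk0, hk0U⟩ := hU.move
  obtain ⟨v, hv⟩ := hU.int k0 hk0
  have hne : v ≠ u := fun e => hk0U (by rw [hv, e])
  have hox : orderOf x = 3 := orderOf_eq_prime h.x_cube h.x_ne
  have hxp : ∃ k : ℕ, orderOf x = 3 ^ k := ⟨1, by rw [hox, pow_one]⟩
  -- the coefficients
  choose! aψ bψ hab using hU.span
  set θ : IrrCharacter G → C → ℂ := fun χ c => (χ : G → ℂ) (x * (c : G)) with hθ
  set c0 : IrrCharacter G → ℂ := fun χ =>
    ∑ᶠ ψ ∈ principalBlock M C, classInner (θ χ) (ψ : C → ℂ) * (aψ ψ : ℂ) with hc0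
  set e0 : IrrCharacter G → ℂ := fun χ =>
    ∑ᶠ ψ ∈ principalBlock M C, classInner (θ χ) (ψ : C → ℂ) * (bψ ψ : ℂ) with he0
  have hexp : ∀ χ ∈ principalBlock M G, ∀ c : C, ¬ 3 ∣ orderOf c →
      (χ : G → ℂ) (x * (c : G)) = c0 χ + e0 χ * U c := by
    intro χ hχ c hc
    have h' := blockPart_principal_translate hM hxp χ hc
    rw [if_pos hχ] at h'
    rw [← h', blockPart_eq, hc0, he0]
    simp only []
    rw [finsum_mem_eq_finite_toFinset_sum _ (Set.toFinite _),
      finsum_mem_eq_finite_toFinset_sum _ (Set.toFinite _),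
      finsum_mem_eq_finite_toFinset_sum _ (Set.toFinite _), Finset.sum_mul, ← Finset.sum_add_distrib]
    refine Finset.sum_congr rfl fun ψ hψ => ?_
    rw [hab ψ ((Set.Finite.mem_toFinset _).1 hψ) c hc]
    ring
  -- integrality of the coefficients
  have hcoef : ∀ (χ : IrrCharacter G) (ψ : IrrCharacter C),
      IsIntegral ℤ (classInner (θ χ) (ψ : C → ℂ)) ∧
      ∃ t : ℤ, classInner (θ χ) (ψ : C → ℂ) + conj (classInner (θ χ) (ψ : C → ℂ)) = t := by
    intro χ ψ
    obtain ⟨m, hm⟩ := IsChar.classInner_eq_natCast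
      (IsChar.restrict C (IsIrr.isCharacter χ.2)) (IsIrr.isCharacter ψ.2)
    have h1 := IsIrr.apply_one_ne_zero ψ.2
    set ω := (ψ : C → ℂ) x' / (ψ : C → ℂ) 1 with hω
    have hmul : ∀ g : C, (ψ : C → ℂ) (x' * g) = ω * (ψ : C → ℂ) g := fun g => by
      rw [hω, div_mul_eq_mul_div, eq_div_iff h1]
      exact central_mul_apply hcen ψ g
    have hω3 : ω ^ 3 = 1 := by
      have e : (ψ : C → ℂ) 1 = ω * (ω * (ω * (ψ : C → ℂ) 1)) := by
        rw [← hmul 1, ← hmul, ← hmul, mul_one,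
          show x' * (x' * x') = 1 from Subtype.ext (by
            show x * (x * x) = 1
            rw [← h.x_cube, pow_succ, pow_two, mul_assoc])]
      exact mul_right_cancel₀ h1 (by linear_combination -e)
    have hωc : ω * conj ω = 1 := by
      have h' : Complex.normSq ω = 1 := by
        rw [Complex.normSq_eq_norm_sq, Complex.norm_eq_one_of_pow_eq_one hω3 (by norm_num)]; norm_num
      rw [Complex.mul_conj, h', Complex.ofReal_one]
    have hval : classInner (θ χ) (ψ : C → ℂ) = ω * m := by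
      rw [← hm]
      simp only [classInner, hθ]
      rw [mul_left_comm]
      congr 1
      rw [Finset.mul_sum]
      refine Fintype.sum_equiv (Equiv.mulLeft x') _ _ fun g => ?_
      simp only [Equiv.coe_mulLeft]
      rw [hmul g, Subgroup.coe_mul, hx', map_mul]
      linear_combination -((χ : G → ℂ) (x * (g : G)) * conj ((ψ : C → ℂ) g)) * hωc
    refine ⟨?_, ?_⟩
    · rw [hval]
      exact (IsIntegral.of_pow (by norm_num : 0 < 3) (by rw [hω3]; exact isIntegral_one)).mul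
        (isIntegral_algebraMap (R := ℤ) (x := (m : ℤ)))
    · rw [hval, map_mul, map_natCast]
      have hcw : conj ω = ω * ω := by
        have : ω * conj ω = ω * (ω * ω) := by rw [hωc, ← hω3]; ring
        exact mul_left_cancel₀ (fun e => by rw [e, zero_mul] at hωc; exact zero_ne_one hωc) this
      rcases eq_or_ne ω 1 with e | e
      · exact ⟨2 * m, by rw [e, map_one]; push_cast; ring⟩
      · refine ⟨-(m : ℤ), ?_⟩
        have hq : ω * ω + ω + 1 = 0 := by
          have : (ω - 1) * (ω * ω + ω + 1) = 0 := by linear_combination hω3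
          exact (mul_eq_zero.1 this).resolve_left (sub_ne_zero.2 e)
        rw [hcw]; push_cast
        linear_combination (m : ℂ) * hq
  -- the symmetry
  obtain ⟨n1, hn1, hn1x, -⟩ := h.flip_x
  have hn1C : ∀ g : G, g ∈ C ↔ n1 * g * n1⁻¹ ∈ C := by
    intro g
    simp only [hC, mem_centralizer_singleton_iff]
    have hiff : ∀ a b : G, a * b = b * a ↔ Commute a b := fun a b => Iff.rfl
    rw [hiff, hiff]
    constructor
    · intro hc
      have := (hc.inv_right).map (MulAut.conj n1).toMonoidHom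
      simp only [MulEquiv.coe_toMonoidHom, MulAut.conj_apply] at this
      rwa [← conj_inv, hn1x, inv_inv] at this
    · intro hc
      have := (hc.inv_right).map (MulAut.conj n1⁻¹).toMonoidHom
      simp only [MulEquiv.coe_toMonoidHom, MulAut.conj_apply] at this
      rw [← hn1x] at this
      rw [show n1⁻¹ * (n1 * g * n1⁻¹) * n1⁻¹⁻¹ = g by group,
        show n1⁻¹ * (n1 * x * n1⁻¹) * n1⁻¹⁻¹ = x by group] at this
      exact this
  let α : C ≃* C :=
    { toFun := fun g => ⟨n1 * g * n1⁻¹, (hn1C g).1 g.2⟩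
      invFun := fun g => ⟨n1⁻¹ * g * n1, (hn1C _).2 (by
        rw [show n1 * (n1⁻¹ * (g : G) * n1) * n1⁻¹ = g by group]; exact g.2)⟩
      left_inv := fun g => Subtype.ext (by show n1⁻¹ * (n1 * (g : G) * n1⁻¹) * n1 = g; group)
      right_inv := fun g => Subtype.ext (by show n1 * (n1⁻¹ * (g : G) * n1) * n1⁻¹ = g; group)
      map_mul' := fun g g' => Subtype.ext (by
        show n1 * ((g : G) * g') * n1⁻¹ = n1 * g * n1⁻¹ * (n1 * g' * n1⁻¹); group) }
  have hsymm : ∀ χ ∈ principalBlock M G, ∀ c : C, ¬ 3 ∣ orderOf c →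
      conj (c0 χ) + conj (e0 χ) * U c = c0 χ + e0 χ * U c := by
    intro χ hχ c hc
    have hci : ¬ 3 ∣ orderOf c⁻¹ := by rw [orderOf_inv]; exact hc
    have hαi : ¬ 3 ∣ orderOf (α c⁻¹) := by rw [MulEquiv.orderOf_eq]; exact hci
    obtain ⟨z, hz⟩ := hU.int c hc
    have h1 : conj ((χ : G → ℂ) (x * (c : G))) = (χ : G → ℂ) (x * (α c⁻¹ : G)) := by
      rw [← IsIrr.map_inv χ.2, mul_inv_rev, show (c : G)⁻¹ * x⁻¹ = x⁻¹ * (c : G)⁻¹ from
        (((show Commute (c : G) x from mem_centralizer_singleton_iff.1 c.2).inv_left).inv_right).eq,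
        ← IsIrr.isClassFunction χ.2 (x⁻¹ * (c : G)⁻¹) n1]
      apply congrArg (χ : G → ℂ)
      show n1 * (x⁻¹ * (c : G)⁻¹) * n1⁻¹ = x * (n1 * ((c⁻¹ : C) : G) * n1⁻¹)
      rw [Subgroup.coe_inv, show n1 * (x⁻¹ * (c : G)⁻¹) * n1⁻¹ =
        (n1 * x * n1⁻¹)⁻¹ * (n1 * (c : G)⁻¹ * n1⁻¹) by group, hn1x, inv_inv]
    rw [hexp χ hχ c hc, hexp χ hχ _ hαi, hU.invariant α _ hci, hU.map_inv c hc, hz, map_add,
      map_mul, map_intCast, ← hz] at h1
    exact h1
  have h1C : ¬ 3 ∣ orderOf (1 : C) := by rw [orderOf_one]; norm_num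
  have hreal : ∀ χ ∈ principalBlock M G, conj (c0 χ) = c0 χ ∧ conj (e0 χ) = e0 χ := by
    intro χ hχ
    have e1 := hsymm χ hχ 1 h1C
    have e2 := hsymm χ hχ k0 hk0
    rw [hU.one] at e1
    rw [hv] at e2
    have he : conj (e0 χ) = e0 χ := by
      have : (conj (e0 χ) - e0 χ) * ((v : ℂ) - u) = 0 := by linear_combination e2 - e1
      exact sub_eq_zero.1 ((mul_eq_zero.1 this).resolve_right
        (sub_ne_zero.2 fun hh => hne (Int.cast_injective hh)))
    exact ⟨by rw [he] at e1; linear_combination e1, he⟩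
  have hint : ∀ (f : IrrCharacter C → ℤ) (χ : IrrCharacter G),
      conj (∑ᶠ ψ ∈ principalBlock M C, classInner (θ χ) (ψ : C → ℂ) * (f ψ : ℂ)) =
        ∑ᶠ ψ ∈ principalBlock M C, classInner (θ χ) (ψ : C → ℂ) * (f ψ : ℂ) →
      ∃ z : ℤ, ∑ᶠ ψ ∈ principalBlock M C, classInner (θ χ) (ψ : C → ℂ) * (f ψ : ℂ) = z := by
    intro f χ hr
    choose t ht using fun ψ => (hcoef χ ψ).2
    rw [finsum_mem_eq_finite_toFinset_sum _ (Set.toFinite _)] at hr ⊢
    set B := (Set.toFinite (principalBlock M C)).toFinset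
    have hI : IsIntegral ℤ (∑ ψ ∈ B, classInner (θ χ) (ψ : C → ℂ) * (f ψ : ℂ)) :=
      IsIntegral.sum (fun ψ : IrrCharacter C => classInner (θ χ) (ψ : C → ℂ) * (f ψ : ℂ)) fun ψ _ => (hcoef χ ψ).1.mul (by
        simpa using isIntegral_algebraMap (R := ℤ) (A := ℂ) (x := f ψ))
    obtain ⟨z, hz, -⟩ := exists_int_of_mul_eq hI
      (n := 2) (c := ∑ ψ ∈ B, t ψ * f ψ) (by norm_num) (by
        push_cast
        simp only [← ht]
        symm
        rw [Finset.sum_congr rfl (g := fun ψ : IrrCharacter C => classInner (θ χ) (ψ : C → ℂ) * (f ψ : ℂ) +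
          conj (classInner (θ χ) (ψ : C → ℂ) * (f ψ : ℂ))) (fun ψ _ => by rw [map_mul, map_intCast]; ring),
          Finset.sum_add_distrib, ← map_sum, hr]
        ring)
    exact ⟨z, hz⟩
  have hexists : ∀ χ : IrrCharacter G, ∃ c e : ℤ,
      χ ∈ principalBlock M G → c0 χ = c ∧ e0 χ = e := by
    intro χ
    by_cases hχ : χ ∈ principalBlock M G
    · obtain ⟨c, hc⟩ := hint aψ χ (hreal χ hχ).1
      obtain ⟨e, he⟩ := hint bψ χ (hreal χ hχ).2
      exact ⟨c, e, fun _ => ⟨hc, he⟩⟩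
    · exact ⟨0, 0, fun h' => absurd h' hχ⟩
  choose c e hce using hexists
  have hxk : Commute x (k0 : G) := (show Commute (k0 : G) x from mem_centralizer_singleton_iff.1 k0.2).symm
  have hk0G : ¬ 3 ∣ orderOf (k0 : G) := by rw [Subgroup.orderOf_coe]; exact hk0
  set B := (Set.toFinite (principalBlock M G)).toFinset with hB
  have hmemB : ∀ χ, χ ∈ B → χ ∈ principalBlock M G := fun χ hχ => (Set.Finite.mem_toFinset _).1 hχ
  have hval : ∀ χ ∈ principalBlock M G, (χ : G → ℂ) x = ((c χ + u * e χ : ℤ) : ℂ) := by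
    intro χ hχ
    have h' := hexp χ hχ 1 h1C
    rw [OneMemClass.coe_one, mul_one, hU.one, (hce χ hχ).1, (hce χ hχ).2] at h'
    rw [h']; push_cast; ring
  have hvalk : ∀ χ ∈ principalBlock M G, (χ : G → ℂ) (x * (k0 : G)) = ((c χ + v * e χ : ℤ) : ℂ) := by
    intro χ hχ
    have h' := hexp χ hχ k0 hk0
    rw [hv, (hce χ hχ).1, (hce χ hχ).2] at h'
    rw [h']; push_cast; ring
  have hgram : ∀ (k k' : C) (a a' : ℤ), ¬ 3 ∣ orderOf k → ¬ 3 ∣ orderOf k' → U k = a → U k' = a' →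
      ∑ χ ∈ B, (c χ + a * e χ) * (c χ + a' * e χ) = 3 * (1 + a * a' + (1 + a) * (1 + a')) := by
    intro k k' a a' hk hk' ha ha'
    have h' := Classical.PrincipalPairs.sum_principalBlock_mul_conj hM hxp hk hk'
    rw [hU.sum k k' hk hk', ha, ha', finsum_mem_eq_finite_toFinset_sum _ (Set.toFinite _), ← hB,
      Finset.sum_congr rfl (g := fun χ => ((((c χ + a * e χ) * (c χ + a' * e χ)) : ℤ) : ℂ)) (fun χ hχ => by
        rw [hexp χ (hmemB χ hχ) k hk, hexp χ (hmemB χ hχ) k' hk', ha, ha', (hce χ (hmemB χ hχ)).1,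
          (hce χ (hmemB χ hχ)).2, map_add, map_mul, map_intCast, map_intCast, map_intCast]
        push_cast; ring)] at h'
    exact_mod_cast h'
  have g1 := hgram 1 1 u u h1C h1C hU.one hU.one
  have g2 := hgram 1 k0 u v h1C hk0 hU.one hv
  have g3 := hgram k0 k0 v v hk0 hk0 hv hv
  have hexpand : ∀ a a' : ℤ, ∑ χ ∈ B, (c χ + a * e χ) * (c χ + a' * e χ) =
      (∑ χ ∈ B, c χ * c χ) + (a + a') * (∑ χ ∈ B, c χ * e χ) + a * a' * ∑ χ ∈ B, e χ * e χ := by
    intro a a'
    rw [Finset.mul_sum, Finset.mul_sum, ← Finset.sum_add_distrib, ← Finset.sum_add_distrib]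
    exact Finset.sum_congr rfl fun χ _ => by ring
  rw [hexpand] at g1 g2 g3
  set Scc := ∑ χ ∈ B, c χ * c χ
  set Sce := ∑ χ ∈ B, c χ * e χ
  set See := ∑ χ ∈ B, e χ * e χ
  have hd : v - u ≠ 0 := sub_ne_zero.2 hne
  have e1 : Sce - 3 + u * (See - 6) = 0 :=
    mul_left_cancel₀ hd (by linear_combination g2 - g1)
  have e2 : Sce - 3 + v * (See - 6) = 0 :=
    mul_left_cancel₀ hd (by linear_combination g3 - g2)
  have hSee : See = 6 := by
    have : (v - u) * (See - 6) = 0 := by linear_combination e2 - e1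
    exact sub_eq_zero.1 ((mul_eq_zero.1 this).resolve_left hd)
  have hSce : Sce = 3 := by rw [hSee] at e1; linarith
  have hScc : Scc = 6 := by rw [hSee, hSce] at g1; linear_combination g1
  -- orthogonality
  have hpart : ∀ k : C, ¬ 3 ∣ orderOf k → IsPPart 3 (x * (k : G)) x := fun k hk =>
    ⟨k, rfl, (show Commute (k : G) x from mem_centralizer_singleton_iff.1 k.2).symm, hxp,
      by rwa [Subgroup.orderOf_coe]⟩
  have hsolve : ∀ F : IrrCharacter G → ℂ,
      (∀ k : C, ¬ 3 ∣ orderOf k → ∑ᶠ χ ∈ principalBlock M G, (χ : G → ℂ) (x * (k : G)) * F χ = 0) →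
      ∑ χ ∈ B, (c χ : ℂ) * F χ = 0 ∧ ∑ χ ∈ B, (e χ : ℂ) * F χ = 0 := by
    intro F hF
    have f1 := hF 1 h1C
    have f2 := hF k0 hk0
    rw [finsum_mem_eq_finite_toFinset_sum _ (Set.toFinite _), ← hB] at f1 f2
    rw [Finset.sum_congr rfl (g := fun χ => (c χ : ℂ) * F χ + (u : ℂ) * ((e χ : ℂ) * F χ)) (fun χ hχ => by
      rw [OneMemClass.coe_one, mul_one, hval χ (hmemB χ hχ)]; push_cast; ring), Finset.sum_add_distrib,
      ← Finset.mul_sum] at f1
    rw [Finset.sum_congr rfl (g := fun χ => (c χ : ℂ) * F χ + (v : ℂ) * ((e χ : ℂ) * F χ)) (fun χ hχ => by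
      rw [hvalk χ (hmemB χ hχ)]; push_cast; ring), Finset.sum_add_distrib, ← Finset.mul_sum] at f2
    have he : ((v : ℂ) - u) * ∑ χ ∈ B, (e χ : ℂ) * F χ = 0 := by linear_combination f2 - f1
    have he' := (mul_eq_zero.1 he).resolve_left (sub_ne_zero.2 fun hh => hne (Int.cast_injective hh))
    exact ⟨by rw [he', mul_zero, add_zero] at f1; exact f1, he'⟩
  have hdeg := hsolve (fun χ => (charDegree (χ : G → ℂ) : ℂ)) (fun k hk => by
    have h' := sum_block_regular_singular hM (isPBlock_principalBlock (G := G)) (x := (1 : G))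
      (y := x * (k : G)) (by rw [orderOf_one]; norm_num) (by
        obtain ⟨w, hw1, hw2, -, hw3⟩ := hpart k hk
        rw [(show Commute x (k : G) from (show Commute (k : G) x from
          mem_centralizer_singleton_iff.1 k.2).symm).orderOf_mul_eq_mul_orderOf_of_coprime
          (by rw [hox, Subgroup.orderOf_coe]; exact Nat.prime_three.coprime_iff_not_dvd.2 hk), hox]
        exact dvd_mul_right _ _)
    rw [finsum_mem_eq_finite_toFinset_sum _ (Set.toFinite _)] at h' ⊢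
    rw [← h']
    exact Finset.sum_congr rfl fun χ _ => by rw [apply_one_eq_charDegree, mul_comm])
  refine ⟨(k0 : G), u, v, c, e, hU.mod_three, hU.dvd_left.trans (card_subgroup_dvd_card C),
    hU.dvd_right.trans (card_subgroup_dvd_card C), hne, hxk, hk0G, hval, hvalk, ?_, ?_, ?_, ?_, ?_, ?_⟩
  · rw [finsum_mem_eq_finite_toFinset_sum _ (Set.toFinite _)]; exact hScc
  · rw [finsum_mem_eq_finite_toFinset_sum _ (Set.toFinite _)]; exact hSce
  · rw [finsum_mem_eq_finite_toFinset_sum _ (Set.toFinite _)]; exact hSee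
  · rw [finsum_mem_eq_finite_toFinset_sum _ (Set.toFinite _), ← hB]
    refine Int.cast_injective (α := ℂ) ?_
    push_cast
    rw [← hdeg.1]
    exact Finset.sum_congr rfl fun χ _ => mul_comm _ _
  · rw [finsum_mem_eq_finite_toFinset_sum _ (Set.toFinite _), ← hB]
    refine Int.cast_injective (α := ℂ) ?_
    push_cast
    rw [← hdeg.2]
    exact Finset.sum_congr rfl fun χ _ => mul_comm _ _
  · intro z w hw hnc
    rw [finsum_mem_eq_finite_toFinset_sum _ (Set.toFinite _),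
      finsum_mem_eq_finite_toFinset_sum _ (Set.toFinite _)]
    exact hsolve (fun χ => (χ : G → ℂ) z⁻¹) fun k hk =>
      sum_block_apply_mul_eq_zero hM (isPBlock_principalBlock (G := G)) (hpart k hk) hw hnc

end CfsgLib.Known.ThreeClasses
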