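import Cfsg.Agent.Lib.Known.ThreeClasses.Arith

/-!
# The arithmetic of the degrees for a cyclic Sylow subgroup of order nine
-/

set_option autoImplicit false
set_option linter.all false

namespace CfsgLib.Known.ThreeClasses

theorem two_pow_mod_nine (i : ℕ) : 2 ^ i % 9 = 2 ^ (i % 6) % 9 := by
  conv_lhs => rw [← Nat.div_add_mod i 6, pow_add, pow_mul, Nat.mul_mod, Nat.pow_mod]
  norm_num

/-- A prime power next to a power of two is a prime or nine. -/
theorem exponent_one {q w z : ℕ} (hq : q.Prime) (hq2 : q ≠ 2) (hq3 : q ≠ 3) (hw : 1 ≤ w)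
    (h : q ^ w = 2 ^ z + 1 ∨ q ^ w + 1 = 2 ^ z) : w = 1 := by
  have hqodd : Odd q := hq.odd_of_ne_two hq2
  have hq5 : 5 ≤ q := by
    have := hq.two_le
    rcases (show q = 4 ∨ 5 ≤ q ∨ q < 4 by omega) with h' | h' | h'
    · subst h'; exact absurd hq (by norm_num)
    · exact h'
    · omega
  obtain ⟨t, rfl | rfl⟩ := Nat.even_or_odd' w
  · exfalso
    obtain ⟨Q, hQ, hQodd, hQ5⟩ : ∃ Q, Q = q ^ t ∧ Odd Q ∧ 5 ≤ Q :=
      ⟨_, rfl, hqodd.pow, le_trans hq5 (Nat.le_self_pow (by omega) q)⟩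
    rw [mul_comm, pow_mul, ← hQ] at h
    obtain ⟨u, hu⟩ := hQodd
    rcases h with h | h
    · have hp : (Q - 1) * (Q + 1) = 2 ^ z := by
        have h' : (Q - 1) * (Q + 1) = Q ^ 2 - 1 := by
          rw [mul_comm, ← Nat.sq_sub_sq, one_pow]
        rw [h', h, Nat.add_sub_cancel]
      obtain ⟨i, -, hi⟩ := (Nat.dvd_prime_pow Nat.prime_two).1 (hp ▸ dvd_mul_right (Q - 1) (Q + 1))
      obtain ⟨j, -, hj⟩ := (Nat.dvd_prime_pow Nat.prime_two).1 (hp ▸ dvd_mul_left (Q + 1) (Q - 1))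
      have hi2 : 2 ≤ i := by
        by_contra hc
        have := Nat.pow_le_pow_right (show 0 < 2 by norm_num) (show i ≤ 1 by omega)
        omega
      have hj2 : 2 ≤ j := by
        by_contra hc
        have := Nat.pow_le_pow_right (show 0 < 2 by norm_num) (show j ≤ 1 by omega)
        omega
      have h4i : 4 ∣ 2 ^ i := pow_dvd_pow 2 hi2
      have h4j : 4 ∣ 2 ^ j := pow_dvd_pow 2 hj2
      omega
    · have hz : 2 ≤ z := by
        by_contra hc
        have := Nat.pow_le_pow_right (show 0 < 2 by norm_num) (show z ≤ 1 by omega)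
        nlinarith
      have h4 : 4 ∣ 2 ^ z := pow_dvd_pow 2 hz
      have hQ2 : Q ^ 2 = 4 * (u * u + u) + 1 := by subst hu; ring
      omega
  · by_contra hne
    have ht : 1 ≤ t := by omega
    have hgeo : ∀ x : ℤ, ((x - 1) * ∑ k ∈ Finset.range (2 * t + 1), x ^ k) = x ^ (2 * t + 1) - 1 :=
      fun x => by rw [mul_comm, geom_sum_mul]
    have hodd : ∀ x : ℤ, Odd x → Odd (∑ k ∈ Finset.range (2 * t + 1), x ^ k) := by
      intro x hx
      rw [Int.odd_iff, Finset.sum_int_mod, Finset.sum_congr rfl (g := fun _ => (1 : ℤ))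
        (fun k _ => Int.odd_iff.1 hx.pow), Finset.sum_const, Finset.card_range, nsmul_one]
      push_cast
      omega
    obtain ⟨x, hxo, hx⟩ : ∃ x : ℤ, Odd x ∧ (x = q ∨ x = -q) ∧
        (x - 1) * (∑ k ∈ Finset.range (2 * t + 1), x ^ k) ∣ (2 ^ z : ℤ) := by
      rcases h with h | h
      · refine ⟨q, by exact_mod_cast hqodd, Or.inl rfl, ?_⟩
        rw [hgeo]
        have h' : (q : ℤ) ^ (2 * t + 1) = 2 ^ z + 1 := by exact_mod_cast h
        rw [h', add_sub_cancel_right]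
      · refine ⟨-q, by exact_mod_cast (show Odd ((q : ℤ)) by exact_mod_cast hqodd).neg, Or.inr rfl, ?_⟩
        rw [hgeo, Odd.neg_pow ⟨t, rfl⟩]
        have h' : (q : ℤ) ^ (2 * t + 1) + 1 = 2 ^ z := by exact_mod_cast h
        rw [← h', show -(q : ℤ) ^ (2 * t + 1) - 1 = -((q : ℤ) ^ (2 * t + 1) + 1) by ring]
        exact (Int.neg_dvd).2 dvd_rfl
    obtain ⟨hxq, hdvd⟩ := hx
    have hs : (∑ k ∈ Finset.range (2 * t + 1), x ^ k).natAbs ∣ 2 ^ z := by
      have h' := Int.natAbs_dvd_natAbs.2 ((dvd_mul_left _ _).trans hdvd)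
      simpa [Int.natAbs_pow] using h'
    obtain ⟨k, -, hk⟩ := (Nat.dvd_prime_pow Nat.prime_two).1 hs
    have hso : Odd (∑ k ∈ Finset.range (2 * t + 1), x ^ k).natAbs := Int.natAbs_odd.2 (hodd x hxo)
    have hk0 : k = 0 := by
      by_contra hk0
      rw [hk] at hso
      exact (Nat.not_even_iff_odd.2 hso) (Nat.even_pow.2 ⟨even_two, hk0⟩)
    have hS : (∑ k ∈ Finset.range (2 * t + 1), x ^ k) = 1 ∨ (∑ k ∈ Finset.range (2 * t + 1), x ^ k) = -1 :=
      by rw [hk0, pow_zero] at hk; omega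
    have hbig : (q : ℤ) ^ 3 ≤ (q : ℤ) ^ (2 * t + 1) := pow_le_pow_right₀ (by omega) (by omega)
    have hq3' : 25 * (q : ℤ) ≤ (q : ℤ) ^ 3 := by
      have : (25 : ℤ) ≤ (q : ℤ) ^ 2 := by nlinarith
      nlinarith
    have hval := hgeo x
    rcases hxq with rfl | rfl
    · rcases hS with e | e <;> rw [e] at hval <;> omega
    · rw [Odd.neg_pow ⟨t, rfl⟩] at hval
      rcases hS with e | e <;> rw [e] at hval <;> omega

/-- The possible degrees. -/
theorem degree_cases {q a b D E : ℕ} (hq : q.Prime) (hq2 : q ≠ 2) (hq3 : q ≠ 3) {ε δ : ℤ}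
    (hε : ε = 1 ∨ ε = -1) (hδ : δ = 1 ∨ δ = -1) (hD : 1 < D) (hE : 1 < E)
    (hDd : D ∣ 9 * 2 ^ a * q ^ b) (hEd : E ∣ 9 * 2 ^ a * q ^ b) (h9 : (9 : ℤ) ∣ (D : ℤ) - ε)
    (hrel : δ * E = 1 + ε * D) :
    D ≠ E ∧ ε = δ ∧ ((D = 8 ∧ E = 7 ∧ q = 7 ∧ ε = -1) ∨ (D = 17 ∧ E = 16 ∧ q = 17 ∧ ε = -1) ∨
      (D = q ∧ ((∃ i, 7 ≤ i ∧ q + 1 = 2 ^ i) ∨ ∃ i, 8 ≤ i ∧ q = 2 ^ i + 1))) := by
  have hεδ : ε = δ := by rcases hε with rfl | rfl <;> rcases hδ with rfl | rfl <;> omega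
  have hDE : (E : ℤ) = D + ε := by rcases hε with rfl | rfl <;> rcases hδ with rfl | rfl <;> omega
  have h3D : ¬ 3 ∣ D := by
    rintro ⟨c, rfl⟩
    rcases hε with rfl | rfl <;> omega
  have h3E : ¬ 3 ∣ E := by
    rintro ⟨c, rfl⟩
    rcases hε with rfl | rfl <;> omega
  have hsplit : ∀ N, N ∣ 9 * 2 ^ a * q ^ b → ¬ 3 ∣ N → ∃ x y, N = 2 ^ x * q ^ y := by
    intro N hN h3
    rw [mul_assoc] at hN
    have h' : N ∣ 2 ^ a * q ^ b := (Nat.Coprime.pow_right 2
      ((Nat.prime_three.coprime_iff_not_dvd).2 h3).symm).dvd_of_dvd_mul_left (show N ∣ 3 ^ 2 * _ from hN)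
    obtain ⟨c, d, hc, hd, rfl⟩ := Nat.dvd_mul.1 h'
    obtain ⟨x, -, rfl⟩ := (Nat.dvd_prime_pow Nat.prime_two).1 hc
    obtain ⟨y, -, rfl⟩ := (Nat.dvd_prime_pow hq).1 hd
    exact ⟨x, y, rfl⟩
  obtain ⟨x, y, hx⟩ := hsplit D hDd h3D
  obtain ⟨z, w, hz⟩ := hsplit E hEd h3E
  have hone : D = E + 1 ∨ E = D + 1 := by rcases hε with rfl | rfl <;> omega
  have hqodd : Odd q := hq.odd_of_ne_two hq2
  have hyw : y = 0 ∨ w = 0 := by
    by_contra hc
    push Not at hc
    have hd1 : q ∣ D := hx ▸ dvd_mul_of_dvd_right (dvd_pow_self q hc.1) _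
    have hd2 : q ∣ E := hz ▸ dvd_mul_of_dvd_right (dvd_pow_self q hc.2) _
    rcases hone with e | e
    · exact hq.one_lt.ne' (Nat.dvd_one.1 ((Nat.dvd_add_right hd2).1 (e ▸ hd1)))
    · exact hq.one_lt.ne' (Nat.dvd_one.1 ((Nat.dvd_add_right hd1).1 (e ▸ hd2)))
  have hxz : x = 0 ∨ z = 0 := by
    by_contra hc
    push Not at hc
    have hd1 : 2 ∣ D := hx ▸ dvd_mul_of_dvd_left (dvd_pow_self 2 hc.1) _
    have hd2 : 2 ∣ E := hz ▸ dvd_mul_of_dvd_left (dvd_pow_self 2 hc.2) _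
    omega
  refine ⟨by omega, hεδ, ?_⟩
  rcases hxz with rfl | rfl
  · -- `D` odd
    rw [pow_zero, one_mul] at hx
    have hy : y ≠ 0 := fun e => by rw [e, pow_zero] at hx; omega
    rw [hyw.resolve_left hy, pow_zero, mul_one] at hz
    obtain rfl : y = 1 := exponent_one (z := z) hq hq2 hq3 (by omega) (by omega)
    rw [pow_one] at hx
    subst hx hz
    have hm := two_pow_mod_nine z
    have h6 : z % 6 < 6 := Nat.mod_lt _ (by norm_num)
    rcases hε with rfl | rfl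
    · have hz1 : z % 6 = 1 := by
        generalize hj : z % 6 = j at hm h6
        interval_cases j <;> norm_num at hm <;> omega
      have hz7 : 7 ≤ z := by
        by_contra hc
        obtain rfl : z = 1 := by omega
        omega
      exact Or.inr (Or.inr ⟨rfl, Or.inl ⟨z, hz7, by omega⟩⟩)
    · have hz4 : z % 6 = 4 := by
        generalize hj : z % 6 = j at hm h6
        interval_cases j <;> norm_num at hm <;> omega
      rcases (show z = 4 ∨ 8 ≤ z by omega) with rfl | hz8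
      · exact Or.inr (Or.inl ⟨by omega, by norm_num, by omega, rfl⟩)
      · exact Or.inr (Or.inr ⟨rfl, Or.inr ⟨z, hz8, by omega⟩⟩)
  · -- `D` even
    rw [pow_zero, one_mul] at hz
    have hw : w ≠ 0 := fun e => by rw [e, pow_zero] at hz; omega
    rw [hyw.resolve_right hw, pow_zero, mul_one] at hx
    obtain rfl : w = 1 := exponent_one (z := x) hq hq2 hq3 (by omega) (by omega)
    rw [pow_one] at hz
    subst hx hz
    have hm := two_pow_mod_nine x
    have h6 : x % 6 < 6 := Nat.mod_lt _ (by norm_num)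
    rcases hε with rfl | rfl
    · exfalso
      have hx0 : x % 6 = 0 := by
        generalize hj : x % 6 = j at hm h6
        interval_cases j <;> norm_num at hm <;> omega
      obtain ⟨l, rfl⟩ : 6 ∣ x := Nat.dvd_of_mod_eq_zero hx0
      have hd : 2 ^ (2 * l) + 1 ∣ (2 ^ (2 * l)) ^ 3 + 1 ^ 3 :=
        Odd.nat_add_dvd_pow_add_pow (2 ^ (2 * l)) 1 (⟨1, rfl⟩ : Odd 3)
      rw [one_pow, ← pow_mul, show 2 * l * 3 = 6 * l by ring, show 2 ^ (6 * l) + 1 = E by omega] at hd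
      rcases (Nat.dvd_prime hq).1 hd with e | e
      · have := Nat.one_le_two_pow (n := 2 * l); omega
      · have : 2 ^ (2 * l) = 2 ^ (6 * l) := by omega
        have := Nat.pow_right_injective le_rfl this
        obtain rfl : l = 0 := by omega
        omega
    · have hx3 : x % 6 = 3 := by
        generalize hj : x % 6 = j at hm h6
        interval_cases j <;> norm_num at hm <;> omega
      have hd : 7 ∣ 2 ^ x - 1 := by
        obtain ⟨l, rfl⟩ : 3 ∣ x := Nat.dvd_of_mod_eq_zero (by omega)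
        rw [pow_mul]
        have := Nat.sub_dvd_pow_sub_pow (2 ^ 3) 1 l
        simpa using this
      rw [show 2 ^ x - 1 = E by omega] at hd
      have hE7 : E = 7 := ((Nat.prime_dvd_prime_iff_eq (by norm_num) hq).1 hd).symm
      exact Or.inl ⟨by omega, hE7, hE7, rfl⟩

end CfsgLib.Known.ThreeClasses
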