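import Cfsg.Agent.Lib.Known.ThreeClasses.CyclicTable
import Cfsg.Agent.Lib.Known.ThreeNine.Chars

/-!
# Centralizers in the cyclic case

A cyclic Sylow subgroup of order nine is strongly self-centralising: the small cases of the degrees.
-/

set_option autoImplicit false
set_option linter.all false

namespace CfsgLib.Known.ThreeClasses

open Cfsg CfsgLib.Char CfsgLib.CharDegree CfsgLib.Blocks Subgroup
open scoped ComplexConjugate

universe u

variable {G : Type u} [Group G] [Finite G] {R : Sylow 3 G} {q a b : ℕ}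

/-- `C(y) = R` when no element of prime order different from three commutes with `y`. -/
theorem centralizer_eq_of_forall [Fintype G] {m : ℕ} [Fact (Nat.Prime 3)]
    (S : Automizer.Setting 3 R m) {y : G} (hy : y ∈ (R : Subgroup G)) (hy1 : y ≠ 1)
    (hno : ∀ (p : ℕ) (x : G), p.Prime → p ≠ 3 → orderOf x = p → Commute y x → False) :
    centralizer ({y} : Set G) = (R : Subgroup G) := by
  obtain ⟨f, -, hker, hidx⟩ := Automizer.exists_complement S hy hy1
  refine (eq_of_le_of_card_ge (Automizer.le_centralizer S hy) ?_).symm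
  have hk1 : Nat.card f.ker = 1 := by
    by_contra hne
    obtain ⟨p, hp, hpd⟩ := Nat.exists_prime_and_dvd hne
    haveI := Fact.mk hp
    obtain ⟨x, hx⟩ := exists_prime_orderOf_dvd_card' p hpd
    refine hno p ((x : centralizer ({y} : Set G)) : G) hp (fun e => hker (e ▸ hpd)) ?_
      (mem_centralizer_singleton_iff.1 (x : centralizer ({y} : Set G)).2).symm
    rw [Subgroup.orderOf_coe, Subgroup.orderOf_coe, hx]
  have h1 := f.ker.index_mul_card
  rw [hk1, mul_one, hidx] at h1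
  rw [h1]

/-- An automizer of order two inverts. -/
theorem exists_inverter [Fintype G] [Fact (Nat.Prime 3)] (S : Automizer.Setting 3 R 2) {y : G}
    (hy : y ∈ (R : Subgroup G)) : ∃ g : G, g * y * g⁻¹ = y⁻¹ := by
  have h2 : Nat.card (Automizer.aut R) = 2 := Automizer.card_aut S
  have : Nontrivial (Automizer.aut R) := Finite.one_lt_card_iff_nontrivial.mp (by omega)
  obtain ⟨c, hc⟩ := exists_ne (1 : Automizer.aut R)
  obtain ⟨g, -, hg⟩ := Automizer.exists_rep c
  refine ⟨g, ?_⟩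
  set z : (R : Subgroup G) := ⟨y, hy⟩
  have hc2 : c * c = 1 := by
    have := pow_card_eq_one' (x := c)
    rwa [h2, pow_two] at this
  set w : (R : Subgroup G) := (c : MulAut (R : Subgroup G)) z * z with hw
  have hfix : (c : MulAut (R : Subgroup G)) w = w := by
    rw [hw, map_mul, ← MulAut.mul_apply, ← Subgroup.coe_mul, hc2, Subgroup.coe_one, MulAut.one_apply]
    exact Subtype.ext (S.comm _ z.2 _ ((c : MulAut (R : Subgroup G)) z).2)
  by_cases hw1 : w = 1
  · rw [hg z]
    exact eq_inv_of_mul_eq_one_left (congrArg Subtype.val hw1)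
  · exact absurd (Automizer.act_fixed S hw1 hfix) hc

theorem regular_pow {x : G} {p : ℕ} (hp : p.Prime) (hp3 : p ≠ 3) (hx : orderOf x = p) (j : ℕ) :
    ¬ 3 ∣ orderOf (x ^ j) := fun hd => hp3
  ((Nat.prime_dvd_prime_iff_eq Nat.prime_three hp).1 (hd.trans (hx ▸ orderOf_pow_dvd j))).symm

set_option maxHeartbeats 1000000 in
theorem Hyp.cyclic_cen [IsSimpleGroup G] (h : Hyp R q a b) (hcyc : IsCyclic (R : Subgroup G)) :
    ∀ k ∈ (R : Subgroup G), k ≠ 1 → centralizer ({k} : Set G) = (R : Subgroup G) := by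
  classical
  haveI : Fact (Nat.Prime 3) := ⟨Nat.prime_three⟩
  haveI := Fintype.ofFinite G
  haveI := Fintype.ofFinite (R : Subgroup G)
  haveI := Fintype.ofFinite (IrrCharacter G)
  obtain ⟨M, hM⟩ := CfsgLib.ZStar.exists_isPModular Nat.prime_three
  haveI := hM.2.1.isPrime
  have S := h.setting hcyc
  obtain ⟨Λ, Y, D, E, ε, T, hrat, hcases⟩ := h.exists_table hcyc hM
  obtain rfl : ε = -1 := by rcases hcases with ⟨-, -, -, e⟩ | ⟨-, -, -, e⟩ <;> exact e
  have hDv : (D = 8 ∧ E = 7 ∧ q = 7) ∨ (D = 17 ∧ E = 16 ∧ q = 17) := by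
    rcases hcases with ⟨e1, e2, e3, -⟩ | ⟨e1, e2, e3, -⟩
    · exact Or.inl ⟨e1, e2, e3⟩
    · exact Or.inr ⟨e1, e2, e3⟩
  have hperf := h.perfect
  have hΛ1 : (Λ : G → ℂ) 1 = ((D : ℤ) : ℂ) := by rw [apply_one_eq_charDegree, T.deg_Λ, Int.cast_natCast]
  have hD1 : 1 < (D : ℤ) := by omega
  have hprime : ∀ {p : ℕ} {x : G}, p.Prime → p ≠ 3 → orderOf x = p → p = 2 ∨ p = q := fun hp hp3 hx =>
    h.prime_cases hp (hx ▸ orderOf_dvd_natCard _) hp3
  -- values on a translate
  have hsec : ∀ {χ : IrrCharacter G}, χ ∈ principalBlock M G → ∀ {k x : G}, k ∈ (R : Subgroup G) → k ≠ 1 →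
      Commute k x → ¬ 3 ∣ orderOf x → (χ : G → ℂ) (k * x) = (χ : G → ℂ) k := by
    intro χ hχ k x hk hk1 hc hx
    exact Automizer.apply_eq_pPart S hM hχ ⟨x, rfl, hc, Automizer.isPElement hk, hx⟩ hk hk1
  -- the mixed sums
  have hmix : ∀ {n p : ℕ} {k x : G}, k ∈ (R : Subgroup G) → orderOf k = n → p.Prime → p ≠ 3 →
      orderOf x = p → Commute k x →
      ∃ (v : ℤ) (m1 m : ℕ), (Λ : G → ℂ) x = v ∧ (D : ℤ) + ((p : ℤ) - 1) * v = p * m1 ∧
        v < D ∧ -(D : ℤ) ≤ v ∧ (m1 : ℤ) < D ∧ (m1 : ℤ) - ((n : ℤ) - 1) = n * m := by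
    intro n p k x hk hn hp hp3 hx hc
    obtain ⟨v, hv⟩ := hrat.exists_int x
    obtain ⟨m1, hm1⟩ := hrat.sum_prime hp hx hΛ1 hv
    have hx1 : x ≠ 1 := fun e => hp.ne_one (by rw [← hx, e, orderOf_one])
    have hlt := lt_degree hΛ1 hD1 hx1 hv
    have habs : -(D : ℤ) ≤ v := by
      have hle' := IsChar.norm_le (IsIrr.isCharacter Λ.2) x
      rw [hv, hΛ1, Complex.norm_intCast, Complex.norm_intCast] at hle'
      have h2 : |v| ≤ |(D : ℤ)| := by exact_mod_cast hle'
      rw [Nat.abs_cast] at h2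
      exact neg_le_of_abs_le h2
    have hco : n.Coprime p := by
      obtain ⟨i, hi⟩ := Automizer.isPElement hk
      rw [← hn, hi]
      exact Nat.Coprime.pow_left i ((Nat.coprime_primes Nat.prime_three hp).2 (Ne.symm hp3))
    obtain ⟨m, hm⟩ := sum_mixed (IsIrr.isCharacter Λ.2) hn hx hco hc (c := ((-1 : ℤ) : ℂ)) (fun i j hi => by
      have hki : k ^ i ≠ 1 := fun e => hi (hn ▸ orderOf_dvd_of_pow_eq_one e)
      rw [hsec T.mem_Λ (pow_mem hk i) hki (hc.pow_pow i j) (regular_pow hp hp3 hx j),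
        T.sing _ (pow_mem hk i) hki])
    have hsum : ∑ j ∈ Finset.range p, (Λ : G → ℂ) (x ^ j) = (D : ℂ) + ((p : ℂ) - 1) * v := by
      have h0 : (0 : ℕ) ∈ Finset.range p := Finset.mem_range.2 hp.pos
      rw [← Finset.add_sum_erase _ _ h0, pow_zero, hΛ1,
        Finset.sum_congr rfl (g := fun _ => (v : ℂ)) (fun i hi => by
          rw [hrat.apply_pow _ (hx ▸ ((hp.coprime_iff_not_dvd).2 fun hd =>
            absurd (Nat.le_of_dvd (Nat.pos_of_ne_zero (Finset.ne_of_mem_erase hi)) hd)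
              (not_le.2 (Finset.mem_range.1 (Finset.mem_of_mem_erase hi)))).symm), hv]),
        Finset.sum_const, Finset.card_erase_of_mem h0, Finset.card_range, nsmul_eq_mul,
        Nat.cast_sub hp.one_le, Nat.cast_one, Int.cast_natCast]
    rw [hsum] at hm
    have hm' : (D : ℤ) + ((p : ℤ) - 1) * v + ((n : ℤ) * p - p) * (-1) = (n : ℤ) * p * m := by
      exact_mod_cast hm
    have hp0 : (0 : ℤ) < p := by exact_mod_cast hp.pos
    refine ⟨v, m1, m, hv, hm1, hlt, habs, ?_, ?_⟩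
    · refine lt_of_mul_lt_mul_left (a := (p : ℤ)) ?_ hp0.le
      have := mul_lt_mul_of_pos_left hlt (show (0 : ℤ) < (p : ℤ) - 1 by
        have := hp.two_le; omega)
      linarith
    · exact mul_left_cancel₀ hp0.ne' (by linear_combination hm' - hm1)
  -- elements of order nine
  have hC9 : ∀ r ∈ (R : Subgroup G), orderOf r = 9 → centralizer ({r} : Set G) = (R : Subgroup G) := by
    intro r hr hr9
    refine centralizer_eq_of_forall S hr (fun e => by rw [e, orderOf_one] at hr9; omega) ?_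
    intro p x hp hp3 hx hc
    obtain ⟨v, m1, m, hv, hm1, hlt, habs, hm1D, hm⟩ := hmix hr hr9 hp hp3 hx hc
    rcases hDv with ⟨rfl, rfl, rfl⟩ | ⟨rfl, rfl, rfl⟩
    · omega
    · have hm8 : m1 = 8 := by omega
      subst hm8
      rcases hprime hp hp3 hx with rfl | rfl
      · have h4 := Perm.ThreePrimeOrder.four_dvd_degree_sub hperf Λ (u := x)
          (by rw [← pow_two, ← hx, pow_orderOf_eq_one]) hv
        rw [T.deg_Λ] at h4
        omega
      · omega
  -- involutions
  obtain ⟨r, hr⟩ := hcyc.exists_generator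
  have hr9' : orderOf r = 9 := by rw [orderOf_eq_card_of_forall_mem_zpowers hr, h.card_R]
  have hro : orderOf (r : G) = 9 := by rw [Subgroup.orderOf_coe]; exact hr9'
  have hRz : zpowers (r : G) = (R : Subgroup G) :=
    eq_of_le_of_card_ge (zpowers_le.2 r.2) (by rw [Nat.card_zpowers, hro, h.card_R])
  have hinv : ∀ u : G, orderOf u = 2 → ∃ v : ℤ, (Λ : G → ℂ) u = v ∧ 9 * |v| ≤ (D : ℤ) - 8 := by
    intro u hu
    obtain ⟨v, hv⟩ := hrat.exists_int u
    refine ⟨v, hv, ?_⟩
    have hu2 : u * u = 1 := by rw [← pow_two, ← hu, pow_orderOf_eq_one]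
    have hu3 : ¬ 3 ∣ orderOf u := by rw [hu]; norm_num
    have hu1 : u ≠ 1 := fun e => by rw [e, orderOf_one] at hu; omega
    have hri : ((r : G))⁻¹ ∈ (R : Subgroup G) := inv_mem r.2
    have hri1 : ((r : G))⁻¹ ≠ 1 := fun e => by
      rw [← orderOf_inv, e, orderOf_one] at hro; omega
    have hlt := lt_degree hΛ1 hD1 hu1 hv
    -- only the principal block is nonzero at `r⁻¹`
    have hzero : ∀ χ : IrrCharacter G, χ ∉ principalBlock M G → (χ : G → ℂ) ((r : G))⁻¹ = 0 := by
      intro χ hχ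
      have hcol := column_orthogonality ((r : G))⁻¹ ((r : G))⁻¹
      rw [if_pos (IsConj.refl _), hC9 _ hri (by rw [orderOf_inv]; exact hro), h.card_R] at hcol
      have hblk := Automizer.sum_norm S hM hri hri1
      rw [finsum_mem_eq_finite_toFinset_sum _ (Set.toFinite _), h.card_R] at hblk
      rw [← Finset.sum_add_sum_compl (Set.toFinite (principalBlock M G)).toFinset] at hcol
      rw [Finset.sum_congr rfl (g := fun χ : IrrCharacter G =>
        (χ : G → ℂ) ((r : G))⁻¹ * (χ : G → ℂ) ((r : G))⁻¹⁻¹) (fun χ _ => by rw [IsIrr.map_inv χ.2 (r : G)⁻¹]),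
        hblk, add_eq_left] at hcol
      have hreal : (∑ χ ∈ (Set.toFinite (principalBlock M G)).toFinsetᶜ,
          Complex.normSq ((χ : G → ℂ) ((r : G))⁻¹)) = 0 := by
        have : (((∑ χ ∈ (Set.toFinite (principalBlock M G)).toFinsetᶜ,
          Complex.normSq ((χ : G → ℂ) ((r : G))⁻¹)) : ℝ) : ℂ) = 0 := by
          rw [Complex.ofReal_sum, ← hcol]
          exact Finset.sum_congr rfl fun χ _ => (Complex.mul_conj _).symm
        exact_mod_cast this
      rw [Finset.sum_eq_zero_iff_of_nonneg (fun χ _ => Complex.normSq_nonneg _)] at hreal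
      exact Complex.normSq_eq_zero.1 (hreal χ (by simp [hχ]))
    have hΛr : (Λ : G → ℂ) ((r : G))⁻¹ = ((-1 : ℤ) : ℂ) := T.sing _ hri hri1
    have hSY : (∑ η ∈ Y, (η : G → ℂ) ((r : G))⁻¹) = 1 := by
      have h1 := Automizer.sum_regular (P := R) hM (x := ⟨((r : G))⁻¹, hri⟩)
        (fun e => hri1 (congrArg Subtype.val e)) (r := (1 : G)) (by rw [orderOf_one]; norm_num)
      rw [T.sum_block, hΛr, hΛ1, trivChar_apply, trivChar_apply, one_mul,
        Finset.sum_congr rfl (g := fun η : IrrCharacter G => (E : ℂ) * (η : G → ℂ) ((r : G))⁻¹)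
          (fun η hη => by rw [apply_one_eq_charDegree, T.deg_Y η hη]), ← Finset.mul_sum] at h1
      push_cast at h1
      rcases hDv with ⟨e1, e2, -⟩ | ⟨e1, e2, -⟩ <;> rw [e1, e2] at h1 <;> push_cast at h1
      · linear_combination h1 / 7
      · linear_combination h1 / 16
    have hS : ∑ χ : IrrCharacter G, (χ : G → ℂ) u * (χ : G → ℂ) u * (χ : G → ℂ) ((r : G))⁻¹ / (χ : G → ℂ) 1 =
        1 - (v : ℂ) ^ 2 / D + (1 - (v : ℂ)) ^ 2 / E := by
      have h1 : ∑ χ : IrrCharacter G, (χ : G → ℂ) u * (χ : G → ℂ) u * (χ : G → ℂ) ((r : G))⁻¹ / (χ : G → ℂ) 1 =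
          ∑ᶠ χ ∈ principalBlock M G,
            (χ : G → ℂ) u * (χ : G → ℂ) u * (χ : G → ℂ) ((r : G))⁻¹ / (χ : G → ℂ) 1 := by
        rw [finsum_mem_eq_finite_toFinset_sum _ (Set.toFinite _)]
        refine (Finset.sum_subset (Finset.subset_univ _) fun χ _ hχ => ?_).symm
        rw [hzero χ fun hm => hχ ((Set.toFinite _).mem_toFinset.2 hm), mul_zero, zero_div]
      rw [h1, T.sum_block, hΛr, hΛ1, hv, trivChar_apply, trivChar_apply, trivChar_apply,
        Finset.sum_congr rfl (g := fun η : IrrCharacter G =>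
          (1 - (v : ℂ)) ^ 2 / E * (η : G → ℂ) ((r : G))⁻¹) (fun η hη => by
            rw [T.reg η hη u hu3, hv, apply_one_eq_charDegree, T.deg_Y η hη]
            push_cast; ring), ← Finset.mul_sum, hSY]
      push_cast
      ring
    have hcount := sum_three (G := G) u u ((r : G))⁻¹
    rw [hS] at hcount
    have hne : Nat.card {p : G × G // p.1 * u * p.1⁻¹ * (p.2 * u * p.2⁻¹ * (r : G)⁻¹) = 1} ≠ 0 := by
      intro e
      rw [e, Nat.cast_zero, mul_eq_zero] at hcount
      have h2 := hcount.resolve_left (Nat.cast_ne_zero.2 Nat.card_pos.ne')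
      have h3 : ((D : ℂ) - v) ^ 2 = 0 := by
        rcases hDv with ⟨e1, e2, -⟩ | ⟨e1, e2, -⟩ <;> rw [e1, e2] at h2 <;> rw [e1] <;> push_cast at h2 ⊢
        · linear_combination (56 : ℂ) * h2
        · linear_combination (272 : ℂ) * h2
      rw [sq_eq_zero_iff, sub_eq_zero] at h3
      have : (D : ℤ) = v := by exact_mod_cast h3
      omega
    obtain ⟨⟨⟨g1, g2⟩, hg⟩⟩ := (Nat.card_ne_zero.1 hne).1
    obtain ⟨t, ht⟩ : ∃ t, t = g1 * u * g1⁻¹ := ⟨_, rfl⟩
    obtain ⟨t', ht'⟩ : ∃ t', t' = g2 * u * g2⁻¹ := ⟨_, rfl⟩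
    simp only at hg
    rw [← ht, ← ht', ← mul_assoc, mul_inv_eq_one] at hg
    have htt : t * t = 1 := by
      rw [ht]; calc g1 * u * g1⁻¹ * (g1 * u * g1⁻¹) = g1 * (u * u) * g1⁻¹ := by group
        _ = 1 := by rw [hu2]; group
    have htt' : t' * t' = 1 := by
      rw [ht']; calc g2 * u * g2⁻¹ * (g2 * u * g2⁻¹) = g2 * (u * u) * g2⁻¹ := by group
        _ = 1 := by rw [hu2]; group
    have htinv : t⁻¹ = t := inv_eq_of_mul_eq_one_right htt
    have htrt : t * (r : G) * t⁻¹ = (r : G)⁻¹ := by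
      rw [← hg, mul_inv_rev, htinv, inv_eq_of_mul_eq_one_right htt', ← mul_assoc, htt, one_mul]
    have hconjR : ∀ x ∈ (R : Subgroup G), t * x * t⁻¹ = x⁻¹ := by
      intro x hx
      rw [← hRz, mem_zpowers_iff] at hx
      obtain ⟨i, rfl⟩ := hx
      rw [← conj_zpow, htrt, inv_zpow]
    have htN : t ∈ normalizer ((R : Subgroup G) : Set G) := by
      refine mem_normalizer_iff.2 fun x => ⟨fun hx => ?_, fun hx => ?_⟩
      · rw [hconjR x hx]; exact inv_mem hx
      · have h2 := hconjR _ hx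
        rw [show t * (t * x * t⁻¹) * t⁻¹ = t * t * x * (t * t)⁻¹ by group, htt, one_mul, inv_one,
          mul_one] at h2
        rw [h2]; exact inv_mem hx
    have hle := Perm.CharAverage.norm_sum_le (R : Subgroup G) (IsIrr.isCharacter Λ.2) htN
    have hlhs : ∀ x : (R : Subgroup G), (Λ : G → ℂ) ((x : G) * t) = (v : ℂ) := by
      intro x
      have hx9 : (x : G) ^ 9 = 1 := by
        have := pow_card_eq_one' (G := (R : Subgroup G)) (x := x)
        rw [h.card_R] at this
        exact_mod_cast congrArg Subtype.val this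
      rw [← hv, apply_eq_of_isConj Λ (isConj_iff.2 ⟨g1, ht.symm⟩)]
      refine apply_eq_of_isConj Λ (isConj_iff.2 ⟨((x : G) ^ 5)⁻¹, ?_⟩)
      have h5 := hconjR _ (pow_mem x.2 5)
      have h10 : (x : G) ^ 5 * (x : G) ^ 5 = x := by
        rw [← pow_add, show 5 + 5 = 9 + 1 from rfl, pow_succ, hx9, one_mul]
      have key : t * (x : G) ^ 5 = ((x : G) ^ 5)⁻¹ * t := mul_inv_eq_iff_eq_mul.1 h5
      calc ((x : G) ^ 5)⁻¹ * ((x : G) * t) * ((x : G) ^ 5)⁻¹⁻¹
          = ((x : G) ^ 5)⁻¹ * (x : G) * (t * (x : G) ^ 5) := by group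
        _ = ((x : G) ^ 5)⁻¹ * ((x : G) ^ 5 * (x : G) ^ 5) * (((x : G) ^ 5)⁻¹ * t) := by rw [key, h10]
        _ = t := by group
    rw [Finset.sum_congr rfl (fun x _ => hlhs x), Finset.sum_const, Finset.card_univ,
      ← Nat.card_eq_fintype_card, h.card_R, nsmul_eq_mul, ← Finset.add_sum_erase _ _
        (Finset.mem_univ (1 : (R : Subgroup G))), OneMemClass.coe_one, hΛ1,
      Finset.sum_congr rfl (g := fun _ => ((-1 : ℤ) : ℂ)) (fun (x : (R : Subgroup G)) hx =>
        T.sing x x.2 fun e => Finset.ne_of_mem_erase hx (Subtype.ext e)), Finset.sum_const,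
      Finset.card_erase_of_mem (Finset.mem_univ _), Finset.card_univ, ← Nat.card_eq_fintype_card, h.card_R,
      nsmul_eq_mul] at hle
    have e1 : ((9 : ℕ) : ℂ) * (v : ℂ) = ((9 * v : ℤ) : ℂ) := by push_cast; ring
    have e2 : ((D : ℤ) : ℂ) + ((9 - 1 : ℕ) : ℂ) * ((-1 : ℤ) : ℂ) = (((D : ℤ) - 8 : ℤ) : ℂ) := by
      push_cast; ring
    rw [e1, e2, Complex.norm_intCast, Complex.intCast_re] at hle
    have : |9 * v| ≤ (D : ℤ) - 8 := by exact_mod_cast hle
    rwa [abs_mul, show |(9 : ℤ)| = 9 by norm_num] at this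
  intro k hk hk1
  have hd := Subgroup.orderOf_dvd_natCard (R : Subgroup G) hk
  rw [h.card_R, show (9 : ℕ) = 3 ^ 2 by norm_num] at hd
  obtain ⟨i, hi, he⟩ := (Nat.dvd_prime_pow Nat.prime_three).1 hd
  obtain rfl | hk3 : i = 2 ∨ orderOf k = 3 := by
    rcases (show i = 0 ∨ i = 1 ∨ i = 2 by omega) with rfl | rfl | rfl
    · exact absurd (orderOf_eq_one_iff.1 he) hk1
    · exact Or.inr he
    · exact Or.inl rfl
  · exact hC9 k hk he
  refine centralizer_eq_of_forall S hk hk1 fun p x hp hp3 hx hc => ?_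
  obtain ⟨v, m1, m, hv, hm1, hlt, habs, hm1D, hm⟩ := hmix hk hk3 hp hp3 hx hc
  rcases hprime hp hp3 hx with rfl | hpq
  · obtain ⟨v', hv', hb'⟩ := hinv x hx
    obtain rfl : v' = v := by exact_mod_cast hv'.symm.trans hv
    have h4 := Perm.ThreePrimeOrder.four_dvd_degree_sub hperf Λ (u := x)
      (by rw [← pow_two, ← hx, pow_orderOf_eq_one]) hv
    rw [T.deg_Λ] at h4
    push_cast at hm hm1
    rcases hDv with ⟨rfl, rfl, rfl⟩ | ⟨rfl, rfl, rfl⟩ <;> rcases abs_cases v' with ⟨e, e0⟩ | ⟨e, e0⟩ <;> omega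
  · subst hpq
    rcases hDv with ⟨rfl, rfl, rfl⟩ | ⟨rfl, rfl, rfl⟩
    swap
    · push_cast at hm hm1; omega
    push_cast at hm hm1
    have hv1 : v = 1 := by omega
    subst hv1
    -- the exceptional characters at `k`
    have hηbd : ∀ η ∈ Y, ∃ n : ℤ, (η : G → ℂ) k = n ∧ 1 ≤ n := by
      intro η hη
      have hreg : ∀ j : ℕ, (η : G → ℂ) (x ^ j) = if 7 ∣ j then 7 else 0 := by
        intro j
        split_ifs with hj
        · rw [orderOf_dvd_iff_pow_eq_one.1 (hx.symm ▸ hj), apply_one_eq_charDegree, T.deg_Y η hη]; rfl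
        · rw [T.reg η hη _ (regular_pow hp hp3 hx j), hrat.apply_pow x (by
            rw [hx]; exact (((by norm_num : Nat.Prime 7).coprime_iff_not_dvd).2 hj).symm), hv]
          norm_num
      obtain ⟨m', hm'⟩ := sum_mixed (IsIrr.isCharacter η.2) hk3 hx (by norm_num) hc
        (c := (η : G → ℂ) k) (fun i j hi => by
          have hki : k ^ i ≠ 1 := fun e => hi (hk3 ▸ orderOf_dvd_of_pow_eq_one e)
          rw [hsec (T.mem_Y η hη) (pow_mem hk i) hki (hc.pow_pow i j) (regular_pow hp hp3 hx j)]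
          have hi3 : i % 3 = 1 ∨ i % 3 = 2 := by omega
          rw [← pow_mod_orderOf, hk3]
          rcases hi3 with e | e <;> rw [e]
          · rw [pow_one]
          · have hkk : k ^ 2 = k⁻¹ := by
              refine eq_inv_of_mul_eq_one_left ?_
              rw [← pow_succ, show 2 + 1 = 3 from rfl, ← hk3, pow_orderOf_eq_one]
            obtain ⟨g, hg⟩ := exists_inverter S hk
            rw [hkk]
            exact (apply_eq_of_isConj η (isConj_iff.2 ⟨g, hg⟩)).symm)
      rw [Finset.sum_congr rfl (fun j _ => hreg j), Finset.sum_ite, Finset.sum_const, Finset.sum_const,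
        show ((Finset.range 7).filter fun j => 7 ∣ j).card = 1 by decide, one_nsmul, smul_zero, add_zero] at hm'
      push_cast at hm'
      obtain ⟨n, hn, hn'⟩ := exists_int_of_mul_eq (IsChar.isIntegral (IsIrr.isCharacter η.2) k)
        (n := 2) (c := 3 * (m' : ℤ) - 1) (by norm_num) (by push_cast; linear_combination hm' / 7)
      exact ⟨n, hn, by omega⟩
    choose! nn hnn hn1 using hηbd
    have h1 := Automizer.sum_regular (P := R) hM (x := ⟨k, hk⟩)
      (fun e => hk1 (congrArg Subtype.val e)) (r := (1 : G)) (by rw [orderOf_one]; norm_num)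
    rw [T.sum_block, T.sing k hk hk1, hΛ1, trivChar_apply, trivChar_apply,
      Finset.sum_congr rfl (g := fun η : IrrCharacter G => (7 : ℂ) * (nn η : ℂ))
        (fun η hη => by rw [apply_one_eq_charDegree, T.deg_Y η hη, hnn η hη]; norm_num),
      ← Finset.mul_sum] at h1
    push_cast at h1
    have hs : ((∑ η ∈ Y, nn η : ℤ) : ℂ) = ((1 : ℤ) : ℂ) := by push_cast; linear_combination h1 / 7
    have hs' := Int.cast_injective hs
    have h4 := Finset.card_nsmul_le_sum Y nn 1 hn1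
    rw [T.card_Y, hs'] at h4
    norm_num at h4

end CfsgLib.Known.ThreeClasses
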