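import Cfsg.Agent.Lib.Known.ThreeClasses.CyclicCentralizer
import Cfsg.Agent.Lib.Known.ThreeNine.Final
import Mathlib.GroupTheory.SpecificGroups.Alternating

/-!
# The cyclic case

A simple group of order `9 * 2 ^ a * q ^ b` with cyclic Sylow 3-subgroup is `PSL(2,8)` or `PSL(2,17)`.
-/

set_option autoImplicit false
set_option linter.all false

namespace CfsgLib.Known.ThreeClasses

open Subgroup

universe u

variable {G : Type u} [Group G] [Finite G] {R : Sylow 3 G} {q a b : ℕ}

theorem orderOf_ne_nine (σ : alternatingGroup (Fin 6)) : orderOf σ ≠ 9 := by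
  intro h
  rw [← Subgroup.orderOf_coe, ← Equiv.Perm.lcm_cycleType] at h
  have h60 : (σ : Equiv.Perm (Fin 6)).cycleType.lcm ∣ 60 := Multiset.lcm_dvd.2 fun n hn => by
    have h2 := Equiv.Perm.two_le_of_mem_cycleType hn
    have h6 : n ≤ 6 := (Equiv.Perm.le_card_support_of_mem_cycleType hn).trans
      ((Finset.card_le_univ _).trans (by simp))
    interval_cases n <;> norm_num
  rw [h] at h60
  norm_num at h60

theorem Hyp.cyclic_conclusion [IsSimpleGroup G] (h : Hyp R q a b) (hcyc : IsCyclic (R : Subgroup G)) :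
    (∃ (F : Type) (_ : Field F) (_ : Fintype F), Fintype.card F = 8 ∧
        Nonempty (G ≃* Matrix.ProjectiveSpecialLinearGroup (Fin 2) F)) ∨
      Nonempty (G ≃* Matrix.ProjectiveSpecialLinearGroup (Fin 2) (ZMod 17)) := by
  rcases ThreeNine.Data.main
    ({ nonab := h.nonab, prime := h.prime, ne_two := h.ne_two, ne_three := h.ne_three, card := h.card,
       cen := h.cyclic_cen hcyc } : ThreeNine.Data R q a b) with ⟨⟨e⟩⟩ | h1 | h1
  · exfalso
    obtain ⟨r, hr⟩ := hcyc.exists_generator
    refine orderOf_ne_nine (e r) ?_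
    rw [MulEquiv.orderOf_eq, Subgroup.orderOf_coe, orderOf_eq_card_of_forall_mem_zpowers hr, h.card_R]
  · exact Or.inl h1
  · exact Or.inr h1

end CfsgLib.Known.ThreeClasses
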