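import Cfsg.Agent.Lib.Known.ThreeClasses.BigPrime
import Cfsg.Agent.Lib.Known.ThreeClasses.CyclicArith
import Cfsg.Agent.Lib.Blocks.PrincipalGalois

/-!
# The principal 3-block for a cyclic Sylow subgroup of order nine
-/

set_option autoImplicit false
set_option linter.all false

namespace CfsgLib.Known.ThreeClasses

open Cfsg CfsgLib.Char CfsgLib.CharDegree CfsgLib.Blocks Subgroup
open scoped ComplexConjugate commutatorElement

universe u

variable {G : Type u} [Group G] [Finite G]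

/-- The standing hypotheses. -/
structure Hyp (R : Sylow 3 G) (q a b : ℕ) : Prop where
  nonab : ¬ IsMulCommutative G
  prime : q.Prime
  ne_two : q ≠ 2
  ne_three : q ≠ 3
  card : Nat.card G = 9 * 2 ^ a * q ^ b

variable {R : Sylow 3 G} {q a b : ℕ}

theorem Hyp.perfect [IsSimpleGroup G] (h : Hyp R q a b) : _root_.commutator G = ⊤ := by
  rcases (Subgroup.commutator_normal (⊤ : Subgroup G) ⊤).eq_bot_or_eq_top with e | e
  · exfalso
    refine h.nonab ⟨⟨fun x y => ?_⟩⟩
    have h1 : ⁅x, y⁆ ∈ (⁅(⊤ : Subgroup G), ⊤⁆ : Subgroup G) := commutator_mem_commutator (mem_top x) (mem_top y)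
    rw [e, mem_bot, commutatorElement_eq_one_iff_mul_comm] at h1
    exact h1
  · exact e

theorem Hyp.card_R (h : Hyp R q a b) : Nat.card (R : Subgroup G) = 9 := by
  haveI : Fact (Nat.Prime 3) := ⟨Nat.prime_three⟩
  have hc : ¬ 3 ∣ 2 ^ a * q ^ b := fun hd => by
    rcases Nat.prime_three.dvd_mul.1 hd with h1 | h1
    · have := (Nat.prime_dvd_prime_iff_eq Nat.prime_three Nat.prime_two).1 (Nat.prime_three.dvd_of_dvd_pow h1)
      omega
    · exact h.ne_three ((Nat.prime_dvd_prime_iff_eq Nat.prime_three h.prime).1 (Nat.prime_three.dvd_of_dvd_pow h1)).symm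
  have hf : (Nat.card G).factorization 3 = 2 := by
    rw [h.card, mul_assoc, Nat.factorization_mul (by norm_num)
      (mul_ne_zero (pow_ne_zero _ two_ne_zero) (pow_ne_zero _ h.prime.ne_zero)), Finsupp.add_apply,
      Nat.factorization_eq_zero_of_not_dvd hc, add_zero, show (9 : ℕ) = 3 ^ 2 by norm_num,
      Nat.Prime.factorization_pow Nat.prime_three, Finsupp.single_eq_same]
  rw [R.card_eq_multiplicity, hf]
  norm_num

theorem Hyp.prime_cases (h : Hyp R q a b) {p : ℕ} (hp : p.Prime) (hpG : p ∣ Nat.card G) (hp3 : p ≠ 3) :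
    p = 2 ∨ p = q := by
  rw [h.card, show (9 : ℕ) = 3 ^ 2 by norm_num] at hpG
  rcases hp.dvd_mul.1 hpG with h1 | h1
  · rcases hp.dvd_mul.1 h1 with h2 | h2
    · exact absurd ((Nat.prime_dvd_prime_iff_eq hp Nat.prime_three).1 (hp.dvd_of_dvd_pow h2)) hp3
    · exact Or.inl ((Nat.prime_dvd_prime_iff_eq hp Nat.prime_two).1 (hp.dvd_of_dvd_pow h2))
  · exact Or.inr ((Nat.prime_dvd_prime_iff_eq hp h.prime).1 (hp.dvd_of_dvd_pow h1))

/-- The automiser of a cyclic Sylow subgroup of order nine inverts. -/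
theorem Hyp.setting [IsSimpleGroup G] (h : Hyp R q a b) (hcyc : IsCyclic (R : Subgroup G)) :
    Automizer.Setting 3 R 2 := by
  classical
  haveI : Fact (Nat.Prime 3) := ⟨Nat.prime_three⟩
  haveI := Fintype.ofFinite G
  set N := normalizer ((R : Subgroup G) : Set G)
  set C := centralizer ((R : Subgroup G) : Set G)
  have hcomm : ∀ x ∈ (R : Subgroup G), ∀ y ∈ (R : Subgroup G), x * y = y * x := fun x hx y hy =>
    congrArg Subtype.val (mul_comm' (⟨x, hx⟩ : (R : Subgroup G)) ⟨y, hy⟩)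
  have hRC : (R : Subgroup G) ≤ C := fun x hx => mem_centralizer_iff.2 fun y hy => hcomm y hy x hx
  set m := C.relIndex N with hm
  have h3m : ¬ 3 ∣ m := by
    intro hd
    refine R.not_dvd_index (hd.trans ((relIndex_dvd_of_le_left N hRC).trans ?_))
    rw [← relIndex_mul_index (le_normalizer : (R : Subgroup G) ≤ N)]
    exact dvd_mul_right _ _
  have hm6 : m ∣ 6 := by
    have hcard : Nat.card (Automizer.aut R) = m := by
      rw [← Subgroup.index_ker, Subgroup.normalizerMonoidHom_ker]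
      rfl
    rw [← hcard]
    refine (Subgroup.card_subgroup_dvd_card _).trans ?_
    rw [IsCyclic.card_mulAut, h.card_R, show (9 : ℕ) = 3 ^ 2 by norm_num,
      Nat.totient_prime_pow Nat.prime_three (by norm_num)]
    norm_num
  have hm2 : m = 2 := by
    have hm1 : m ≠ 1 := by
      intro e
      have hle : N ≤ C := relIndex_eq_one.1 e
      have hcompl := MonoidHom.ker_transferSylow_isComplement' R hle
      rcases (MonoidHom.normal_ker (MonoidHom.transferSylow R hle)).eq_bot_or_eq_top with e1 | e1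
      · refine h.nonab ⟨⟨fun x y => ?_⟩⟩
        have hc := hcompl.card_mul
        rw [e1, card_bot, one_mul] at hc
        have htop : (R : Subgroup G) = ⊤ := eq_top_of_card_eq _ hc
        exact hcomm x (htop ▸ mem_top x) y (htop ▸ mem_top y)
      · have hc := hcompl.card_mul
        rw [e1, card_top, h.card_R] at hc
        have := Nat.card_pos (α := G)
        omega
    have := Nat.le_of_dvd (by norm_num) hm6
    interval_cases m <;> first | rfl | omega
  refine ⟨hcomm, hm ▸ hm2, fun y hy hy1 => le_antisymm ?_ (le_inf (centralizer_le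
    (Set.singleton_subset_iff.2 hy)) ?_)⟩
  · rintro g ⟨hgy, hgN⟩
    obtain ⟨r, hr⟩ := hcyc.exists_generator
    have hro : orderOf r = 9 := by rw [orderOf_eq_card_of_forall_mem_zpowers hr, h.card_R]
    have hgen : ∀ z : (R : Subgroup G), ∃ i : ℕ, r ^ i = z := fun z => by
      have := hr z
      rwa [← mem_powers_iff_mem_zpowers, Submonoid.mem_powers_iff] at this
    have hpow : ∀ i : ℕ, g * (r : G) ^ i * g⁻¹ = (g * r * g⁻¹) ^ i := fun i => (conj_pow).symm
    obtain ⟨j, hj⟩ := hgen ⟨g * r * g⁻¹, (mem_normalizer_iff.1 hgN r).1 r.2⟩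
    have hj' : (r : G) ^ j = g * r * g⁻¹ := by rw [← SubgroupClass.coe_pow, hj]
    have hsq : g ^ 2 ∈ C := by
      have h2 : (C.subgroupOf N).index = 2 := hm2
      exact mem_subgroupOf.1 (sq_mem_of_index_two h2 ⟨g, hgN⟩)
    have hjj : (r : G) ^ (j * j) = r := by
      rw [pow_mul, hj', ← hpow, hj']
      have := mem_centralizer_iff.1 hsq r r.2
      rw [show g * (g * (r : G) * g⁻¹) * g⁻¹ = g ^ 2 * r * (g ^ 2)⁻¹ by rw [pow_two]; group, ← this, mul_inv_cancel_right]
    obtain ⟨i, hi⟩ := hgen ⟨y, hy⟩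
    have hiy : (r : G) ^ i = y := by rw [← SubgroupClass.coe_pow, hi]
    have hji : (r : G) ^ (j * i) = (r : G) ^ i := by
      rw [pow_mul, hj', ← hpow, hiy, mem_centralizer_singleton_iff.1 hgy, mul_inv_cancel_right]
    have hro' : orderOf (r : G) = 9 := by rw [Subgroup.orderOf_coe]; exact hro
    replace hjj : (j * j) ≡ 1 [MOD 9] := by
      rw [← hro', ← pow_eq_pow_iff_modEq, pow_one]; exact hjj
    rw [pow_eq_pow_iff_modEq, hro'] at hji
    have hi9 : i % 9 ≠ 0 := fun e => hy1 (by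
      rw [← hiy, ← pow_mod_orderOf, hro', e, pow_zero])
    have hj1 : j % 9 = 1 := by
      simp only [Nat.ModEq, Nat.mul_mod j j, Nat.mul_mod j i] at hjj hji
      have h1 : j % 9 < 9 := Nat.mod_lt _ (by norm_num)
      have h2 : i % 9 < 9 := Nat.mod_lt _ (by norm_num)
      generalize j % 9 = u at hjj hji h1 ⊢
      generalize i % 9 = v at hji h2 hi9
      interval_cases u <;> omega
    refine mem_centralizer_iff.2 fun z hz => ?_
    obtain ⟨k, hk⟩ := hgen ⟨z, hz⟩
    have hkz : (r : G) ^ k = z := by rw [← SubgroupClass.coe_pow, hk]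
    have hgr : g * r * g⁻¹ = r := by
      rw [← hj', ← pow_mod_orderOf, hro', hj1, pow_one]
    rw [← hkz, ← mul_inv_eq_iff_eq_mul.1 ((hpow k).trans (by rw [hgr]))]
  · intro g hg
    exact mem_normalizer_iff.2 fun z => by
      constructor
      · intro hz
        rw [mem_centralizer_iff.1 hg z hz |>.symm, mul_inv_cancel_right]
        exact hz
      · intro hz
        have := mem_centralizer_iff.1 hg _ hz
        have e : z = g * z * g⁻¹ := by
          apply mul_left_cancel (a := g)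
          rw [← this]; group
        rw [e]; exact hz

/-- The values on the principal block. -/
structure Table (R : Sylow 3 G) (M : Ideal AlgInt) (Λ : IrrCharacter G) (Y : Finset (IrrCharacter G))
    (D E : ℕ) (ε : ℤ) : Prop where
  sum_block : ∀ F : IrrCharacter G → ℂ,
    ∑ᶠ χ ∈ principalBlock M G, F χ = F (trivChar G) + (F Λ + ∑ χ ∈ Y, F χ)
  mem_Λ : Λ ∈ principalBlock M G
  mem_Y : ∀ η ∈ Y, η ∈ principalBlock M G
  card_Y : Y.card = 4
  deg_Λ : charDegree (Λ : G → ℂ) = D
  deg_Y : ∀ η ∈ Y, charDegree (η : G → ℂ) = E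
  sing : ∀ y ∈ (R : Subgroup G), y ≠ 1 → (Λ : G → ℂ) y = ε
  reg : ∀ η ∈ Y, ∀ g : G, ¬ 3 ∣ orderOf g → (η : G → ℂ) g = ε * (1 + ε * (Λ : G → ℂ) g)
  rel : ε * (E : ℤ) = 1 + ε * D
  sign : ε = 1 ∨ ε = -1

set_option maxHeartbeats 1000000 in
/-- The block, and the possible degrees. -/
theorem Hyp.exists_table [IsSimpleGroup G] (h : Hyp R q a b) (hcyc : IsCyclic (R : Subgroup G))
    {M : Ideal AlgInt} [M.IsPrime] (hM : IsPModular 3 M) :
    ∃ (Λ : IrrCharacter G) (Y : Finset (IrrCharacter G)) (D E : ℕ) (ε : ℤ),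
      Table R M Λ Y D E ε ∧ IsRat Λ ∧
      ((D = 8 ∧ E = 7 ∧ q = 7 ∧ ε = -1) ∨ (D = 17 ∧ E = 16 ∧ q = 17 ∧ ε = -1)) := by
  classical
  haveI : Fact (Nat.Prime 3) := ⟨Nat.prime_three⟩
  haveI := Fintype.ofFinite G
  haveI := Fintype.ofFinite (R : Subgroup G)
  have S := h.setting hcyc
  have h9 := h.card_R
  obtain ⟨s, X, Y, -, hB, hdis, -, hY, htriv, av, d, δ, ζ, hδ, ha, hζY, hYζ, -, -, hnorm, hsame, hrel⟩ :=
    Automizer.exists_config S hM (by rw [h9]; norm_num)
  rw [h9] at hY hnorm hrel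
  have hfin := Set.toFinite X
  have hfinY := Set.toFinite Y
  obtain ⟨y0, hy0, hy01⟩ := (R : Subgroup G).bot_or_exists_ne_one.resolve_left fun e => by
    rw [e, card_bot] at h9; omega
  have hav1 : av (trivChar G) = 1 := by
    have h' := (ha _ htriv).2 ⟨y0, hy0⟩ fun e => hy01 (congrArg Subtype.val e)
    rw [trivChar_apply] at h'
    exact_mod_cast h'.symm
  rw [finsum_mem_eq_finite_toFinset_sum _ hfin,
    ← Finset.add_sum_erase _ _ (hfin.mem_toFinset.2 htriv), hav1] at hnorm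
  norm_num at hnorm
  set T := hfin.toFinset.erase (trivChar G) with hT
  have hTnn : (0 : ℤ) ≤ ∑ χ ∈ T, av χ ^ 2 := Finset.sum_nonneg fun χ _ => sq_nonneg _
  have hd : d = 0 := by
    by_contra hd
    have h1 : (1 : ℤ) ≤ d ^ 2 := by
      have := sq_pos_of_ne_zero hd
      omega
    nlinarith [sq_nonneg (d - δ)]
  subst hd
  have hδ2 : δ ^ 2 = 1 := by rcases hδ with rfl | rfl <;> norm_num
  have hT1 : ∑ χ ∈ T, av χ ^ 2 = 1 := by linarith [show ((0 : ℤ) - δ) ^ 2 = 1 by rw [zero_sub, neg_sq, hδ2]]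
  have hTX : ∀ χ ∈ T, χ ∈ X := fun χ hχ => hfin.mem_toFinset.1 (Finset.mem_of_mem_erase hχ)
  have hTc : T.card = 1 := by
    have h1 : (T.card : ℤ) ≤ ∑ χ ∈ T, av χ ^ 2 := by
      rw [Finset.card_eq_sum_ones, Nat.cast_sum]
      refine Finset.sum_le_sum fun χ hχ => ?_
      have := sq_pos_of_ne_zero (ha χ (hTX χ hχ)).1
      push_cast
      omega
    have h2 : T.card ≠ 0 := fun e => by rw [Finset.card_eq_zero.1 e, Finset.sum_empty] at hT1; norm_num at hT1
    omega
  obtain ⟨Λ, hΛ⟩ := Finset.card_eq_one.1 hTc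
  have hΛT : Λ ∈ T := by rw [hΛ]; exact Finset.mem_singleton_self Λ
  have hΛX := hTX Λ hΛT
  have hΛ1 : Λ ≠ trivChar G := Finset.ne_of_mem_erase hΛT
  set ε := av Λ with hεdef
  have hε : ε = 1 ∨ ε = -1 := by
    rw [hΛ, Finset.sum_singleton] at hT1
    exact sq_eq_one_iff.1 hT1
  have hXeq : hfin.toFinset = insert (trivChar G) {Λ} := by
    rw [← hΛ, hT, Finset.insert_erase (hfin.mem_toFinset.2 htriv)]
  have hsum : ∀ F : IrrCharacter G → ℂ,
      ∑ᶠ χ ∈ principalBlock M G, F χ = F (trivChar G) + (F Λ + ∑ χ ∈ hfinY.toFinset, F χ) := by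
    intro F
    rw [hB, finsum_mem_union hdis hfin hfinY, finsum_mem_eq_finite_toFinset_sum _ hfin,
      finsum_mem_eq_finite_toFinset_sum _ hfinY, hXeq,
      Finset.sum_insert (by rw [Finset.mem_singleton]; exact Ne.symm hΛ1), Finset.sum_singleton, add_assoc]
  have hsingΛ : ∀ y ∈ (R : Subgroup G), y ≠ 1 → (Λ : G → ℂ) y = ε := fun y hy hy1 =>
    (ha Λ hΛX).2 ⟨y, hy⟩ fun e => hy1 (congrArg Subtype.val e)
  have hregE : ∀ η ∈ Y, ∀ g : G, ¬ 3 ∣ orderOf g →
      -(δ : ℂ) * (η : G → ℂ) g + (1 + (ε : ℂ) * (Λ : G → ℂ) g) = 0 := by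
    intro η hη g hg
    have h1 := hrel η hη g hg
    rw [finsum_mem_eq_finite_toFinset_sum _ hfin, hXeq,
      Finset.sum_insert (by rw [Finset.mem_singleton]; exact Ne.symm hΛ1), Finset.sum_singleton, hav1,
      trivChar_apply] at h1
    rw [← h1]
    push_cast
    ring
  obtain ⟨η0, hη0⟩ : Y.Nonempty := by
    by_contra hc
    rw [Set.not_nonempty_iff_eq_empty] at hc
    rw [hc, Nat.card_coe_set_eq, Set.ncard_empty] at hY
    omega
  set D := charDegree (Λ : G → ℂ) with hD
  set E := charDegree (η0 : G → ℂ) with hE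
  have h10 : ¬ 3 ∣ orderOf (1 : G) := by rw [orderOf_one]; norm_num
  have hdegY : ∀ η ∈ Y, charDegree (η : G → ℂ) = E := fun η hη => by
    have h1 := hsame η hη η0 hη0 1 h10
    rw [apply_one_eq_charDegree, apply_one_eq_charDegree] at h1
    exact_mod_cast h1
  have hrel1 : δ * (E : ℤ) = 1 + ε * D := by
    have h1 := hregE η0 hη0 1 h10
    rw [apply_one_eq_charDegree, apply_one_eq_charDegree, ← hD, ← hE] at h1
    refine Int.cast_injective (α := ℂ) ?_
    push_cast
    linear_combination -h1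
  have hgt : ∀ χ : IrrCharacter G, χ ≠ trivChar G → 1 < charDegree (χ : G → ℂ) := fun χ hχ => by
    have h0 := CharDegree.charDegree_pos χ
    have : charDegree (χ : G → ℂ) ≠ 1 := fun e => hχ (Perm.SelfCentDegree.eq_trivChar_of_degree_one
      h.perfect χ (by rw [apply_one_eq_charDegree, e, Nat.cast_one]))
    omega
  have hη1 : ∀ η ∈ Y, η ≠ trivChar G := fun η hη e => Set.disjoint_left.1 hdis htriv (e ▸ hη)
  have hD9 : (9 : ℤ) ∣ (D : ℤ) - ε := by
    obtain ⟨t, ht⟩ := Perm.CharAverage.exists_sum_eq (R : Subgroup G) (IsIrr.isCharacter Λ.2)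
    rw [← Finset.add_sum_erase _ _ (Finset.mem_univ (1 : (R : Subgroup G))), OneMemClass.coe_one,
      apply_one_eq_charDegree, ← hD, Finset.sum_congr rfl (g := fun _ => (ε : ℂ)) (fun (x : (R : Subgroup G)) hx =>
        hsingΛ x x.2 fun e => Finset.ne_of_mem_erase hx (Subtype.ext e)), Finset.sum_const,
      Finset.card_erase_of_mem (Finset.mem_univ _), Finset.card_univ, ← Nat.card_eq_fintype_card, h9,
      nsmul_eq_mul] at ht
    have ht' : (D : ℤ) + 8 * ε = 9 * t := by exact_mod_cast ht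
    omega
  have hdvd : ∀ χ : IrrCharacter G, charDegree (χ : G → ℂ) ∣ 9 * 2 ^ a * q ^ b := fun χ =>
    h.card ▸ Blocks.charDegree_dvd_card χ
  obtain ⟨hne, hεδ, hcases⟩ := degree_cases h.prime h.ne_two h.ne_three hε hδ (hgt Λ hΛ1)
    (hgt η0 (hη1 η0 hη0)) (hdvd Λ) (hdvd η0) hD9 hrel1
  have hrat : IsRat Λ := by
    intro k hk g
    have hmem := powTwist_mem_principalBlock hM hk (χ := Λ) (hB ▸ Or.inl hΛX)
    have hdeg : charDegree (powTwist hk Λ : G → ℂ) = D := by
      rw [hD, charDegree, charDegree, powTwist_apply, one_pow]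
    rw [hB] at hmem
    rcases hmem with hm | hm
    · have hm' : powTwist hk Λ ∈ hfin.toFinset := hfin.mem_toFinset.2 hm
      rw [hXeq, Finset.mem_insert, Finset.mem_singleton] at hm'
      rcases hm' with e | e
      · rw [e, show charDegree (trivChar G : G → ℂ) = 1 from CharDegree.charDegree_one] at hdeg
        have := hgt Λ hΛ1
        omega
      · conv_rhs => rw [← e]
        exact (powTwist_apply hk Λ g).symm
    · exact absurd ((hdegY _ hm).symm.trans hdeg).symm hne
  refine ⟨Λ, hfinY.toFinset, D, E, ε, ⟨hsum, hB ▸ Or.inl hΛX, fun η hη => hB ▸ Or.inr (hfinY.mem_toFinset.1 hη),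
    ?_, rfl, fun η hη => hdegY η (hfinY.mem_toFinset.1 hη), hsingΛ, fun η hη g hg => ?_, ?_, hε⟩, hrat, ?_⟩
  · rw [← Set.ncard_eq_toFinset_card Y hfinY, ← Nat.card_coe_set_eq, hY]
  · have h1 := hregE η (hfinY.mem_toFinset.1 hη) g hg
    have hε2 : (ε : ℂ) * ε = 1 := by rcases hε with e | e <;> rw [e] <;> norm_num
    rw [← hεδ] at h1
    linear_combination -(ε : ℂ) * h1 - (η : G → ℂ) g * hε2
  · rw [← hrel1, hεδ]
  · rcases hcases with hc | hc | ⟨hDq, hbig⟩
    · exact Or.inl hc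
    · exact Or.inr hc
    · exact (no_big_prime h.perfect h.prime h.card hbig hrat hDq).elim

end CfsgLib.Known.ThreeClasses
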