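import Cfsg.Agent.Lib.Known.ThreeClasses.Columns

/-!
# The column at a diagonal element, and the congruences on the Sylow subgroup
-/

set_option autoImplicit false
set_option linter.all false

namespace CfsgLib.Known.ThreeClasses

open Cfsg CfsgLib.Char CfsgLib.CharDegree CfsgLib.Blocks Subgroup
open scoped ComplexConjugate

universe u

variable {G : Type u} [Group G] {R : Sylow 3 G} {x y : G}

theorem Axes.pow_mem_range (h : Axes R x y) {g : G} (hg : g ∈ (R : Subgroup G)) :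
    ∃ i j : Fin 3, x ^ (i : ℕ) * y ^ (j : ℕ) = g := by
  classical
  have hox : orderOf x = 3 := orderOf_eq_prime h.x_cube h.x_ne
  have hoy : orderOf y = 3 := orderOf_eq_prime h.y_cube h.y_ne
  haveI : Finite (R : Subgroup G) := Nat.finite_of_card_ne_zero (by rw [h.card]; norm_num)
  let f : Fin 3 × Fin 3 → (R : Subgroup G) := fun p =>
    ⟨x ^ (p.1 : ℕ) * y ^ (p.2 : ℕ), mul_mem (pow_mem h.mem_x _) (pow_mem h.mem_y _)⟩
  have hinj : Function.Injective f := by
    rintro ⟨i, j⟩ ⟨i', j'⟩ he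
    have he' : x ^ (i : ℕ) * y ^ (j : ℕ) = x ^ (i' : ℕ) * y ^ (j' : ℕ) := congrArg Subtype.val he
    have hjj : j = j' := by
      by_contra hne
      have hmem : y ^ ((j : ℤ) - (j' : ℤ)) ∈ zpowers x := by
        refine ⟨-(i : ℤ) + i', ?_⟩
        show x ^ (-(i : ℤ) + i') = _
        rw [zpow_add, zpow_sub, zpow_neg, zpow_natCast, zpow_natCast, zpow_natCast, zpow_natCast,
          inv_mul_eq_iff_eq_mul, ← mul_assoc, he', mul_inv_cancel_right]
      refine h.indep ?_
      have hc : ((j : ℤ) - j') % 3 = 1 ∨ ((j : ℤ) - j') % 3 = 2 := by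
        have := Fin.val_ne_of_ne hne
        omega
      rw [← zpow_mod_orderOf, hoy] at hmem
      push_cast at hmem
      rcases hc with e | e <;> rw [e] at hmem
      · simpa using hmem
      · have := inv_mem hmem
        rw [zpow_two, show (y * y)⁻¹ = y by
          rw [inv_eq_iff_mul_eq_one, ← pow_two, ← pow_succ]; exact h.y_cube] at this
        exact this
    subst hjj
    have hii : x ^ (i : ℕ) = x ^ (i' : ℕ) := mul_right_cancel he'
    rw [pow_inj_mod, hox, Nat.mod_eq_of_lt i.2, Nat.mod_eq_of_lt i'.2] at hii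
    rw [Fin.ext hii]
  haveI := Fintype.ofFinite (R : Subgroup G)
  have hbij := (Fintype.bijective_iff_injective_and_card f).2 ⟨hinj, by
    rw [← Nat.card_eq_fintype_card, ← Nat.card_eq_fintype_card, h.card]; simp⟩
  obtain ⟨⟨i, j⟩, hij⟩ := hbij.2 ⟨g, hg⟩
  exact ⟨i, j, congrArg Subtype.val hij⟩

theorem Axes.mem_centralizer (h : Axes R x y) {n : G} (hx : n * x = x * n) (hy : n * y = y * n) :
    n ∈ centralizer ((R : Subgroup G) : Set G) := by
  refine mem_centralizer_iff.2 fun g hg => ?_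
  obtain ⟨i, j, rfl⟩ := h.pow_mem_range hg
  exact (((show Commute n x from hx).pow_right _).mul_right ((show Commute n y from hy).pow_right _)).eq.symm

theorem Axes.mul_notMem (h : Axes R x y) : x * y ∉ zpowers x := fun hm => h.indep (by
  have := mul_mem (inv_mem (mem_zpowers x)) hm
  rwa [inv_mul_cancel_left] at this)

theorem Axes.not_isConj [Finite G] (h : Axes R x y) {g : G} (hg : g ∈ (R : Subgroup G))
    (hgx : g ∉ zpowers x) : ¬ IsConj x g := by
  intro hc
  haveI : Fact (Nat.Prime 3) := ⟨Nat.prime_three⟩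
  obtain ⟨t, ht⟩ := isConj_iff.1 hc
  haveI : IsMulCommutative (R : Subgroup G) := ⟨⟨fun a b => Subtype.ext (h.comm a a.2 b b.2)⟩⟩
  obtain ⟨n, hn, he⟩ := R.conj_eq_normalizer_conj_of_mem x t⁻¹ h.mem_x (by rw [inv_inv, ht]; exact hg)
  rw [inv_inv, ht] at he
  have hs := (h.signs n⁻¹ (inv_mem hn)).1
  rw [inv_inv, ← he] at hs
  rcases hs with e | e <;> rw [e] at hgx
  · exact hgx (mem_zpowers x)
  · exact hgx (inv_mem (mem_zpowers x))

variable [Finite G]

set_option maxHeartbeats 1000000 in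
/-- The values at a diagonal element. -/
theorem Axes.exists_diag (h : Axes R x y) {M : Ideal AlgInt} [M.IsPrime] (hM : IsPModular 3 M) :
    ∃ V : IrrCharacter G → ℤ, (∀ χ : IrrCharacter G, (χ : G → ℂ) (x * y) = V χ) ∧
      (∀ χ : IrrCharacter G, (χ : G → ℂ) (x * y)⁻¹ = V χ) ∧
      (∀ χ ∈ principalBlock M G, V χ ≠ 0) ∧
      ∑ᶠ χ ∈ principalBlock M G, V χ * V χ = 9 ∧
      ∑ᶠ χ ∈ principalBlock M G, (charDegree (χ : G → ℂ) : ℤ) * V χ = 0 := by
  classical
  haveI : Fact (Nat.Prime 3) := ⟨Nat.prime_three⟩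
  haveI := Fintype.ofFinite G
  haveI := Fintype.ofFinite (IrrCharacter G)
  set d := x * y with hd
  have hdR : d ∈ (R : Subgroup G) := mul_mem h.mem_x h.mem_y
  have hd1 : d ≠ 1 := fun e => h.mul_notMem (by rw [← hd, e]; exact one_mem _)
  have hd3 : d ^ 3 = 1 := by
    rw [hd, (show Commute x y from h.comm x h.mem_x y h.mem_y).mul_pow, h.x_cube, h.y_cube, one_mul]
  have hod : orderOf d = 3 := orderOf_eq_prime hd3 hd1
  obtain ⟨n1, hn1, a1, b1⟩ := h.flip_x
  obtain ⟨n2, hn2, a2, b2⟩ := h.flip_y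
  have hinvd : ∀ χ : IrrCharacter G, (χ : G → ℂ) d⁻¹ = (χ : G → ℂ) d := by
    intro χ
    refine Eq.trans ?_ (IsIrr.isClassFunction χ.2 d (n1 * n2))
    congr 1
    rw [show n1 * n2 * d * (n1 * n2)⁻¹ = (n1 * (n2 * x * n2⁻¹) * n1⁻¹) * (n1 * (n2 * y * n2⁻¹) * n1⁻¹) by
      rw [hd]; group, a2, b2, a1, ← conj_inv, b1, hd, mul_inv_rev, h.comm _ (inv_mem h.mem_y) _ (inv_mem h.mem_x)]
  have hint : ∀ χ : IrrCharacter G, ∃ v : ℤ, (χ : G → ℂ) d = v := by
    intro χ
    obtain ⟨m, hm⟩ := exists_sum_range (IsIrr.isCharacter χ.2) d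
    rw [hod] at hm
    simp only [Finset.sum_range_succ, Finset.sum_range_zero, zero_add, pow_zero, pow_one] at hm
    rw [show d ^ 2 = d⁻¹ from eq_inv_of_mul_eq_one_left (by rw [← pow_succ]; exact hd3), hinvd,
      apply_one_eq_charDegree] at hm
    obtain ⟨v, hv, -⟩ := exists_int_of_mul_eq (IsChar.isIntegral (IsIrr.isCharacter χ.2) d)
      (n := 2) (c := 3 * (m : ℤ) - charDegree (χ : G → ℂ)) (by norm_num)
      (by push_cast; linear_combination hm)
    exact ⟨v, hv⟩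
  choose V hV using hint
  set C := centralizer ({d} : Set G) with hC
  haveI := Fintype.ofFinite C
  haveI := Fintype.ofFinite (IrrCharacter C)
  have hRC : (R : Subgroup G) ≤ C := fun g hg => mem_centralizer_singleton_iff.2 (h.comm g hg d hdR)
  let P : Sylow 3 C := R.subtype hRC
  have hP : normalizer ((P : Subgroup C) : Set C) ≤ centralizer ((P : Subgroup C) : Set C) := by
    intro n hn
    have hnN : (n : G) ∈ normalizer ((R : Subgroup G) : Set G) := by
      refine mem_normalizer_iff.2 fun z => ⟨fun hz => ?_, fun hz => ?_⟩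
      · exact (mem_normalizer_iff.1 hn ⟨z, hRC hz⟩).1 hz
      · have hz' : z ∈ C := by
          have : z = (n : G)⁻¹ * ((n : G) * z * (n : G)⁻¹) * (n : G) := by group
          rw [this]
          exact mul_mem (mul_mem (inv_mem n.2) (hRC hz)) n.2
        exact (mem_normalizer_iff.1 hn ⟨z, hz'⟩).2 hz
    have hnd : (n : G) * d * (n : G)⁻¹ = d := by
      rw [mem_centralizer_singleton_iff.1 n.2, mul_inv_cancel_right]
    rw [hd, show (n : G) * (x * y) * (n : G)⁻¹ = ((n : G) * x * (n : G)⁻¹) * ((n : G) * y * (n : G)⁻¹) by group] at hnd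
    have hsq : ∀ z : G, z ^ 3 = 1 → z⁻¹ = z → z = 1 := fun z h3 hz => by
      have h2 : z * z = 1 := by nth_rw 1 [← hz]; exact inv_mul_cancel z
      rw [pow_succ, pow_two, h2, one_mul] at h3
      exact h3
    have hboth : (n : G) * x * (n : G)⁻¹ = x ∧ (n : G) * y * (n : G)⁻¹ = y := by
      obtain ⟨hsx, hsy⟩ := h.signs _ hnN
      rcases hsx with e | e <;> rcases hsy with e' | e' <;> rw [e, e'] at hnd
      · exact ⟨e, e'⟩
      · exact absurd (hsq y h.y_cube (mul_left_cancel hnd)) h.y_ne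
      · exact absurd (hsq x h.x_cube (mul_right_cancel hnd)) h.x_ne
      · refine absurd (hsq d hd3 ?_) hd1
        rw [hd, mul_inv_rev, h.comm _ (inv_mem h.mem_y) _ (inv_mem h.mem_x)]
        exact hnd
    have hc := h.mem_centralizer (mul_inv_eq_iff_eq_mul.1 hboth.1) (mul_inv_eq_iff_eq_mul.1 hboth.2)
    exact mem_centralizer_iff.2 fun z hz => Subtype.ext (mem_centralizer_iff.1 hc z hz)
  set τ := MonoidHom.transferSylow P hP
  have hker : ¬ 3 ∣ Nat.card τ.ker := MonoidHom.not_dvd_card_ker_transferSylow P hP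
  have hidx : τ.ker.index = 9 := by
    rw [(MonoidHom.ker_transferSylow_isComplement' P hP).symm.index_eq_card, Sylow.coe_subtype,
      Nat.card_congr (subgroupOfEquivOfLe hRC).toEquiv, h.card]
  have hdp : ∃ k : ℕ, orderOf d = 3 ^ k := ⟨1, by rw [hod, pow_one]⟩
  have h1 := sum_principalBlock_norm_sq hM (x := d) hdp (y := (1 : C)) (by simp)
  rw [OneMemClass.coe_one, mul_one] at h1
  have h2 : (∑ᶠ ψ ∈ principalBlock M C, ‖(ψ : C → ℂ) 1‖ ^ 2 : ℝ) = 9 := by
    rw [principalBlock_eq_of_complement τ.ker hM hker (k := 2) (by rw [hidx]; norm_num),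
      finsum_mem_eq_finite_toFinset_sum _ (Set.toFinite _)]
    have h9 := sum_degree_sq_trivial τ.ker
    rw [hidx] at h9
    rw [Finset.sum_congr rfl (g := fun ψ : IrrCharacter C => (((charDegree (ψ : C → ℂ)) ^ 2 : ℕ) : ℝ)) (fun ψ _ => by
      rw [apply_one_eq_charDegree, Complex.norm_natCast, Nat.cast_pow]), ← Nat.cast_sum]
    have hset : (Set.toFinite {χ : IrrCharacter C | ∀ n ∈ τ.ker, (χ : C → ℂ) n = (χ : C → ℂ) 1}).toFinset =
        Finset.univ.filter (fun χ : IrrCharacter C => ∀ n ∈ τ.ker, (χ : C → ℂ) n = (χ : C → ℂ) 1) := by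
      ext; simp
    rw [hset, h9]; norm_num
  rw [h2, finsum_mem_eq_finite_toFinset_sum _ (Set.toFinite _)] at h1
  refine ⟨V, hV, fun χ => by rw [hinvd, hV], fun χ hχ hz => ?_, ?_, ?_⟩
  · have hsb : SameBlock M (fun _ : G => (1 : ℂ)) (χ : G → ℂ) := hχ
    have h3 := hsb d
    rw [centralChar, centralChar, hV, hz, Int.cast_zero, mul_zero, zero_div, sub_zero, mul_one, div_one] at h3
    exact R.not_dvd_index (((memLocalIdeal_natCast_iff hM).mp h3).trans (Subgroup.index_dvd_of_le hRC))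
  · rw [finsum_mem_eq_finite_toFinset_sum _ (Set.toFinite _)]
    refine Int.cast_injective (α := ℝ) ?_
    rw [Int.cast_sum, Int.cast_ofNat, ← h1]
    exact Finset.sum_congr rfl fun χ _ => by rw [hV, Complex.norm_intCast, sq_abs, Int.cast_mul, pow_two]
  · have h' := sum_block_regular_singular hM (isPBlock_principalBlock (G := G)) (x := (1 : G)) (y := d)
      (by rw [orderOf_one]; norm_num) (by rw [hod])
    rw [finsum_mem_eq_finite_toFinset_sum _ (Set.toFinite _)] at h' ⊢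
    refine Int.cast_injective (α := ℂ) ?_
    push_cast
    rw [← h']
    exact Finset.sum_congr rfl fun χ _ => by rw [apply_one_eq_charDegree, hV]

/-- Congruences from the Sylow subgroup. -/
theorem Axes.congr_nine (h : Axes R x y) (χ : IrrCharacter G) {A B V : ℤ}
    (hA : (χ : G → ℂ) x = A) (hB : (χ : G → ℂ) y = B) (hV : (χ : G → ℂ) (x * y) = V)
    (hV' : (χ : G → ℂ) (x * y)⁻¹ = V) :
    (∃ m : ℕ, (charDegree (χ : G → ℂ) : ℤ) + 2 * A = 3 * m) ∧
      (∃ m : ℕ, (charDegree (χ : G → ℂ) : ℤ) + 2 * B = 3 * m) ∧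
      (∃ m : ℕ, (charDegree (χ : G → ℂ) : ℤ) + 2 * V = 3 * m) ∧
      (∃ m : ℕ, (charDegree (χ : G → ℂ) : ℤ) + 2 * A + 2 * B + 4 * V = 9 * m) := by
  classical
  haveI := Fintype.ofFinite G
  haveI := Fintype.ofFinite (R : Subgroup G)
  obtain ⟨n1, -, a1, b1⟩ := h.flip_x
  obtain ⟨n2, -, a2, b2⟩ := h.flip_y
  have hAi : (χ : G → ℂ) x⁻¹ = A := by rw [← a1, IsIrr.isClassFunction χ.2 x n1, hA]
  have hBi : (χ : G → ℂ) y⁻¹ = B := by rw [← b2, IsIrr.isClassFunction χ.2 y n2, hB]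
  have hx2 : x ^ 2 = x⁻¹ := eq_inv_of_mul_eq_one_left (by rw [← pow_succ]; exact h.x_cube)
  have hy2 : y ^ 2 = y⁻¹ := eq_inv_of_mul_eq_one_left (by rw [← pow_succ]; exact h.y_cube)
  have hcyc : ∀ {z : G}, orderOf z = 3 → z ^ 2 = z⁻¹ → ∀ W : ℤ, (χ : G → ℂ) z = W → (χ : G → ℂ) z⁻¹ = W →
      ∃ m : ℕ, (charDegree (χ : G → ℂ) : ℤ) + 2 * W = 3 * m := by
    intro z hz hz2 W hW hW'
    obtain ⟨m, hm⟩ := exists_sum_range (IsIrr.isCharacter χ.2) z
    refine ⟨m, ?_⟩
    rw [hz] at hm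
    simp only [Finset.sum_range_succ, Finset.sum_range_zero, zero_add, pow_zero, pow_one] at hm
    rw [hz2, hW, hW', apply_one_eq_charDegree] at hm
    have : (charDegree (χ : G → ℂ) : ℤ) + W + W = 3 * (m : ℤ) := by exact_mod_cast hm
    omega
  have hd3 : (x * y) ^ 3 = 1 := by
    rw [(show Commute x y from h.comm x h.mem_x y h.mem_y).mul_pow, h.x_cube, h.y_cube, one_mul]
  refine ⟨hcyc (orderOf_eq_prime h.x_cube h.x_ne) hx2 A hA hAi,
    hcyc (orderOf_eq_prime h.y_cube h.y_ne) hy2 B hB hBi,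
    hcyc (orderOf_eq_prime hd3 fun e => h.mul_notMem (by rw [e]; exact one_mem _))
      (eq_inv_of_mul_eq_one_left (by rw [← pow_succ]; exact hd3)) V hV hV', ?_⟩
  obtain ⟨m, hm⟩ := Perm.CharAverage.exists_sum_eq (R : Subgroup G) (IsIrr.isCharacter χ.2)
  refine ⟨m, ?_⟩
  rw [h.card] at hm
  let f : Fin 3 × Fin 3 → (R : Subgroup G) := fun p =>
    ⟨x ^ (p.1 : ℕ) * y ^ (p.2 : ℕ), mul_mem (pow_mem h.mem_x _) (pow_mem h.mem_y _)⟩
  have hf : Function.Bijective f := (Fintype.bijective_iff_surjective_and_card f).2 ⟨fun g => by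
    obtain ⟨i, j, e⟩ := h.pow_mem_range g.2
    exact ⟨(i, j), Subtype.ext e⟩, by
    rw [← Nat.card_eq_fintype_card, ← Nat.card_eq_fintype_card, h.card]; simp⟩
  have c1 : (χ : G → ℂ) (x⁻¹ * y) = V := by
    rw [← hV, ← IsIrr.isClassFunction χ.2 (x * y) n1,
      show n1 * (x * y) * n1⁻¹ = (n1 * x * n1⁻¹) * (n1 * y * n1⁻¹) by group, a1, b1]
  have c2 : (χ : G → ℂ) (x * y⁻¹) = V := by
    rw [← hV, ← IsIrr.isClassFunction χ.2 (x * y) n2,
      show n2 * (x * y) * n2⁻¹ = (n2 * x * n2⁻¹) * (n2 * y * n2⁻¹) by group, a2, b2]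
  have c3 : (χ : G → ℂ) (x⁻¹ * y⁻¹) = V := by
    rw [← h.comm _ (inv_mem h.mem_y) _ (inv_mem h.mem_x), ← mul_inv_rev, hV']
  rw [← Fintype.sum_bijective f hf (fun p => (χ : G → ℂ) (f p : G)) _ (fun p => rfl), Fintype.sum_prod_type,
    Fin.sum_univ_three, Fin.sum_univ_three, Fin.sum_univ_three, Fin.sum_univ_three] at hm
  simp only [f, Fin.val_zero, Fin.val_one, Fin.val_two, pow_zero, pow_one, one_mul, mul_one, hx2, hy2,
    hA, hB, hAi, hBi, hV, c1, c2, c3, apply_one_eq_charDegree] at hm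
  have : (charDegree (χ : G → ℂ) : ℤ) + B + B + (A + V + V) + (A + V + V) = 9 * (m : ℤ) := by
    exact_mod_cast hm
  omega

end CfsgLib.Known.ThreeClasses
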