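import Mathlib

/-!
# Nine integer vectors

Five integer columns with the Gram matrix of a product of two triples and a positive column
orthogonal to all of them: there are nine rows, one for each pair of types.
-/

set_option autoImplicit false
set_option linter.all false

namespace CfsgLib.Known.ThreeClasses

/-- First coordinate of a type. -/
def typeC : Fin 3 → ℤ := ![1, 0, -1]

/-- Second coordinate of a type. -/
def typeE : Fin 3 → ℤ := ![0, 1, -1]

set_option maxHeartbeats 2000000 in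
theorem nine_vectors {ι : Type*} [DecidableEq ι] (B : Finset ι) (V c e c' e' D : ι → ℤ)
    (hD : ∀ χ ∈ B, 0 < D χ) (hV : ∀ χ ∈ B, V χ ≠ 0) (hVV : ∑ χ ∈ B, V χ * V χ = 9)
    (hcc : ∑ χ ∈ B, c χ * c χ = 6) (hce : ∑ χ ∈ B, c χ * e χ = 3) (hee : ∑ χ ∈ B, e χ * e χ = 6)
    (hcc' : ∑ χ ∈ B, c' χ * c' χ = 6) (hce' : ∑ χ ∈ B, c' χ * e' χ = 3) (hee' : ∑ χ ∈ B, e' χ * e' χ = 6)
    (hDV : ∑ χ ∈ B, D χ * V χ = 0) (hDc : ∑ χ ∈ B, D χ * c χ = 0) (hDe : ∑ χ ∈ B, D χ * e χ = 0)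
    (hDc' : ∑ χ ∈ B, D χ * c' χ = 0) (hDe' : ∑ χ ∈ B, D χ * e' χ = 0)
    (hVc : ∑ χ ∈ B, c χ * V χ = 0) (hVe : ∑ χ ∈ B, e χ * V χ = 0)
    (hVc' : ∑ χ ∈ B, c' χ * V χ = 0) (hVe' : ∑ χ ∈ B, e' χ * V χ = 0)
    (h11 : ∑ χ ∈ B, c χ * c' χ = 0) (h12 : ∑ χ ∈ B, c χ * e' χ = 0)
    (h21 : ∑ χ ∈ B, e χ * c' χ = 0) (h22 : ∑ χ ∈ B, e χ * e' χ = 0)
    (hmod : ∀ χ ∈ B, (3 : ℤ) ∣ c χ + e χ - V χ) (hmod' : ∀ χ ∈ B, (3 : ℤ) ∣ c' χ + e' χ - V χ) :
    ∃ pos : Fin 3 → Fin 3 → ι,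
      (∀ s t, pos s t ∈ B ∧ (V (pos s t) = 1 ∨ V (pos s t) = -1) ∧
        c (pos s t) = V (pos s t) * typeC s ∧ e (pos s t) = V (pos s t) * typeE s ∧
        c' (pos s t) = V (pos s t) * typeC t ∧ e' (pos s t) = V (pos s t) * typeE t) ∧
      (∀ χ ∈ B, ∃ s t, pos s t = χ) ∧
      (∀ s t s' t', pos s t = pos s' t' → s = s' ∧ t = t') ∧
      (∀ s, V (pos s 0) * D (pos s 0) + V (pos s 1) * D (pos s 1) + V (pos s 2) * D (pos s 2) = 0) ∧
      (∀ t, V (pos 0 t) * D (pos 0 t) + V (pos 1 t) * D (pos 1 t) + V (pos 2 t) * D (pos 2 t) = 0) := by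
  set N : ι → ℤ := fun χ => c χ * c χ - c χ * e χ + e χ * e χ with hN
  set N' : ι → ℤ := fun χ => c' χ * c' χ - c' χ * e' χ + e' χ * e' χ with hN'
  have hbessel : ∀ χ ∈ B, V χ * V χ + 2 * N χ + 2 * N' χ < 9 := by
    intro χ hχ
    set v := V χ with hv
    set α := 2 * c χ - e χ with hα
    set β := 2 * e χ - c χ with hβ
    set α' := 2 * c' χ - e' χ with hα'
    set β' := 2 * e' χ - c' χ with hβ'
    set z : ι → ℤ := fun ψ => v * V ψ + α * c ψ + β * e ψ + α' * c' ψ + β' * e' ψ with hz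
    have hzz : ∑ ψ ∈ B, z ψ * z ψ = 9 * (v * v + 2 * N χ + 2 * N' χ) := by
      rw [Finset.sum_congr rfl (g := fun ψ => v * v * (V ψ * V ψ) + α * α * (c ψ * c ψ) + β * β * (e ψ * e ψ) +
          α' * α' * (c' ψ * c' ψ) + β' * β' * (e' ψ * e' ψ) + 2 * v * α * (c ψ * V ψ) + 2 * v * β * (e ψ * V ψ) +
          2 * v * α' * (c' ψ * V ψ) + 2 * v * β' * (e' ψ * V ψ) + 2 * α * β * (c ψ * e ψ) +
          2 * α * α' * (c ψ * c' ψ) + 2 * α * β' * (c ψ * e' ψ) + 2 * β * α' * (e ψ * c' ψ) +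
          2 * β * β' * (e ψ * e' ψ) + 2 * α' * β' * (c' ψ * e' ψ)) (fun ψ _ => by simp only [hz]; ring)]
      simp only [Finset.sum_add_distrib, ← Finset.mul_sum, hVV, hcc, hce, hee, hcc', hce', hee', hVc, hVe,
        hVc', hVe', h11, h12, h21, h22]
      simp only [hα, hβ, hα', hβ', hN, hN']
      ring
    have hzD : ∑ ψ ∈ B, D ψ * z ψ = 0 := by
      rw [Finset.sum_congr rfl (g := fun ψ => v * (D ψ * V ψ) + α * (D ψ * c ψ) + β * (D ψ * e ψ) +
          α' * (D ψ * c' ψ) + β' * (D ψ * e' ψ)) (fun ψ _ => by simp only [hz]; ring)]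
      simp only [Finset.sum_add_distrib, ← Finset.mul_sum, hDV, hDc, hDe, hDc', hDe', mul_zero, add_zero]
    set S := v * v + 2 * N χ + 2 * N' χ with hS
    have hzχ : z χ = S := by simp only [hz, hS, hα, hβ, hα', hβ', hN, hN', hv]; ring
    rw [← Finset.add_sum_erase _ _ hχ, hzχ] at hzz hzD
    by_contra hlt
    push Not at hlt
    have hnn : 0 ≤ ∑ ψ ∈ B.erase χ, z ψ * z ψ := Finset.sum_nonneg fun ψ _ => mul_self_nonneg _
    have hzero : ∑ ψ ∈ B.erase χ, z ψ * z ψ = 0 := by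
      have := mul_le_mul_of_nonneg_right hlt (show (0 : ℤ) ≤ S by linarith)
      linarith
    rw [Finset.sum_eq_zero_iff_of_nonneg (fun ψ _ => mul_self_nonneg _)] at hzero
    rw [Finset.sum_eq_zero (fun ψ hψ => by rw [mul_self_eq_zero.1 (hzero ψ hψ), mul_zero]), add_zero,
      mul_eq_zero] at hzD
    rcases hzD with h | h
    · have := hD χ hχ; omega
    · omega
  have hnorm : ∀ χ ∈ B, N χ = 1 ∧ N' χ = 1 := by
    intro χ hχ
    have hb := hbessel χ hχ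
    have hv1 : 1 ≤ V χ * V χ := by
      have := mul_self_pos.2 (hV χ hχ)
      omega
    have key : ∀ c e : ℤ, (3 : ℤ) ∣ c + e - V χ → 0 ≤ c * c - c * e + e * e ∧
        (V χ * V χ < 9 → (c * c - c * e + e * e) % 3 = 1) := by
      intro c e hd
      refine ⟨by nlinarith [sq_nonneg (c - e), sq_nonneg c, sq_nonneg e], fun h9 => ?_⟩
      obtain ⟨k, hk⟩ := hd
      have he : c * c - c * e + e * e = V χ * V χ + 3 * (2 * V χ * k + 3 * k * k - c * e) := by
        rw [show c = 3 * k + V χ - e by omega]; ring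
      have hvb : -3 < V χ ∧ V χ < 3 := ⟨by nlinarith, by nlinarith⟩
      have := hV χ hχ
      rw [he]
      generalize 2 * V χ * k + 3 * k * k - c * e = r
      obtain ⟨h1, h2⟩ := hvb
      interval_cases hw : V χ <;> omega
    obtain ⟨hn1, hn2⟩ := key _ _ (hmod χ hχ)
    obtain ⟨hn1', hn2'⟩ := key _ _ (hmod' χ hχ)
    simp only [hN, hN'] at hb ⊢
    have := hn2 (by omega)
    have := hn2' (by omega)
    omega
  have hcard : (B.card : ℤ) = 9 := by
    have h : ∑ χ ∈ B, N χ = (B.card : ℤ) := by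
      rw [Finset.sum_congr rfl (fun χ hχ => (hnorm χ hχ).1), Finset.sum_const, nsmul_one]
    simp only [hN, Finset.sum_add_distrib, Finset.sum_sub_distrib, hcc, hce, hee] at h
    omega
  have hV1 : ∀ χ ∈ B, V χ = 1 ∨ V χ = -1 := by
    intro χ hχ
    have h1 : ∀ ψ ∈ B, 1 ≤ V ψ * V ψ := fun ψ hψ => by
      have := mul_self_pos.2 (hV ψ hψ); omega
    have h2 : ∑ ψ ∈ B, (V ψ * V ψ - 1) = 0 := by
      rw [Finset.sum_sub_distrib, hVV, Finset.sum_const, nsmul_one]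
      omega
    rw [Finset.sum_eq_zero_iff_of_nonneg (fun ψ hψ => sub_nonneg.2 (h1 ψ hψ))] at h2
    exact mul_self_eq_one_iff.1 (sub_eq_zero.1 (h2 χ hχ))
  have htype : ∀ χ ∈ B, ∃ p : Fin 3 × Fin 3, c χ = V χ * typeC p.1 ∧ e χ = V χ * typeE p.1 ∧
      c' χ = V χ * typeC p.2 ∧ e' χ = V χ * typeE p.2 := by
    intro χ hχ
    have key : ∀ c e : ℤ, (3 : ℤ) ∣ c + e - V χ → c * c - c * e + e * e = 1 →
        ∃ s : Fin 3, c = V χ * typeC s ∧ e = V χ * typeE s := by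
      intro c e hd h1
      have hc : -2 < c ∧ c < 2 := ⟨by nlinarith [sq_nonneg (c - 2 * e)], by nlinarith [sq_nonneg (c - 2 * e)]⟩
      have he : -2 < e ∧ e < 2 := ⟨by nlinarith [sq_nonneg (e - 2 * c)], by nlinarith [sq_nonneg (e - 2 * c)]⟩
      obtain ⟨hc1, hc2⟩ := hc
      obtain ⟨he1, he2⟩ := he
      rcases hV1 χ hχ with hv | hv <;> rw [hv] at hd ⊢ <;> interval_cases c <;> interval_cases e <;>
        first
        | exact ⟨0, rfl, rfl⟩
        | exact ⟨1, rfl, rfl⟩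
        | exact ⟨2, rfl, rfl⟩
        | omega
    obtain ⟨s, hs1, hs2⟩ := key _ _ (hmod χ hχ) (hnorm χ hχ).1
    obtain ⟨t, ht1, ht2⟩ := key _ _ (hmod' χ hχ) (hnorm χ hχ).2
    exact ⟨(s, t), hs1, hs2, ht1, ht2⟩
  choose! ty hty using htype
  set n : Fin 3 → Fin 3 → ℤ := fun s t => ((B.filter fun χ => ty χ = (s, t)).card : ℤ) with hn
  have hsum : ∀ (F : ι → ℤ) (f : Fin 3 → Fin 3 → ℤ), (∀ χ ∈ B, F χ = f (ty χ).1 (ty χ).2) →
      ∑ χ ∈ B, F χ = ∑ s : Fin 3, ∑ t : Fin 3, n s t * f s t := by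
    intro F f hF
    rw [← Finset.sum_fiberwise B ty F, Fintype.sum_prod_type]
    refine Finset.sum_congr rfl fun s _ => Finset.sum_congr rfl fun t _ => ?_
    rw [Finset.sum_congr rfl (g := fun _ => f s t) (fun χ hχ => by
      obtain ⟨h1, h2⟩ := Finset.mem_filter.1 hχ
      rw [hF χ h1, h2]), Finset.sum_const, nsmul_eq_mul]
  have hsq : ∀ χ ∈ B, ∀ a b : ℤ, V χ * a * (V χ * b) = a * b := fun χ hχ a b => by
    rcases hV1 χ hχ with h | h <;> rw [h] <;> ring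
  have q0 := hsum (fun _ => 1) (fun _ _ => 1) (fun _ _ => rfl)
  have q1 := hsum (fun χ => c χ * c χ) (fun s _ => typeC s * typeC s) (fun χ hχ => by
    rw [(hty χ hχ).1, hsq χ hχ])
  have q2 := hsum (fun χ => c χ * e χ) (fun s _ => typeC s * typeE s) (fun χ hχ => by
    rw [(hty χ hχ).1, (hty χ hχ).2.1, hsq χ hχ])
  have q3 := hsum (fun χ => e χ * e χ) (fun s _ => typeE s * typeE s) (fun χ hχ => by
    rw [(hty χ hχ).2.1, hsq χ hχ])
  have q4 := hsum (fun χ => c' χ * c' χ) (fun _ t => typeC t * typeC t) (fun χ hχ => by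
    rw [(hty χ hχ).2.2.1, hsq χ hχ])
  have q5 := hsum (fun χ => c' χ * e' χ) (fun _ t => typeC t * typeE t) (fun χ hχ => by
    rw [(hty χ hχ).2.2.1, (hty χ hχ).2.2.2, hsq χ hχ])
  have q6 := hsum (fun χ => e' χ * e' χ) (fun _ t => typeE t * typeE t) (fun χ hχ => by
    rw [(hty χ hχ).2.2.2, hsq χ hχ])
  have q7 := hsum (fun χ => c χ * c' χ) (fun s t => typeC s * typeC t) (fun χ hχ => by
    rw [(hty χ hχ).1, (hty χ hχ).2.2.1, hsq χ hχ])
  have q8 := hsum (fun χ => c χ * e' χ) (fun s t => typeC s * typeE t) (fun χ hχ => by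
    rw [(hty χ hχ).1, (hty χ hχ).2.2.2, hsq χ hχ])
  have q9 := hsum (fun χ => e χ * c' χ) (fun s t => typeE s * typeC t) (fun χ hχ => by
    rw [(hty χ hχ).2.1, (hty χ hχ).2.2.1, hsq χ hχ])
  have q10 := hsum (fun χ => e χ * e' χ) (fun s t => typeE s * typeE t) (fun χ hχ => by
    rw [(hty χ hχ).2.1, (hty χ hχ).2.2.2, hsq χ hχ])
  rw [Finset.sum_const, nsmul_one] at q0
  rw [hcc] at q1
  rw [hce] at q2
  rw [hee] at q3
  rw [hcc'] at q4
  rw [hce'] at q5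
  rw [hee'] at q6
  rw [h11] at q7
  rw [h12] at q8
  rw [h21] at q9
  rw [h22] at q10
  simp [Fin.sum_univ_three, typeC, typeE] at q0 q1 q2 q3 q4 q5 q6 q7 q8 q9 q10
  have hn1 : ∀ s t, n s t = 1 := by
    intro s t
    rcases (show s = 0 ∨ s = 1 ∨ s = 2 by omega) with rfl | rfl | rfl <;>
      rcases (show t = 0 ∨ t = 1 ∨ t = 2 by omega) with rfl | rfl | rfl <;> omega
  have hex : ∀ s t, ∃ χ, B.filter (fun χ => ty χ = (s, t)) = {χ} := fun s t =>
    Finset.card_eq_one.1 (by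
      have := hn1 s t
      simp only [hn] at this
      exact_mod_cast this)
  choose pos hpos using hex
  have hmem : ∀ s t, pos s t ∈ B ∧ ty (pos s t) = (s, t) := fun s t =>
    Finset.mem_filter.1 (show pos s t ∈ B.filter (fun χ => ty χ = (s, t)) by rw [hpos]; exact Finset.mem_singleton_self _)
  refine ⟨pos, fun s t => ?_, fun χ hχ => ⟨(ty χ).1, (ty χ).2, ?_⟩, fun s t s' t' he => ?_, ?_, ?_⟩
  · obtain ⟨h1, h2⟩ := hmem s t
    have h3 := hty _ h1
    rw [h2] at h3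
    exact ⟨h1, hV1 _ h1, h3⟩
  · have : χ ∈ B.filter (fun ψ => ty ψ = ((ty χ).1, (ty χ).2)) := Finset.mem_filter.2 ⟨hχ, rfl⟩
    rw [hpos, Finset.mem_singleton] at this
    exact this.symm
  · have := (hmem s t).2
    rw [he, (hmem s' t').2, Prod.mk.injEq] at this
    exact ⟨this.1.symm, this.2.symm⟩
  · have hlin : ∀ f : Fin 3 → Fin 3 → ℤ, ∑ χ ∈ B, V χ * D χ * f (ty χ).1 (ty χ).2 =
        ∑ s : Fin 3, ∑ t : Fin 3, V (pos s t) * D (pos s t) * f s t := by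
      intro f
      rw [← Finset.sum_fiberwise B ty, Fintype.sum_prod_type]
      refine Finset.sum_congr rfl fun s _ => Finset.sum_congr rfl fun t _ => ?_
      rw [hpos, Finset.sum_singleton, (hmem s t).2]
    have l0 := hlin (fun _ _ => 1)
    have l1 := hlin (fun s _ => typeC s)
    have l2 := hlin (fun s _ => typeE s)
    rw [Finset.sum_congr rfl (g := fun χ => D χ * V χ) (fun χ _ => by ring), hDV] at l0
    rw [Finset.sum_congr rfl (g := fun χ => D χ * c χ) (fun χ hχ => by rw [(hty χ hχ).1]; ring), hDc] at l1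
    rw [Finset.sum_congr rfl (g := fun χ => D χ * e χ) (fun χ hχ => by rw [(hty χ hχ).2.1]; ring), hDe] at l2
    simp [Fin.sum_univ_three, typeC, typeE] at l0 l1 l2
    intro s
    rcases (show s = 0 ∨ s = 1 ∨ s = 2 by omega) with rfl | rfl | rfl <;> linarith
  · have hlin : ∀ f : Fin 3 → Fin 3 → ℤ, ∑ χ ∈ B, V χ * D χ * f (ty χ).1 (ty χ).2 =
        ∑ s : Fin 3, ∑ t : Fin 3, V (pos s t) * D (pos s t) * f s t := by
      intro f
      rw [← Finset.sum_fiberwise B ty, Fintype.sum_prod_type]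
      refine Finset.sum_congr rfl fun s _ => Finset.sum_congr rfl fun t _ => ?_
      rw [hpos, Finset.sum_singleton, (hmem s t).2]
    have l0 := hlin (fun _ _ => 1)
    have l1 := hlin (fun _ t => typeC t)
    have l2 := hlin (fun _ t => typeE t)
    rw [Finset.sum_congr rfl (g := fun χ => D χ * V χ) (fun χ _ => by ring), hDV] at l0
    rw [Finset.sum_congr rfl (g := fun χ => D χ * c' χ) (fun χ hχ => by rw [(hty χ hχ).2.2.1]; ring), hDc'] at l1
    rw [Finset.sum_congr rfl (g := fun χ => D χ * e' χ) (fun χ hχ => by rw [(hty χ hχ).2.2.2]; ring), hDe'] at l2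
    simp [Fin.sum_univ_three, typeC, typeE] at l0 l1 l2
    intro t
    rcases (show t = 0 ∨ t = 1 ∨ t = 2 by omega) with rfl | rfl | rfl <;> linarith

end CfsgLib.Known.ThreeClasses
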