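import Cfsg.Agent.Lib.Known.ThreeClasses.CyclicArith

/-!
# Signed degrees in a three by three table

The arithmetic of a `3 × 3` table of signed degrees with zero row and column sums, all congruent
to one modulo three and supported at `2`, `3`, `q`.
-/

set_option autoImplicit false
set_option linter.all false

namespace CfsgLib.Known.ThreeClasses

variable {q a b : ℕ}

theorem form_of_dvd (hq : q.Prime) {z : ℤ} (hd : z.natAbs ∣ 9 * 2 ^ a * q ^ b) (h3 : z % 3 = 1) :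
    ∃ x y, z.natAbs = 2 ^ x * q ^ y := by
  have h3' : ¬ 3 ∣ z.natAbs := fun h => by
    have h' : (3 : ℤ) ∣ z := Int.natCast_dvd.2 h
    omega
  rw [mul_assoc] at hd
  have h' : z.natAbs ∣ 2 ^ a * q ^ b := (Nat.Coprime.pow_right 2
    ((Nat.prime_three.coprime_iff_not_dvd).2 h3').symm).dvd_of_dvd_mul_left (show z.natAbs ∣ 3 ^ 2 * _ from hd)
  obtain ⟨c, d, hc, hd', he⟩ := Nat.dvd_mul.1 h'
  obtain ⟨x, -, rfl⟩ := (Nat.dvd_prime_pow Nat.prime_two).1 hc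
  obtain ⟨y, -, rfl⟩ := (Nat.dvd_prime_pow hq).1 hd'
  exact ⟨x, y, he.symm⟩

/-- The only prime divisors are `2` and `q`. -/
theorem not_five (hq : q.Prime) (hq7 : q = 7) {z : ℤ} (hd : z.natAbs ∣ 9 * 2 ^ a * q ^ b)
    (h3 : z % 3 = 1) : ¬ (5 : ℤ) ∣ z := by
  intro h
  obtain ⟨x, y, he⟩ := form_of_dvd hq hd h3
  have h5 : 5 ∣ z.natAbs := Int.natCast_dvd.1 h
  rw [he] at h5
  have p5 : Nat.Prime 5 := by norm_num
  rcases p5.dvd_mul.1 h5 with h' | h'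
  · have := (Nat.prime_dvd_prime_iff_eq p5 Nat.prime_two).1 (p5.dvd_of_dvd_pow h')
    omega
  · have := (Nat.prime_dvd_prime_iff_eq p5 hq).1 (p5.dvd_of_dvd_pow h')
    omega

/-- Two consecutive supported numbers congruent to one modulo three, with sum `-1`. -/
theorem pair_cases (hq : q.Prime) (hq2 : q ≠ 2) (hq3 : q ≠ 3) {s t : ℤ}
    (hs : s.natAbs ∣ 9 * 2 ^ a * q ^ b) (ht : t.natAbs ∣ 9 * 2 ^ a * q ^ b)
    (hs3 : s % 3 = 1) (ht3 : t % 3 = 1) (hsum : s + t = -1) :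
    (s = 1 ∧ t = -2) ∨ (s = -2 ∧ t = 1) ∨
      ∃ i : ℕ, 2 ≤ i ∧ ((q = 2 ^ i + 1 ∧ ((s = -(q : ℤ) ∧ t = (q : ℤ) - 1) ∨ (t = -(q : ℤ) ∧ s = (q : ℤ) - 1))) ∨
        (q + 1 = 2 ^ i ∧ ((s = (q : ℤ) ∧ t = -(q : ℤ) - 1) ∨ (t = (q : ℤ) ∧ s = -(q : ℤ) - 1)))) := by
  obtain ⟨x, y, hx⟩ := form_of_dvd hq hs hs3
  obtain ⟨z, w, hz⟩ := form_of_dvd hq ht ht3
  by_cases h1 : s.natAbs = 1 ∨ t.natAbs = 1
  · omega
  push Not at h1
  refine Or.inr (Or.inr ?_)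
  have hqodd : Odd q := hq.odd_of_ne_two hq2
  have hyw : y = 0 ∨ w = 0 := by
    by_contra hc
    push Not at hc
    have hd1 : (q : ℤ) ∣ s := Int.natCast_dvd.2 (hx ▸ dvd_mul_of_dvd_right (dvd_pow_self q hc.1) _)
    have hd2 : (q : ℤ) ∣ t := Int.natCast_dvd.2 (hz ▸ dvd_mul_of_dvd_right (dvd_pow_self q hc.2) _)
    have h' := dvd_add hd1 hd2
    rw [hsum, dvd_neg] at h'
    have := Int.le_of_dvd one_pos h'
    have := hq.two_le
    omega
  have hxz : x = 0 ∨ z = 0 := by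
    by_contra hc
    push Not at hc
    have hd1 : 2 ∣ s.natAbs := hx ▸ dvd_mul_of_dvd_left (dvd_pow_self 2 hc.1) _
    have hd2 : 2 ∣ t.natAbs := hz ▸ dvd_mul_of_dvd_left (dvd_pow_self 2 hc.2) _
    omega
  have key : ∀ {m i : ℕ}, 1 ≤ m → (q ^ m = 2 ^ i + 1 ∨ q ^ m + 1 = 2 ^ i) →
      m = 1 ∧ 2 ≤ i ∧ (q = 2 ^ i + 1 ∨ q + 1 = 2 ^ i) := by
    intro m i hm h
    obtain rfl := exponent_one hq hq2 hq3 hm h
    rw [pow_one] at h
    refine ⟨rfl, ?_, h⟩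
    have h2 := hq.two_le
    by_contra hc
    rcases (show i = 0 ∨ i = 1 by omega) with rfl | rfl <;> omega
  rcases hxz with rfl | rfl
  · rw [pow_zero, one_mul] at hx
    have hy : y ≠ 0 := fun e => by rw [e, pow_zero] at hx; omega
    rw [hyw.resolve_left hy, pow_zero, mul_one] at hz
    obtain ⟨rfl, hi, hcase⟩ := key (m := y) (i := z) (by omega) (by omega)
    rw [pow_one] at hx
    refine ⟨z, hi, ?_⟩
    rcases hcase with h | h
    · exact Or.inl ⟨h, by omega⟩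
    · exact Or.inr ⟨h, by omega⟩
  · rw [pow_zero, one_mul] at hz
    have hw : w ≠ 0 := fun e => by rw [e, pow_zero] at hz; omega
    rw [hyw.resolve_right hw, pow_zero, mul_one] at hx
    obtain ⟨rfl, hi, hcase⟩ := key (m := w) (i := x) (by omega) (by omega)
    rw [pow_one] at hz
    refine ⟨x, hi, ?_⟩
    rcases hcase with h | h
    · exact Or.inl ⟨h, by omega⟩
    · exact Or.inr ⟨h, by omega⟩

/-- A nontrivial such pair is determined by `q`. -/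
theorem pair_eq (hq : q.Prime) (hq2 : q ≠ 2) (hq3 : q ≠ 3) {s t s' t' : ℤ}
    (hs : s.natAbs ∣ 9 * 2 ^ a * q ^ b) (ht : t.natAbs ∣ 9 * 2 ^ a * q ^ b)
    (hs3 : s % 3 = 1) (ht3 : t % 3 = 1) (hsum : s + t = -1)
    (hs' : s'.natAbs ∣ 9 * 2 ^ a * q ^ b) (ht' : t'.natAbs ∣ 9 * 2 ^ a * q ^ b)
    (hs3' : s' % 3 = 1) (ht3' : t' % 3 = 1) (hsum' : s' + t' = -1)
    (h1 : s ≠ 1) (h2 : t ≠ 1) (h1' : s' ≠ 1) (h2' : t' ≠ 1) :
    (s' = s ∧ t' = t) ∨ (s' = t ∧ t' = s) := by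
  obtain ⟨i, hi, hc⟩ := ((pair_cases hq hq2 hq3 hs ht hs3 ht3 hsum).resolve_left fun h => h1 h.1).resolve_left fun h => h2 h.2
  obtain ⟨j, hj, hc'⟩ := ((pair_cases hq hq2 hq3 hs' ht' hs3' ht3' hsum').resolve_left fun h => h1' h.1).resolve_left fun h => h2' h.2
  have h4i : 4 ∣ 2 ^ i := pow_dvd_pow 2 hi
  have h4j : 4 ∣ 2 ^ j := pow_dvd_pow 2 hj
  omega

/-- Two supported numbers with sum `-c`, for `c` congruent to one modulo nine. -/
theorem mid_cases (hq : q.Prime) (hq2 : q ≠ 2) (hq3 : q ≠ 3) {c d : ℤ}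
    (hc : c.natAbs ∣ 9 * 2 ^ a * q ^ b) (hd : d.natAbs ∣ 9 * 2 ^ a * q ^ b)
    (hc9 : c % 9 = 1) (hd3 : d % 3 = 1) (hcd : c + d = -1) (hc1 : c ≠ 1)
    {f g : ℤ} (hf : f.natAbs ∣ 9 * 2 ^ a * q ^ b) (hg : g.natAbs ∣ 9 * 2 ^ a * q ^ b)
    (hf9 : f % 9 = 1) (hg3 : g % 3 = 1) (hfg : f + g = -c) : f = 1 ∨ f = c ∨ f = c * c := by
  have hdivide : c ∣ f → f = c ∨ f = c * c := by
    rintro ⟨f', rfl⟩
    obtain ⟨g', rfl⟩ : c ∣ g := ⟨-1 - f', by linear_combination hfg⟩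
    have hc0 : c ≠ 0 := by omega
    have hsum : f' + g' = -1 := mul_left_cancel₀ hc0 (by linear_combination hfg)
    have e3 : ∀ z : ℤ, (c * z) % 3 = z % 3 := fun z => by
      rw [Int.mul_emod, show c % 3 = 1 by omega, one_mul, Int.emod_emod_of_dvd z dvd_rfl]
    have e9 : (c * f') % 9 = f' % 9 := by
      rw [Int.mul_emod, hc9, one_mul, Int.emod_emod_of_dvd f' dvd_rfl]
    rw [e9] at hf9
    rw [e3] at hg3
    have hdv : ∀ z : ℤ, (c * z).natAbs ∣ 9 * 2 ^ a * q ^ b → z.natAbs ∣ 9 * 2 ^ a * q ^ b := fun z h => by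
      rw [Int.natAbs_mul] at h
      exact (dvd_mul_left _ _).trans h
    by_cases h' : f' = 1
    · left; rw [h', mul_one]
    right
    have hg1 : g' ≠ 1 := fun e => by omega
    rcases pair_eq hq hq2 hq3 hc hd (by omega) hd3 hcd (hdv _ hf) (hdv _ hg) (by omega) hg3 hsum hc1
      (by omega) h' hg1 with ⟨e, -⟩ | ⟨e, -⟩
    · rw [e]
    · omega
  by_cases hcf : c ∣ f
  · exact Or.inr (hdivide hcf)
  left
  have hcg : ¬ c ∣ g := fun h => hcf (by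
    have h' := dvd_sub (dvd_neg.2 dvd_rfl : c ∣ -c) h
    rwa [show -c - g = f by omega] at h')
  obtain ⟨x, y, hx⟩ := form_of_dvd hq hf (by omega)
  obtain ⟨z, w, hz⟩ := form_of_dvd hq hg hg3
  obtain ⟨i, hi, hcases⟩ := ((pair_cases hq hq2 hq3 hc hd (by omega) hd3 hcd).resolve_left fun h => hc1 h.1).resolve_left fun h => by omega
  have hqodd : Odd q := hq.odd_of_ne_two hq2
  rcases (show c.natAbs = q ∨ c.natAbs = 2 ^ i by omega) with hcq | hc2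
  · have hy : y = 0 := by
      by_contra hy
      exact hcf (Int.natAbs_dvd_natAbs.1 (by rw [hcq, hx]; exact dvd_mul_of_dvd_right (dvd_pow_self q hy) _))
    have hw : w = 0 := by
      by_contra hy
      exact hcg (Int.natAbs_dvd_natAbs.1 (by rw [hcq, hz]; exact dvd_mul_of_dvd_right (dvd_pow_self q hy) _))
    rw [hy, pow_zero, mul_one] at hx
    rw [hw, pow_zero, mul_one] at hz
    obtain ⟨u, hu⟩ := hqodd
    rcases Nat.eq_zero_or_pos x with hx0 | hx0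
    · rw [hx0, pow_zero] at hx; omega
    rcases Nat.eq_zero_or_pos z with hz0 | hz0
    · rw [hz0, pow_zero] at hz
      exfalso
      omega
    exfalso
    have h2x : 2 ∣ 2 ^ x := dvd_pow_self 2 hx0.ne'
    have h2z : 2 ∣ 2 ^ z := dvd_pow_self 2 hz0.ne'
    omega
  · -- `q = 7` and `c = -8`
    have hm := two_pow_mod_nine i
    have h6 : i % 6 < 6 := Nat.mod_lt _ (by norm_num)
    have h4i : 4 ∣ 2 ^ i := pow_dvd_pow 2 hi
    have hP : (c = ((2 ^ i : ℕ) : ℤ) ∧ q = 2 ^ i + 1) ∨ (c = -((2 ^ i : ℕ) : ℤ) ∧ q + 1 = 2 ^ i) := by omega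
    rcases hP with ⟨hcv, hqi⟩ | ⟨hcv, hqi⟩
    · exfalso
      have h0 : i % 6 = 0 := by
        generalize hj : i % 6 = j at hm h6
        interval_cases j <;> norm_num at hm <;> omega
      obtain ⟨l, rfl⟩ : 6 ∣ i := Nat.dvd_of_mod_eq_zero h0
      have hdv : 2 ^ (2 * l) + 1 ∣ (2 ^ (2 * l)) ^ 3 + 1 ^ 3 :=
        Odd.nat_add_dvd_pow_add_pow (2 ^ (2 * l)) 1 (⟨1, rfl⟩ : Odd 3)
      rw [one_pow, ← pow_mul, show 2 * l * 3 = 6 * l by ring, ← hqi] at hdv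
      rcases (Nat.dvd_prime hq).1 hdv with e | e
      · have := Nat.one_le_two_pow (n := 2 * l); omega
      · have : 2 ^ (2 * l) = 2 ^ (6 * l) := by omega
        have := Nat.pow_right_injective le_rfl this
        omega
    · have h3 : i % 6 = 3 := by
        generalize hj : i % 6 = j at hm h6
        interval_cases j <;> norm_num at hm <;> omega
      have hd7 : 7 ∣ 2 ^ i - 1 := by
        obtain ⟨l, rfl⟩ : 3 ∣ i := Nat.dvd_of_mod_eq_zero (by omega)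
        rw [pow_mul]
        have := Nat.sub_dvd_pow_sub_pow (2 ^ 3) 1 l
        simpa using this
      rw [show 2 ^ i - 1 = q by omega] at hd7
      have hq7 : q = 7 := ((Nat.prime_dvd_prime_iff_eq (by norm_num) hq).1 hd7).symm
      have hi3 : i = 3 := Nat.pow_right_injective le_rfl (show 2 ^ i = 2 ^ 3 by omega)
      subst hi3
      have hc8 : c = -8 := by omega
      have h8 : ∀ {m : ℕ} {v : ℤ} {n : ℕ}, v.natAbs = 2 ^ m * q ^ n → 3 ≤ m → c ∣ v := fun hv hm' =>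
        Int.natAbs_dvd_natAbs.1 (by
          rw [hc2, hv]; exact dvd_mul_of_dvd_left (pow_dvd_pow 2 hm') _)
      have hx3 : x < 3 := by
        by_contra h
        exact hcf (h8 hx (by omega))
      have hz3 : z < 3 := by
        by_contra h
        exact hcg (h8 hz (by omega))
      rcases Nat.eq_zero_or_pos y with hy | hy
      · rw [hy, pow_zero, mul_one] at hx
        interval_cases x <;> norm_num at hx <;> omega
      rcases Nat.eq_zero_or_pos w with hw | hw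
      · rw [hw, pow_zero, mul_one] at hz
        exfalso
        refine not_five hq hq7 hf (by omega) ?_
        interval_cases z <;> norm_num at hz <;> omega
      exfalso
      have hdf : (7 : ℤ) ∣ f := Int.natCast_dvd.2 (hx ▸ dvd_mul_of_dvd_right (hq7 ▸ dvd_pow_self q hy.ne') _)
      have hdg : (7 : ℤ) ∣ g := Int.natCast_dvd.2 (hz ▸ dvd_mul_of_dvd_right (hq7 ▸ dvd_pow_self q hw.ne') _)
      omega

/-- The values `1`, `u`, `-1 - u`. -/
def sectVal (u : ℤ) : Fin 3 → ℤ := ![1, u, -1 - u]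

/-- The conclusion of the arithmetic: `q ^ 2` divides the order and some entry is `± q`. -/
theorem nine_table (hq : q.Prime) (hq2 : q ≠ 2) (hq3 : q ≠ 3) (Δ : Fin 3 → Fin 3 → ℤ) (u u' : ℤ)
    (hd : ∀ s t, (Δ s t).natAbs ∣ 9 * 2 ^ a * q ^ b)
    (hone : ∀ s t, (Δ s t).natAbs = 1 → s = 0 ∧ t = 0)
    (h00 : Δ 0 0 = 1) (hrow : ∀ s, Δ s 0 + Δ s 1 + Δ s 2 = 0) (hcol : ∀ t, Δ 0 t + Δ 1 t + Δ 2 t = 0)
    (h3 : ∀ s t, Δ s t % 3 = 1)
    (h9 : ∀ s t, (9 : ℤ) ∣ Δ s t + 2 * sectVal u s + 2 * sectVal u' t + 4)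
    (hu : u % 3 = 1 ∧ u.natAbs ∣ 9 * 2 ^ a * q ^ b ∧ (-1 - u).natAbs ∣ 9 * 2 ^ a * q ^ b)
    (hu' : u' % 3 = 1 ∧ u'.natAbs ∣ 9 * 2 ^ a * q ^ b ∧ (-1 - u').natAbs ∣ 9 * 2 ^ a * q ^ b)
    (hlt : ∀ s t, ¬ (s = 0 ∧ t = 0) → sectVal u s ≠ Δ s t ∧ sectVal u' t ≠ Δ s t)
    (hpos : ∀ s t, 0 ≤ Δ s t * (Δ s t + 2 * sectVal u s) ∧ 0 ≤ Δ s t * (Δ s t + 2 * sectVal u' t)) :
    q ^ 2 ∣ 9 * 2 ^ a * q ^ b ∧ ∃ s t, (Δ s t).natAbs = q := by
  have hne1 : ∀ s t, ¬ (s = 0 ∧ t = 0) → Δ s t ≠ 1 := fun s t h e => h (hone s t (by omega))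
  -- the sides
  have side : ∀ (p r v : ℤ), p.natAbs ∣ 9 * 2 ^ a * q ^ b → r.natAbs ∣ 9 * 2 ^ a * q ^ b →
      p % 3 = 1 → r % 3 = 1 → p + r = -1 → p ≠ 1 → r ≠ 1 → v % 3 = 1 →
      v.natAbs ∣ 9 * 2 ^ a * q ^ b → (-1 - v).natAbs ∣ 9 * 2 ^ a * q ^ b →
      v ≠ p → 0 ≤ p * (p + 2 * v) → 0 ≤ r * (r + 2 * (-1 - v)) → v = 1 ∨ v = -2 := by
    intro p r v hp hr hp3 hr3 hsum hp1 hr1 hv3 hv hw hvp hpp hrr
    by_contra hcon
    rcases pair_eq hq hq2 hq3 hp hr hp3 hr3 hsum hv hw hv3 (by omega) (by omega) hp1 hr1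
      (by omega) (by omega) with ⟨e, -⟩ | ⟨e, e'⟩
    · exact hvp e
    · rw [e'] at hrr
      rw [e] at hpp
      rcases le_or_gt 0 p with h | h
      · have hp2 : 1 < p := by omega
        nlinarith
      · have hp2 : p ≤ -2 := by omega
        nlinarith
  have hc0 := hcol 0
  have hr0 := hrow 0
  rw [h00] at hc0 hr0
  have hv : u = 1 ∨ u = -2 := side (Δ 1 0) (Δ 2 0) u (hd 1 0) (hd 2 0) (h3 1 0) (h3 2 0) (by omega)
    (hne1 1 0 (by decide)) (hne1 2 0 (by decide)) hu.1 hu.2.1 hu.2.2 (hlt 1 0 (by decide)).1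
    (hpos 1 0).1 (hpos 2 0).1
  have hv' : u' = 1 ∨ u' = -2 := side (Δ 0 1) (Δ 0 2) u' (hd 0 1) (hd 0 2) (h3 0 1) (h3 0 2) (by omega)
    (hne1 0 1 (by decide)) (hne1 0 2 (by decide)) hu'.1 hu'.2.1 hu'.2.2 (hlt 0 1 (by decide)).2
    (hpos 0 1).2 (hpos 0 2).2
  -- the row and the column with value one
  obtain ⟨s1, s2, hs, hA1, hA2, hsr⟩ : ∃ s1 s2 : Fin 3, (s1 ≠ 0 ∧ s2 ≠ 0 ∧ s1 ≠ s2) ∧ sectVal u s1 = 1 ∧
      sectVal u s2 = -2 ∧ ∀ t, Δ 0 t + Δ s1 t + Δ s2 t = 0 := by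
    rcases hv with rfl | rfl
    · exact ⟨1, 2, by decide, rfl, rfl, hcol⟩
    · exact ⟨2, 1, by decide, rfl, rfl, fun t => by rw [← hcol t]; ring⟩
  obtain ⟨t1, t2, ht, hB1, hB2, htr⟩ : ∃ t1 t2 : Fin 3, (t1 ≠ 0 ∧ t2 ≠ 0 ∧ t1 ≠ t2) ∧ sectVal u' t1 = 1 ∧
      sectVal u' t2 = -2 ∧ ∀ s, Δ s 0 + Δ s t1 + Δ s t2 = 0 := by
    rcases hv' with rfl | rfl
    · exact ⟨1, 2, by decide, rfl, rfl, hrow⟩
    · exact ⟨2, 1, by decide, rfl, rfl, fun s => by rw [← hrow s]; ring⟩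
  have hA0 : sectVal u 0 = 1 := rfl
  have hB0 : sectVal u' 0 = 1 := rfl
  set c := Δ s1 0 with hc
  set d := Δ s2 0 with hd'
  have hcd : c + d = -1 := by have := hsr 0; omega
  have hc9 : c % 9 = 1 := by have := h9 s1 0; rw [hA1, hB0] at this; omega
  have hc1 : c ≠ 1 := hne1 _ _ (fun h => hs.1 h.1)
  have hd1 : d ≠ 1 := hne1 _ _ (fun h => hs.2.1 h.1)
  have h01 : Δ 0 t1 = c := by
    have h' := h9 0 t1
    rw [hA0, hB1] at h'
    have hsum' : Δ 0 t1 + Δ 0 t2 = -1 := by have := htr 0; omega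
    rcases pair_eq hq hq2 hq3 (hd s1 0) (hd s2 0) (h3 s1 0) (h3 s2 0) hcd (hd 0 t1) (hd 0 t2)
      (h3 0 t1) (h3 0 t2) hsum' hc1 hd1 (hne1 _ _ (fun h => ht.1 h.2)) (hne1 _ _ (fun h => ht.2.1 h.2))
      with ⟨e, -⟩ | ⟨e, -⟩
    · exact e
    · omega
  set f := Δ s1 t1 with hf
  set g := Δ s1 t2 with hg
  have hf9 : f % 9 = 1 := by have := h9 s1 t1; rw [hA1, hB1] at this; omega
  have hfg : f + g = -c := by have := htr s1; omega
  have hf1 : f ≠ 1 := hne1 _ _ (fun h => hs.1 h.1)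
  have h22 : Δ s2 t2 = 1 + 2 * c + f := by
    have e1 := hsr t1
    have e2 := htr s2
    omega
  obtain ⟨i, hi, hcases⟩ := ((pair_cases hq hq2 hq3 (hd s1 0) (hd s2 0) (h3 s1 0) (h3 s2 0) hcd).resolve_left
    fun h => hc1 h.1).resolve_left fun h => hd1 h.2
  rcases mid_cases hq hq2 hq3 (hd s1 0) (hd s2 0) hc9 (h3 s2 0) hcd hc1 (hd s1 t1) (hd s1 t2) hf9
    (h3 s1 t2) hfg with e | e | e
  · exact absurd e hf1
  · exfalso
    replace e : f = c := e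
    obtain ⟨x, y, hx⟩ := form_of_dvd hq (hd s2 t2) (h3 s2 t2)
    rw [h22, e] at hx
    have h4i : 4 ∣ 2 ^ i := pow_dvd_pow 2 hi
    have hq5 : 5 ≤ q := by omega
    rcases (show c.natAbs = q ∨ (c.natAbs = 2 ^ i ∧ c.natAbs ≠ q) by omega) with hcq | ⟨hc2, -⟩
    · -- `c = ± q`
      have hy : y = 0 := by
        by_contra hy
        have h1 : (q : ℤ) ∣ 1 + 2 * c + c := Int.natCast_dvd.2 (hx ▸ dvd_mul_of_dvd_right (dvd_pow_self q hy) _)
        have h2 : (q : ℤ) ∣ c := Int.natCast_dvd.2 (hcq ▸ dvd_rfl)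
        have h' := dvd_sub h1 (dvd_mul_of_dvd_right h2 3)
        rw [show 1 + 2 * c + c - 3 * c = 1 by ring] at h'
        have := Int.le_of_dvd one_pos h'
        omega
      rw [hy, pow_zero, mul_one] at hx
      rcases (show x ≤ 2 ∨ 3 ≤ x by omega) with hx2 | hx3
      · interval_cases x <;> norm_num at hx <;> omega
      · have h8 : 8 ∣ 2 ^ x := pow_dvd_pow 2 hx3
        omega
    · have hcases' : c = ((2 ^ i : ℕ) : ℤ) ∨ c = -((2 ^ i : ℕ) : ℤ) := by omega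
      have hodd : x = 0 := by
        by_contra hx0
        have h2x : 2 ∣ 2 ^ x * q ^ y := dvd_mul_of_dvd_left (dvd_pow_self 2 hx0) _
        omega
      rw [hodd, pow_zero, one_mul] at hx
      rcases (show y = 0 ∨ 1 ≤ y by omega) with hy | hy
      · rw [hy, pow_zero] at hx; omega
      · have hqd : q ∣ (1 + 2 * c + c).natAbs := hx ▸ dvd_pow_self q (by omega)
        have hqd' : (q : ℤ) ∣ 1 + 2 * c + c := Int.natCast_dvd.2 hqd
        have h5 : (q : ℤ) ∣ (1 + 2 * c + c) + 3 * d := by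
          refine dvd_add hqd' (dvd_mul_of_dvd_right (Int.natCast_dvd.2 ?_) 3)
          have : d.natAbs = q := by omega
          rw [this]
        rw [show (1 + 2 * c + c) + 3 * d = 1 + 3 * (c + d) by ring, hcd] at h5
        norm_num at h5
        have := Int.le_of_dvd two_pos h5
        omega
  · replace e : f = c * c := e
    have hsq : ∀ {z : ℤ}, z.natAbs = q → (z * z).natAbs = q ^ 2 := fun h => by
      rw [Int.natAbs_mul, h, pow_two]
    rcases (show c.natAbs = q ∨ d.natAbs = q by omega) with hcq | hdq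
    · refine ⟨?_, s1, 0, hcq⟩
      have := hd s1 t1
      rwa [← hf, e, hsq hcq] at this
    · refine ⟨?_, s2, 0, hdq⟩
      have hdd : 1 + 2 * c + f = d * d := by rw [e, show d = -1 - c by omega]; ring
      have := hd s2 t2
      rwa [h22, hdd, hsq hdq] at this

end CfsgLib.Known.ThreeClasses
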