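import Cfsg.Agent.Lib.Known.ThreeClasses.DiagonalColumn
import Cfsg.Agent.Lib.Known.ThreeClasses.NineVectors
import Cfsg.Agent.Lib.Known.ThreeClasses.SignedArith
import Cfsg.Agent.Lib.Known.ThreeClasses.CyclicTable

/-!
# No simple group with two independently inverted axes

The four group as automizer of an elementary Sylow 3-subgroup of order nine does not occur in a
simple group of order `9 * 2 ^ a * q ^ b`.
-/

set_option autoImplicit false
set_option linter.all false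

namespace CfsgLib.Known.ThreeClasses

open Cfsg CfsgLib.Char CfsgLib.CharDegree CfsgLib.Blocks Subgroup
open scoped ComplexConjugate

universe u

variable {G : Type u} [Group G] [Finite G]

theorem apply_pow_of_int {χ : IrrCharacter G} {g : G} {z : ℤ} (h : (χ : G → ℂ) g = z) {m : ℕ}
    (hm : m.Coprime (Nat.card G)) : (χ : G → ℂ) (g ^ m) = z := by
  obtain ⟨n, ρ, -, hρ, -⟩ := CfsgLib.CharDegree.exists_rep χ
  have h1 : ρ.character g = ((z : ℚ) : ℂ) := by rw [hρ, h]; simp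
  have h2 := CharRational.apply_pow_eq_of_eq_rat ρ g h1 hm
  rw [hρ] at h2
  rw [h2]; simp

theorem sectVal_types (w : ℤ) (s : Fin 3) : typeC s + w * typeE s = sectVal w s := by
  rcases (show s = 0 ∨ s = 1 ∨ s = 2 by omega) with rfl | rfl | rfl <;>
    simp [typeC, typeE, sectVal] <;> ring

theorem type_inj {s s' : Fin 3} (h1 : typeC s = typeC s') (h2 : typeE s = typeE s') : s = s' := by
  rcases (show s = 0 ∨ s = 1 ∨ s = 2 by omega) with rfl | rfl | rfl <;>
    rcases (show s' = 0 ∨ s' = 1 ∨ s' = 2 by omega) with rfl | rfl | rfl <;>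
    simp [typeC, typeE] at h1 h2 ⊢

variable {R : Sylow 3 G} {q a b : ℕ}

set_option maxHeartbeats 2000000 in
theorem Hyp.no_axes [IsSimpleGroup G] (h : Hyp R q a b) {x y : G} (hA : Axes R x y) : False := by
  classical
  haveI : Fact (Nat.Prime 3) := ⟨Nat.prime_three⟩
  haveI := Fintype.ofFinite G
  haveI := Fintype.ofFinite (IrrCharacter G)
  obtain ⟨M, hM⟩ := CfsgLib.ZStar.exists_isPModular Nat.prime_three
  haveI := hM.2.1.isPrime
  obtain ⟨k, u, v, c, e, hx⟩ := hA.exists_col hM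
  obtain ⟨k', u', v', c', e', hy⟩ := hA.symm.exists_col hM
  obtain ⟨V, hV, hV', hVne, hVV, hDV⟩ := hA.exists_diag hM
  set B := (Set.toFinite (principalBlock M G)).toFinset with hB
  have hmemB : ∀ χ, χ ∈ B ↔ χ ∈ principalBlock M G := fun χ => Set.Finite.mem_toFinset _
  set D : IrrCharacter G → ℤ := fun χ => (charDegree (χ : G → ℂ) : ℤ) with hD
  have hD1 : ∀ χ : IrrCharacter G, (χ : G → ℂ) 1 = ((D χ : ℤ) : ℂ) := fun χ => by
    rw [apply_one_eq_charDegree, hD, Int.cast_natCast]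
  have hDpos : ∀ χ : IrrCharacter G, 0 < D χ := fun χ => Int.natCast_pos.2 (CharDegree.charDegree_pos χ)
  have hperf := h.perfect
  have hDone : ∀ χ : IrrCharacter G, D χ = 1 → χ = trivChar G := fun χ hχ =>
    Perm.SelfCentDegree.eq_trivChar_of_degree_one hperf χ (by rw [hD1, hχ, Int.cast_one])
  -- orthogonality of the columns
  have hint : ∀ {W : IrrCharacter G → ℂ} {W' f : IrrCharacter G → ℤ},
      ∑ᶠ χ ∈ principalBlock M G, (f χ : ℂ) * W χ = 0 → (∀ χ ∈ B, W χ = W' χ) →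
      ∑ χ ∈ B, f χ * W' χ = 0 := by
    intro W W' f h1 h2
    rw [finsum_mem_eq_finite_toFinset_sum _ (Set.toFinite _), ← hB] at h1
    refine Int.cast_injective (α := ℂ) ?_
    push_cast
    rw [← h1]
    exact Finset.sum_congr rfl fun χ hχ => by rw [h2 χ hχ]
  have hdR : x * y ∈ (R : Subgroup G) := mul_mem hA.mem_x hA.mem_y
  have hod : orderOf (x * y) = 3 := orderOf_eq_prime
    (by rw [(show Commute x y from hA.comm x hA.mem_x y hA.mem_y).mul_pow, hA.x_cube, hA.y_cube, one_mul])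
    fun e => hA.mul_notMem (by rw [e]; exact one_mem _)
  have hpd : IsPPart 3 (x * y) (x * y) :=
    ⟨1, mul_one _, Commute.one_right _, ⟨1, by rw [hod, pow_one]⟩, by simp⟩
  have hncx : ¬ IsConj x (x * y) := hA.not_isConj hdR hA.mul_notMem
  have hncy : ¬ IsConj y (x * y) := hA.symm.not_isConj hdR (by
    rw [hA.comm x hA.mem_x y hA.mem_y]; exact hA.symm.mul_notMem)
  obtain ⟨hVc, hVe⟩ := hx.orth _ _ hpd hncx
  obtain ⟨hVc', hVe'⟩ := hy.orth _ _ hpd hncy
  have hVc := hint hVc (W' := V) fun χ _ => hV' χ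
  have hVe := hint hVe (W' := V) fun χ _ => hV' χ
  have hVc' := hint hVc' (W' := V) fun χ _ => hV' χ
  have hVe' := hint hVe' (W' := V) fun χ _ => hV' χ
  have hoy : orderOf y = 3 := orderOf_eq_prime hA.y_cube hA.y_ne
  have hncxy : ¬ IsConj x y := hA.not_isConj hA.mem_y hA.indep
  have hrow : ∀ f : IrrCharacter G → ℤ,
      (∀ z w : G, IsPPart 3 z w → ¬ IsConj x w → ∑ᶠ χ ∈ principalBlock M G, (f χ : ℂ) * (χ : G → ℂ) z⁻¹ = 0) →
      ∑ χ ∈ B, f χ * c' χ = 0 ∧ ∑ χ ∈ B, f χ * e' χ = 0 := by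
    intro f hf
    have o1 := hint (hf y y ⟨1, mul_one _, Commute.one_right _, ⟨1, by rw [hoy, pow_one]⟩, by simp⟩ hncxy)
      (W' := fun χ => c' χ + u' * e' χ) fun χ hχ => by
        rw [IsIrr.map_inv χ.2, hy.val χ ((hmemB χ).1 hχ), map_intCast]
    have o2 := hint (hf (y * k') y ⟨k', rfl, hy.commute, ⟨1, by rw [hoy, pow_one]⟩, hy.regular⟩ hncxy)
      (W' := fun χ => c' χ + v' * e' χ) fun χ hχ => by
        rw [IsIrr.map_inv χ.2, hy.val_k χ ((hmemB χ).1 hχ), map_intCast]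
    simp only [mul_add, Finset.sum_add_distrib, mul_left_comm (f _) u', mul_left_comm (f _) v',
      ← Finset.mul_sum] at o1 o2
    have he : (v' - u') * ∑ χ ∈ B, f χ * e' χ = 0 := by linear_combination o2 - o1
    have he' := (mul_eq_zero.1 he).resolve_left (sub_ne_zero.2 hy.ne)
    exact ⟨by rw [he', mul_zero, add_zero] at o1; exact o1, he'⟩
  obtain ⟨h11, h12⟩ := hrow c fun z w hz hw => (hx.orth z w hz hw).1
  obtain ⟨h21, h22⟩ := hrow e fun z w hz hw => (hx.orth z w hz hw).2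
  -- congruences
  have hval : ∀ χ ∈ B, (χ : G → ℂ) x = ((c χ + u * e χ : ℤ) : ℂ) := fun χ hχ => hx.val χ ((hmemB χ).1 hχ)
  have hval' : ∀ χ ∈ B, (χ : G → ℂ) y = ((c' χ + u' * e' χ : ℤ) : ℂ) := fun χ hχ => hy.val χ ((hmemB χ).1 hχ)
  have hcong := fun χ hχ => hA.congr_nine χ (hval χ hχ) (hval' χ hχ) (hV χ) (hV' χ)
  have hmod : ∀ χ ∈ B, (3 : ℤ) ∣ c χ + e χ - V χ := by
    intro χ hχ
    obtain ⟨⟨m1, h1⟩, -, ⟨m3, h3⟩, -⟩ := hcong χ hχ
    obtain ⟨t, ht⟩ : (3 : ℤ) ∣ u - 1 := by have := hx.mod_three; omega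
    refine ⟨(m3 : ℤ) - m1 + (c χ + u * e χ) - V χ - t * e χ, ?_⟩
    linear_combination h3 - h1 - e χ * ht
  have hmod' : ∀ χ ∈ B, (3 : ℤ) ∣ c' χ + e' χ - V χ := by
    intro χ hχ
    obtain ⟨-, ⟨m1, h1⟩, ⟨m3, h3⟩, -⟩ := hcong χ hχ
    obtain ⟨t, ht⟩ : (3 : ℤ) ∣ u' - 1 := by have := hy.mod_three; omega
    refine ⟨(m3 : ℤ) - m1 + (c' χ + u' * e' χ) - V χ - t * e' χ, ?_⟩
    linear_combination h3 - h1 - e' χ * ht
  have hfin : ∀ F : IrrCharacter G → ℤ, ∑ᶠ χ ∈ principalBlock M G, F χ = ∑ χ ∈ B, F χ := fun F =>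
    finsum_mem_eq_finite_toFinset_sum _ (Set.toFinite _)
  obtain ⟨pos, hpos, hsurj, hinj, hrows, hcols⟩ := nine_vectors B V c e c' e' D (fun χ _ => hDpos χ)
    (fun χ hχ => hVne χ ((hmemB χ).1 hχ)) (by rw [← hfin]; exact hVV)
    (by rw [← hfin]; exact hx.sum_cc) (by rw [← hfin]; exact hx.sum_ce) (by rw [← hfin]; exact hx.sum_ee)
    (by rw [← hfin]; exact hy.sum_cc) (by rw [← hfin]; exact hy.sum_ce) (by rw [← hfin]; exact hy.sum_ee)
    (by rw [← hfin]; exact hDV) (by rw [← hfin]; exact hx.deg_c) (by rw [← hfin]; exact hx.deg_e)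
    (by rw [← hfin]; exact hy.deg_c) (by rw [← hfin]; exact hy.deg_e)
    hVc hVe hVc' hVe' h11 h12 h21 h22 hmod hmod'
  -- the trivial character
  obtain ⟨s0, t0, h00⟩ := hsurj (trivChar G) ((hmemB _).2 trivChar_mem_principalBlock)
  obtain ⟨ht0, hVt, hct, het, hct', het'⟩ := hpos s0 t0
  rw [h00] at ht0 hVt hct het hct' het'
  have hV1 : V (trivChar G) = 1 := by
    have h1 := hV (trivChar G)
    rw [trivChar_apply] at h1
    exact_mod_cast h1.symm
  have hs0 : s0 = 0 := by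
    have h1 := hx.val _ trivChar_mem_principalBlock
    have h2 := hx.val_k _ trivChar_mem_principalBlock
    rw [trivChar_apply] at h1 h2
    have h1' : (1 : ℤ) = c (trivChar G) + u * e (trivChar G) := by exact_mod_cast h1
    have h2' : (1 : ℤ) = c (trivChar G) + v * e (trivChar G) := by exact_mod_cast h2
    have he0 : e (trivChar G) = 0 := (mul_eq_zero.1 (show (v - u) * e (trivChar G) = 0 by
      linear_combination h1' - h2')).resolve_left (sub_ne_zero.2 hx.ne)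
    rw [he0] at het h1'
    rw [hV1] at het hct
    refine type_inj ?_ ?_
    · rw [show typeC 0 = 1 from rfl]; linarith
    · rw [show typeE 0 = 0 from rfl]; linarith
  have ht0' : t0 = 0 := by
    have h1 := hy.val _ trivChar_mem_principalBlock
    have h2 := hy.val_k _ trivChar_mem_principalBlock
    rw [trivChar_apply] at h1 h2
    have h1' : (1 : ℤ) = c' (trivChar G) + u' * e' (trivChar G) := by exact_mod_cast h1
    have h2' : (1 : ℤ) = c' (trivChar G) + v' * e' (trivChar G) := by exact_mod_cast h2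
    have he0 : e' (trivChar G) = 0 := (mul_eq_zero.1 (show (v' - u') * e' (trivChar G) = 0 by
      linear_combination h1' - h2')).resolve_left (sub_ne_zero.2 hy.ne)
    rw [he0] at het' h1'
    rw [hV1] at het' hct'
    refine type_inj ?_ ?_
    · rw [show typeC 0 = 1 from rfl]; linarith
    · rw [show typeE 0 = 0 from rfl]; linarith
  subst hs0 ht0'
  -- the table
  set Δ : Fin 3 → Fin 3 → ℤ := fun s t => V (pos s t) * D (pos s t) with hΔ
  have hsx : ∀ s t, c (pos s t) + u * e (pos s t) = V (pos s t) * sectVal u s := fun s t => by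
    obtain ⟨-, -, e1, e2, -, -⟩ := hpos s t
    rw [e1, e2, ← sectVal_types]; ring
  have hsy : ∀ s t, c' (pos s t) + u' * e' (pos s t) = V (pos s t) * sectVal u' t := fun s t => by
    obtain ⟨-, -, -, -, e1, e2⟩ := hpos s t
    rw [e1, e2, ← sectVal_types]; ring
  have habsV : ∀ s t, (Δ s t).natAbs = charDegree (pos s t : G → ℂ) := fun s t => by
    obtain ⟨-, hv1, -⟩ := hpos s t
    rw [hΔ]
    simp only
    rw [Int.natAbs_mul, hD, Int.natAbs_natCast]
    rcases hv1 with e1 | e1 <;> rw [e1] <;> simp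
  have hdvd : ∀ s t, (Δ s t).natAbs ∣ 9 * 2 ^ a * q ^ b := fun s t => by
    rw [habsV, ← h.card]; exact Blocks.charDegree_dvd_card _
  have hone : ∀ s t, (Δ s t).natAbs = 1 → s = 0 ∧ t = 0 := fun s t h1 => by
    rw [habsV] at h1
    have := hDone (pos s t) (by rw [hD]; simp [h1])
    exact hinj s t 0 0 (this.trans h00.symm)
  have hne : ∀ s t, ¬ (s = 0 ∧ t = 0) → charDegree (pos s t : G → ℂ) ≠ 1 := fun s t hst e1 =>
    hst (hone s t (by rw [habsV, e1]))
  have hΔ00 : Δ 0 0 = 1 := by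
    rw [hΔ]
    simp only
    rw [h00, hV1, hD]
    simp [charDegree, trivChar_apply]
  have htab := fun s t => hcong (pos s t) (hpos s t).1
  simp only [hsx, hsy] at htab
  have h3 : ∀ s t, Δ s t % 3 = 1 := by
    intro s t
    obtain ⟨⟨m, hm⟩, -, -, -⟩ := htab s t
    have hu1 : sectVal u s % 3 = 1 := by
      have := hx.mod_three
      rcases (show s = 0 ∨ s = 1 ∨ s = 2 by omega) with rfl | rfl | rfl <;> simp [sectVal] <;> omega
    rw [hΔ]
    simp only [hD]
    rcases (hpos s t).2.1 with e1 | e1 <;> rw [e1] at hm ⊢ <;> omega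
  have h9 : ∀ s t, (9 : ℤ) ∣ Δ s t + 2 * sectVal u s + 2 * sectVal u' t + 4 := by
    intro s t
    obtain ⟨-, -, -, ⟨m, hm⟩⟩ := htab s t
    refine ⟨V (pos s t) * m, ?_⟩
    have hv2 : V (pos s t) * V (pos s t) = 1 := by
      rcases (hpos s t).2.1 with e1 | e1 <;> rw [e1] <;> norm_num
    simp only [hΔ, hD]
    linear_combination V (pos s t) * hm - (2 * sectVal u s + 2 * sectVal u' t + 4) * hv2
  have hkey : ∀ s t, ∀ {w : ℤ} {z : G}, z ≠ 1 → ¬ (s = 0 ∧ t = 0) →
      (pos s t : G → ℂ) z = ((V (pos s t) * w : ℤ) : ℂ) → w ≠ Δ s t := by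
    intro s t w z hz hst hval hw
    refine hz (Perm.ThreePrimeOrder.eq_one_of_apply_eq (χ := pos s t) (hne s t hst) ?_)
    rw [hval, hw, hD1]
    congr 1
    simp only [hΔ]
    rcases (hpos s t).2.1 with e1 | e1 <;> rw [e1] <;> ring
  have hlt : ∀ s t, ¬ (s = 0 ∧ t = 0) → sectVal u s ≠ Δ s t ∧ sectVal u' t ≠ Δ s t := fun s t hst =>
    ⟨hkey s t hA.x_ne hst (by rw [hval _ (hpos s t).1, hsx]),
      hkey s t hA.y_ne hst (by rw [hval' _ (hpos s t).1, hsy])⟩
  have hpos' : ∀ s t, 0 ≤ Δ s t * (Δ s t + 2 * sectVal u s) ∧ 0 ≤ Δ s t * (Δ s t + 2 * sectVal u' t) := by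
    intro s t
    obtain ⟨⟨m, hm⟩, ⟨m', hm'⟩, -, -⟩ := htab s t
    have hd0 := hDpos (pos s t)
    simp only [hΔ, hD] at hd0 ⊢
    rcases (hpos s t).2.1 with e1 | e1 <;> rw [e1] at hm hm' ⊢ <;>
      constructor <;> nlinarith
  obtain ⟨hsq, s, t, hst⟩ := nine_table h.prime h.ne_two h.ne_three Δ u u' hdvd hone hΔ00
    (fun s => hrows s) (fun t => hcols t) h3 h9
    ⟨hx.mod_three, h.card ▸ hx.dvd_left, h.card ▸ hx.dvd_right⟩
    ⟨hy.mod_three, h.card ▸ hy.dvd_left, h.card ▸ hy.dvd_right⟩ hlt hpos'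
  -- rationality
  have hrat : IsRat (pos s t) := by
    intro m hm g
    set χ := pos s t with hχ
    set ψ := powTwist hm χ with hψ
    obtain ⟨hχB, hVχ, t1, t2, t3, t4⟩ := hpos s t
    rw [← hχ] at hχB hVχ t1 t2 t3 t4
    have hψB : ψ ∈ B := (hmemB _).2 (powTwist_mem_principalBlock hM hm ((hmemB _).1 hχB))
    obtain ⟨s', t', hp⟩ := hsurj ψ hψB
    obtain ⟨-, -, r1, r2, r3, r4⟩ := hpos s' t'
    rw [hp] at r1 r2 r3 r4
    have hvals : ∀ {z : G} {W W' : ℤ}, (χ : G → ℂ) z = W → (ψ : G → ℂ) z = W' → W' = W := by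
      intro z W W' h1 h2
      rw [hψ, powTwist_apply, apply_pow_of_int h1 hm] at h2
      exact_mod_cast h2.symm
    have hVψ : V ψ = V χ := hvals (hV χ) (hV ψ)
    have a1 : c ψ + u * e ψ = c χ + u * e χ := hvals (hval χ hχB) (hval ψ hψB)
    have a2 : c ψ + v * e ψ = c χ + v * e χ :=
      hvals (hx.val_k χ ((hmemB _).1 hχB)) (hx.val_k ψ ((hmemB _).1 hψB))
    have b1 : c' ψ + u' * e' ψ = c' χ + u' * e' χ := hvals (hval' χ hχB) (hval' ψ hψB)
    have b2 : c' ψ + v' * e' ψ = c' χ + v' * e' χ :=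
      hvals (hy.val_k χ ((hmemB _).1 hχB)) (hy.val_k ψ ((hmemB _).1 hψB))
    have a3 : e ψ = e χ := sub_eq_zero.1 ((mul_eq_zero.1 (show (v - u) * (e ψ - e χ) = 0 by
      linear_combination a2 - a1)).resolve_left (sub_ne_zero.2 hx.ne))
    have b3 : e' ψ = e' χ := sub_eq_zero.1 ((mul_eq_zero.1 (show (v' - u') * (e' ψ - e' χ) = 0 by
      linear_combination b2 - b1)).resolve_left (sub_ne_zero.2 hy.ne))
    have a4 : c ψ = c χ := by rw [a3] at a1; linarith
    have b4 : c' ψ = c' χ := by rw [b3] at b1; linarith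
    have hV0 : V χ ≠ 0 := by omega
    rw [a4, t1, hVψ] at r1
    rw [a3, t2, hVψ] at r2
    rw [b4, t3, hVψ] at r3
    rw [b3, t4, hVψ] at r4
    have hs : s' = s := type_inj (mul_left_cancel₀ hV0 r1).symm (mul_left_cancel₀ hV0 r2).symm
    have ht : t' = t := type_inj (mul_left_cancel₀ hV0 r3).symm (mul_left_cancel₀ hV0 r4).symm
    rw [hs, ht, ← hχ] at hp
    rw [← powTwist_apply hm χ g, ← hψ, ← hp]
  exact hrat.not_sq_dvd h.prime h.ne_two (by rw [← habsV, hst]) (h.card ▸ hsq)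

end CfsgLib.Known.ThreeClasses
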