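import Cfsg.Agent.Lib.Known.ThreeClasses.CyclicMain
import Cfsg.Agent.Lib.Known.ThreeClasses.FourCase
import Cfsg.Agent.Lib.InertialTwo.Main
import Cfsg.Agent.Lib.Transfer.PResidual

/-!
# Simple groups of order `9 * 2 ^ a * q ^ b` with three classes of 3-elements: the non-cyclic case
-/

set_option autoImplicit false
set_option linter.all false

namespace CfsgLib.Known.ThreeClasses

open Cfsg Subgroup
open scoped IsMulCommutative

universe u

variable {G : Type u} [Group G] [Finite G] {R : Sylow 3 G} {q a b : ℕ}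

/-- Nothing in the Sylow subgroup is fixed by its normaliser. -/
theorem Hyp.no_fixed [IsSimpleGroup G] (h : Hyp R q a b)
    (hcomm : ∀ g ∈ (R : Subgroup G), ∀ k ∈ (R : Subgroup G), g * k = k * g) {z : G}
    (hz : z ∈ (R : Subgroup G))
    (hfix : ∀ n ∈ normalizer ((R : Subgroup G) : Set G), n * z * n⁻¹ = z) : z = 1 := by
  haveI : Fact (Nat.Prime 3) := ⟨Nat.prime_three⟩
  haveI hmc : IsMulCommutative (R : Subgroup G) :=
    ⟨⟨fun s t => Subtype.ext (hcomm s s.2 t t.2)⟩⟩
  set φ := MonoidHom.transfer (MonoidHom.id (R : Subgroup G))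
  rcases (MonoidHom.normal_ker φ).eq_bot_or_eq_top with e | e
  · exfalso
    refine h.nonab ⟨⟨fun s t => (MonoidHom.ker_eq_bot_iff φ).1 e ?_⟩⟩
    rw [map_mul, map_mul, mul_comm]
  · have key : ∀ (k : ℕ) (g₀ : G), g₀⁻¹ * z ^ k * g₀ ∈ (R : Subgroup G) →
        g₀⁻¹ * z ^ k * g₀ = z ^ k := by
      intro k g₀ hk
      obtain ⟨n, hn, he⟩ := R.conj_eq_normalizer_conj_of_mem (z ^ k) g₀ (pow_mem hz k) hk
      rw [he]
      have := congrArg (· ^ k) (hfix n⁻¹ (inv_mem hn))
      rwa [conj_pow, inv_inv] at this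
    have h1 : φ z = 1 := by
      rw [← MonoidHom.mem_ker, e]
      exact mem_top z
    rw [MonoidHom.transfer_eq_pow _ z key, MonoidHom.id_apply] at h1
    have h2 : z ^ (R : Subgroup G).index = 1 := congrArg Subtype.val h1
    have h9 : z ^ 9 = 1 := by
      have := pow_card_eq_one' (x := (⟨z, hz⟩ : (R : Subgroup G)))
      rw [h.card_R] at this
      exact congrArg Subtype.val this
    have hco : Nat.Coprime 9 (R : Subgroup G).index := by
      rw [show (9 : ℕ) = 3 ^ 2 by norm_num]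
      exact Nat.Coprime.pow_left _ ((Nat.prime_three.coprime_iff_not_dvd).2 R.not_dvd_index)
    exact orderOf_eq_one_iff.1 (Nat.eq_one_of_dvd_coprimes hco
      (orderOf_dvd_of_pow_eq_one h9) (orderOf_dvd_of_pow_eq_one h2))

/-- The size of a fusion class inside the Sylow subgroup is prime to three. -/
theorem fusion_card_not_dvd
    (hcomm : ∀ g ∈ (R : Subgroup G), ∀ k ∈ (R : Subgroup G), g * k = k * g) {r : G}
    (hr : r ∈ (R : Subgroup G)) :
    ¬ 3 ∣ Nat.card {s : G // s ∈ (R : Subgroup G) ∧ IsConj r s} := by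
  haveI : Fact (Nat.Prime 3) := ⟨Nat.prime_three⟩
  haveI : IsMulCommutative (R : Subgroup G) := ⟨⟨fun s t => Subtype.ext (hcomm s s.2 t t.2)⟩⟩
  set N := normalizer ((R : Subgroup G) : Set G) with hN
  set K := (centralizer ({r} : Set G)).subgroupOf N with hK
  let f : N ⧸ K → {s : G // s ∈ (R : Subgroup G) ∧ IsConj r s} := fun c =>
    Quotient.liftOn' c (fun n => ⟨(n : G) * r * (n : G)⁻¹, (mem_normalizer_iff.1 n.2 r).1 hr,
      isConj_iff.2 ⟨n, rfl⟩⟩) (by
      intro n m hnm
      rw [QuotientGroup.leftRel_apply, hK, mem_subgroupOf, mem_centralizer_singleton_iff] at hnm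
      apply Subtype.ext
      simp only [Subgroup.coe_mul, InvMemClass.coe_inv] at hnm ⊢
      calc (n : G) * r * (n : G)⁻¹
          = (n : G) * (r * ((n : G)⁻¹ * m)) * (m : G)⁻¹ := by group
        _ = (n : G) * ((n : G)⁻¹ * m * r) * (m : G)⁻¹ := by rw [hnm]
        _ = (m : G) * r * (m : G)⁻¹ := by group)
  have hf : Function.Bijective f := by
    constructor
    · intro c d
      induction c using Quotient.inductionOn' with
      | _ n =>
        induction d using Quotient.inductionOn' with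
        | _ m =>
          intro he
          have he' : (n : G) * r * (n : G)⁻¹ = (m : G) * r * (m : G)⁻¹ := congrArg Subtype.val he
          rw [Quotient.eq'', QuotientGroup.leftRel_apply, hK, mem_subgroupOf,
            mem_centralizer_singleton_iff]
          simp only [Subgroup.coe_mul, InvMemClass.coe_inv]
          calc (n : G)⁻¹ * m * r = (n : G)⁻¹ * ((m : G) * r * (m : G)⁻¹) * m := by group
            _ = r * ((n : G)⁻¹ * m) := by rw [← he']; group
    · rintro ⟨s, hsR, hs⟩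
      obtain ⟨t, ht⟩ := isConj_iff.1 hs
      obtain ⟨n, hn, he⟩ := R.conj_eq_normalizer_conj_of_mem r t⁻¹ hr (by rw [inv_inv, ht]; exact hsR)
      rw [inv_inv, ht] at he
      refine ⟨Quotient.mk'' ⟨n⁻¹, inv_mem hn⟩, Subtype.ext ?_⟩
      show n⁻¹ * r * n⁻¹⁻¹ = s
      rw [inv_inv, he]
  rw [← Nat.card_congr (Equiv.ofBijective f hf), ← index_eq_card]
  have hle : (R : Subgroup G).subgroupOf N ≤ K := by
    intro n hn
    rw [hK, mem_subgroupOf, mem_centralizer_singleton_iff]
    exact hcomm n (mem_subgroupOf.1 hn) r hr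
  intro hd
  refine R.not_dvd_index ((hd.trans (index_dvd_of_le hle)).trans ?_)
  rw [← relIndex_mul_index (le_normalizer : (R : Subgroup G) ≤ N)]
  exact dvd_mul_right _ _

theorem Hyp.exists_signs [IsSimpleGroup G] (h : Hyp R q a b)
    (hcomm : ∀ g ∈ (R : Subgroup G), ∀ k ∈ (R : Subgroup G), g * k = k * g)
    (h3 : 3 ≤ Nat.card {C : ConjClasses G // ∃ g ∈ C.carrier, g ≠ 1 ∧ orderOf g ∣ 9}) :
    ∃ x y : G, x ∈ (R : Subgroup G) ∧ y ∈ (R : Subgroup G) ∧ x ≠ 1 ∧ y ≠ 1 ∧ y ≠ x ∧ y ≠ x⁻¹ ∧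
      ∀ n ∈ normalizer ((R : Subgroup G) : Set G),
        (n * x * n⁻¹ = x ∨ n * x * n⁻¹ = x⁻¹) ∧ (n * y * n⁻¹ = y ∨ n * y * n⁻¹ = y⁻¹) := by
  classical
  haveI : Fact (Nat.Prime 3) := ⟨Nat.prime_three⟩
  haveI := Fintype.ofFinite G
  set S := (Finset.univ.filter (fun s : G => s ∈ (R : Subgroup G))).erase 1 with hS
  have hSc : S.card = 8 := by
    rw [hS, Finset.card_erase_of_mem (by simp [one_mem])]
    have : (Finset.univ.filter (fun s : G => s ∈ (R : Subgroup G))).card = 9 := by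
      rw [← Fintype.card_subtype, ← Nat.card_eq_fintype_card]
      exact h.card_R
    omega
  set T := S.image ConjClasses.mk with hT
  have hTc : 3 ≤ T.card := by
    refine h3.trans ?_
    rw [← Nat.card_eq_finsetCard T]
    refine Nat.card_le_card_of_injective
      (fun C => (⟨C.1, ?_⟩ : {x // x ∈ T})) fun C D e => Subtype.ext (congrArg (fun z : {x // x ∈ T} => z.1) e)
    obtain ⟨g, hgC, hg1, hg9⟩ := C.2
    have hpg : IsPGroup 3 (zpowers g) := by
      obtain ⟨k, -, hk⟩ := (Nat.dvd_prime_pow Nat.prime_three).1 (show orderOf g ∣ 3 ^ 2 by norm_num; exact hg9)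
      exact IsPGroup.of_card (n := k) (by rw [Nat.card_zpowers, hk])
    obtain ⟨Q, hQ⟩ := hpg.exists_le_sylow
    obtain ⟨t, ht⟩ := MulAction.exists_smul_eq G Q R
    have hmem : t * g * t⁻¹ ∈ (R : Subgroup G) := by
      rw [← ht, Sylow.coe_subgroup_smul, Subgroup.mem_pointwise_smul_iff_inv_smul_mem]
      simpa [MulAut.smul_def, MulAut.conj_inv_apply, mul_assoc] using hQ (mem_zpowers g)
    refine Finset.mem_image.2 ⟨t * g * t⁻¹, ?_, ?_⟩
    · rw [hS, Finset.mem_erase, Finset.mem_filter]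
      refine ⟨fun e => hg1 ?_, Finset.mem_univ _, hmem⟩
      exact conj_eq_one_iff.1 e
    · rw [← ConjClasses.mem_carrier_iff_mk_eq.1 hgC, ConjClasses.mk_eq_mk_iff_isConj]
      exact (isConj_iff.2 ⟨t, rfl⟩).symm
  let F : ConjClasses G → Finset G := fun C => S.filter (fun s => ConjClasses.mk s = C)
  have hsum : ∑ C ∈ T, (F C).card = 8 := by
    rw [← hSc]
    exact (Finset.card_eq_sum_card_fiberwise fun s hs => Finset.mem_image_of_mem _ hs).symm
  have hpos : ∀ C ∈ T, 1 ≤ (F C).card := by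
    intro C hC
    obtain ⟨s, hs, rfl⟩ := Finset.mem_image.1 hC
    exact Finset.card_pos.2 ⟨s, Finset.mem_filter.2 ⟨hs, rfl⟩⟩
  have hne3 : ∀ C ∈ T, (F C).card ≠ 3 := by
    intro C hC e
    obtain ⟨r, hr, rfl⟩ := Finset.mem_image.1 hC
    rw [hS, Finset.mem_erase, Finset.mem_filter] at hr
    refine fusion_card_not_dvd hcomm hr.2.2 ?_
    have : Nat.card {s : G // s ∈ (R : Subgroup G) ∧ IsConj r s} = (F (ConjClasses.mk r)).card := by
      rw [Nat.card_eq_fintype_card, Fintype.card_subtype]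
      congr 1
      ext s
      simp only [F, hS, Finset.mem_filter, Finset.mem_erase, Finset.mem_univ, true_and,
        ConjClasses.mk_eq_mk_iff_isConj]
      constructor
      · rintro ⟨hs, hc⟩
        refine ⟨⟨?_, hs⟩, hc.symm⟩
        rintro rfl
        exact hr.1 (isConj_one_left.1 hc)
      · rintro ⟨⟨-, hs⟩, hc⟩
        exact ⟨hs, hc.symm⟩
    rw [this, e]
  set A := T.filter (fun C => (F C).card ≤ 2) with hA
  have hA2 : 1 < A.card := by
    have hl : ∀ C ∈ T, 4 ≤ (F C).card + (if (F C).card ≤ 2 then 3 else 0) := by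
      intro C hC
      have := hpos C hC
      have := hne3 C hC
      split_ifs <;> omega
    have := Finset.sum_le_sum hl
    rw [Finset.sum_add_distrib, hsum, Finset.sum_const, smul_eq_mul, ← Finset.sum_filter, ← hA,
      Finset.sum_const, smul_eq_mul] at this
    omega
  have hpair : ∀ C ∈ A, ∃ r ∈ S, ConjClasses.mk r = C ∧
      ∀ n ∈ normalizer ((R : Subgroup G) : Set G), n * r * n⁻¹ = r ∨ n * r * n⁻¹ = r⁻¹ := by
    intro C hC
    rw [hA, Finset.mem_filter] at hC
    obtain ⟨r, hr, rfl⟩ := Finset.mem_image.1 hC.1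
    refine ⟨r, hr, rfl, ?_⟩
    have hrS := hr
    rw [hS, Finset.mem_erase, Finset.mem_filter] at hrS
    have hmove : ∀ s ∈ F (ConjClasses.mk r), ∀ n ∈ normalizer ((R : Subgroup G) : Set G),
        n * s * n⁻¹ ∈ F (ConjClasses.mk r) := by
      intro s hs n hn
      simp only [F, hS, Finset.mem_filter, Finset.mem_erase, Finset.mem_univ, true_and] at hs ⊢
      refine ⟨⟨fun e => hs.1.1 (conj_eq_one_iff.1 e), (mem_normalizer_iff.1 hn s).1 hs.1.2⟩, ?_⟩
      rw [← hs.2, ConjClasses.mk_eq_mk_iff_isConj]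
      exact (isConj_iff.2 ⟨n, rfl⟩).symm
    have hrF : r ∈ F (ConjClasses.mk r) := Finset.mem_filter.2 ⟨hr, rfl⟩
    have h1 := hpos _ hC.1
    rcases (show (F (ConjClasses.mk r)).card = 1 ∨ (F (ConjClasses.mk r)).card = 2 by omega) with e | e
    · intro n hn
      exact Or.inl (Finset.card_le_one.1 e.le _ (hmove r hrF n hn) r hrF)
    · obtain ⟨s, t, hst, hFst⟩ := Finset.card_eq_two.1 e
      obtain ⟨r', hne, hF⟩ : ∃ r', r' ≠ r ∧ F (ConjClasses.mk r) = {r, r'} := by
        rw [hFst] at hrF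
        rcases Finset.mem_insert.1 hrF with e1 | e1
        · exact ⟨t, by rw [e1]; exact hst.symm, by rw [hFst, e1]⟩
        · exact ⟨s, by rw [Finset.mem_singleton.1 e1]; exact hst,
            by rw [hFst, Finset.pair_comm, Finset.mem_singleton.1 e1]⟩
      have hr'R : r' ∈ (R : Subgroup G) := by
        have : r' ∈ F (ConjClasses.mk r) := by rw [hF]; simp
        simp only [F, hS, Finset.mem_filter, Finset.mem_erase] at this
        exact this.1.2.2
      have hfix : ∀ n ∈ normalizer ((R : Subgroup G) : Set G), n * (r * r') * n⁻¹ = r * r' := by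
        intro n hn
        have ha := hmove r hrF n hn
        have hb := hmove r' (by rw [hF]; simp) n hn
        rw [hF, Finset.mem_insert, Finset.mem_singleton] at ha hb
        rw [show n * (r * r') * n⁻¹ = (n * r * n⁻¹) * (n * r' * n⁻¹) by group]
        rcases ha with ha | ha <;> rcases hb with hb | hb
        · exact absurd (mul_left_cancel (mul_right_cancel (ha.trans hb.symm))) hne.symm
        · rw [ha, hb]
        · rw [ha, hb]; exact hcomm r' hr'R r hrS.2.2
        · exact absurd (mul_left_cancel (mul_right_cancel (ha.trans hb.symm))) hne.symm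
      have hinv : r' = r⁻¹ := eq_inv_of_mul_eq_one_right (h.no_fixed hcomm (mul_mem hrS.2.2 hr'R) hfix)
      intro n hn
      have := hmove r hrF n hn
      rwa [hF, hinv, Finset.mem_insert, Finset.mem_singleton] at this
  obtain ⟨C, hC, D, hD, hCD⟩ := Finset.one_lt_card.1 hA2
  obtain ⟨x, hx, hxC, hxs⟩ := hpair C hC
  obtain ⟨y, hy, hyD, hys⟩ := hpair D hD
  rw [hS, Finset.mem_erase, Finset.mem_filter] at hx hy
  have hxne : x ≠ 1 := hx.1
  refine ⟨x, y, hx.2.2, hy.2.2, hxne, hy.1, fun e => hCD ?_, fun e => hCD ?_,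
    fun n hn => ⟨hxs n hn, hys n hn⟩⟩
  · rw [← hxC, ← hyD, e]
  · rw [← hxC, ← hyD, e, ConjClasses.mk_eq_mk_iff_isConj]
    by_contra hc
    refine hxne (h.no_fixed hcomm hx.2.2 fun n hn => ?_)
    rcases hxs n hn with e1 | e1
    · exact e1
    · exact absurd (isConj_iff.2 ⟨n, e1⟩) hc

theorem Hyp.noncyclic_false [IsSimpleGroup G] (h : Hyp R q a b) (hnc : ¬ IsCyclic (R : Subgroup G))
    (h3 : 3 ≤ Nat.card {C : ConjClasses G // ∃ g ∈ C.carrier, g ≠ 1 ∧ orderOf g ∣ 9}) : False := by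
  haveI : Fact (Nat.Prime 3) := ⟨Nat.prime_three⟩
  have hab : IsMulCommutative (R : Subgroup G) :=
    IsPGroup.isMulCommutative_of_card_eq_prime_sq (p := 3) (by rw [h.card_R]; norm_num)
  have hcomm : ∀ g ∈ (R : Subgroup G), ∀ k ∈ (R : Subgroup G), g * k = k * g := fun g hg k hk =>
    congrArg Subtype.val (hab.is_comm.comm (⟨g, hg⟩ : (R : Subgroup G)) ⟨k, hk⟩)
  have hcube : ∀ g ∈ (R : Subgroup G), g ^ 3 = 1 := by
    intro g hg
    have hd : orderOf (⟨g, hg⟩ : (R : Subgroup G)) ∣ 3 ^ 2 := by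
      have := orderOf_dvd_natCard (⟨g, hg⟩ : (R : Subgroup G))
      rw [h.card_R] at this
      exact this
    obtain ⟨k, hk, hko⟩ := (Nat.dvd_prime_pow Nat.prime_three).1 hd
    have hk2 : k ≠ 2 := fun e => hnc (isCyclic_of_orderOf_eq_card (⟨g, hg⟩ : (R : Subgroup G))
      (by rw [hko, e, h.card_R]; norm_num))
    rw [← orderOf_dvd_iff_pow_eq_one, ← Subgroup.orderOf_mk g hg, hko]
    exact pow_dvd_pow 3 (show k ≤ 1 by omega) |>.trans (by norm_num)
  obtain ⟨x, y, hx, hy, hx1, hy1, hyx, hyx', hs⟩ := h.exists_signs hcomm h3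
  have hox : orderOf x = 3 := orderOf_eq_prime (hcube x hx) hx1
  have hind : y ∉ zpowers x := by
    intro hm
    rw [← mem_powers_iff_mem_zpowers, Submonoid.mem_powers_iff] at hm
    obtain ⟨i, hi⟩ := hm
    rw [← pow_mod_orderOf, hox] at hi
    have : i % 3 < 3 := Nat.mod_lt _ (by norm_num)
    interval_cases hm' : i % 3
    · exact hy1 (by rw [← hi, pow_zero])
    · exact hyx (by rw [← hi, pow_one])
    · exact hyx' (by
        rw [← hi]
        exact eq_inv_of_mul_eq_one_left (by rw [← pow_succ]; exact hcube x hx))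
  set N := normalizer ((R : Subgroup G) : Set G)
  obtain ⟨nx, hnx, hnx1⟩ : ∃ n ∈ N, n * x * n⁻¹ = x⁻¹ := by
    by_contra hc
    exact hx1 (h.no_fixed hcomm hx fun n hn => (hs n hn).1.resolve_right fun e => hc ⟨n, hn, e⟩)
  obtain ⟨ny, hny, hny1⟩ : ∃ n ∈ N, n * y * n⁻¹ = y⁻¹ := by
    by_contra hc
    exact hy1 (h.no_fixed hcomm hy fun n hn => (hs n hn).2.resolve_right fun e => hc ⟨n, hn, e⟩)
  have hmul : ∀ n m z : G, n * m * z * (n * m)⁻¹ = n * (m * z * m⁻¹) * n⁻¹ := fun n m z => by group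
  have hinv : ∀ {n z w : G}, n * z * n⁻¹ = w → n * z⁻¹ * n⁻¹ = w⁻¹ := fun e => by rw [← e]; group
  have finish : (∃ n ∈ N, n * x * n⁻¹ = x⁻¹ ∧ n * y * n⁻¹ = y) →
      (∃ n ∈ N, n * x * n⁻¹ = x ∧ n * y * n⁻¹ = y⁻¹) → False := fun hf hg =>
    h.no_axes ⟨hcomm, h.card_R, hx, hy, hx1, hy1, hcube x hx, hcube y hy, hind, hs, hf, hg⟩
  by_cases hp : ∃ n ∈ N, n * x * n⁻¹ = x⁻¹ ∧ n * y * n⁻¹ = y
  · refine finish hp ?_
    obtain ⟨m, hm, hm1, hm2⟩ := hp
    rcases (hs ny hny).1 with e | e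
    · exact ⟨ny, hny, e, hny1⟩
    · exact ⟨m * ny, mul_mem hm hny, by rw [hmul, e, hinv hm1, inv_inv], by rw [hmul, hny1, hinv hm2]⟩
  by_cases hq' : ∃ n ∈ N, n * x * n⁻¹ = x ∧ n * y * n⁻¹ = y⁻¹
  · obtain ⟨m, hm, hm1, hm2⟩ := hq'
    refine hp ?_
    rcases (hs nx hnx).2 with e | e
    · exact ⟨nx, hnx, hnx1, e⟩
    · exact ⟨m * nx, mul_mem hm hnx, by rw [hmul, hnx1, hinv hm1], by rw [hmul, e, hinv hm2, inv_inv]⟩
  have hxx : x⁻¹ ≠ x := by
    intro e
    have h2 : x ^ 2 = 1 := by rw [sq]; nth_rewrite 1 [← e]; exact inv_mul_cancel x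
    have := orderOf_dvd_of_pow_eq_one h2
    rw [hox] at this
    norm_num at this
  have hsame : ∀ n ∈ N, n * x * n⁻¹ = x → n * y * n⁻¹ = y := fun n hn e =>
    (hs n hn).2.resolve_right fun e2 => hq' ⟨n, hn, e, e2⟩
  have hgen : zpowers x ⊔ zpowers y = (R : Subgroup G) := by
    have hle : zpowers x ⊔ zpowers y ≤ (R : Subgroup G) := sup_le (zpowers_le.2 hx) (zpowers_le.2 hy)
    refine eq_of_le_of_card_ge hle ?_
    have hd := card_dvd_of_le hle
    rw [h.card_R, show (9 : ℕ) = 3 ^ 2 by norm_num] at hd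
    obtain ⟨k, hk, hko⟩ := (Nat.dvd_prime_pow Nat.prime_three).1 hd
    have hlt : zpowers x < zpowers x ⊔ zpowers y := lt_of_le_of_ne le_sup_left fun e =>
      hind (e ▸ (le_sup_right (a := zpowers x) (mem_zpowers y)))
    have h1 : k ≠ 0 := fun e => by
      have := card_le_of_le hlt.le
      rw [Nat.card_zpowers, hox, hko, e] at this
      norm_num at this
    have h2 : k ≠ 1 := fun e => hlt.ne (eq_of_le_of_card_ge hlt.le (by
      rw [Nat.card_zpowers, hox, hko, e]; norm_num))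
    rw [hko, h.card_R, show k = 2 by omega]
    norm_num
  set C := centralizer ((R : Subgroup G) : Set G)
  have hCN : ∀ n ∈ N, n ∈ C ↔ n * x * n⁻¹ = x := by
    intro n hn
    constructor
    · intro hc
      rw [← mem_centralizer_iff.1 hc x hx, mul_inv_cancel_right]
    · intro e
      have e2 := hsame n hn e
      have hle : (R : Subgroup G) ≤ centralizer ({n} : Set G) := by
        rw [← hgen, sup_le_iff, zpowers_le, zpowers_le, mem_centralizer_singleton_iff,
          mem_centralizer_singleton_iff]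
        exact ⟨(mul_inv_eq_iff_eq_mul.1 e).symm, (mul_inv_eq_iff_eq_mul.1 e2).symm⟩
      exact mem_centralizer_iff.2 fun z hz => mem_centralizer_singleton_iff.1 (hle hz)
  have hidx : (C.subgroupOf N).index = 2 := by
    rw [Subgroup.index_eq_two_iff]
    refine ⟨⟨nx, hnx⟩, fun m => ?_⟩
    rw [mem_subgroupOf, mem_subgroupOf, hCN _ (m * ⟨nx, hnx⟩ : N).2, hCN _ m.2, Subgroup.coe_mul,
      hmul, hnx1]
    rcases (hs m.1 m.2).1 with e | e
    · refine Or.inr ⟨e, fun hc => hxx ?_⟩
      exact ((hinv e).symm.trans hc)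
    · refine Or.inl ⟨(hinv e).trans (inv_inv x), fun hc => hxx ?_⟩
      exact e.symm.trans hc
  have hbot_or : ∀ (K : Subgroup G), K.Normal → K = ⊥ ∨ K = ⊤ := fun K hK => hK.eq_bot_or_eq_top
  have hpG : ¬ IsPGroup 3 G := by
    intro hP
    have htop : (R : Subgroup G) = ⊤ := by
      exact (R.is_maximal' (hP.to_subgroup ⊤) le_top).symm
    exact h.nonab ⟨⟨fun s t => hcomm s (htop ▸ mem_top s) t (htop ▸ mem_top t)⟩⟩
  have htop : pResidual 3 G = ⊤ := by
    have hn : (pResidual 3 G).Normal := CfsgLib.Transfer.pResidual_normal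
    refine (hbot_or _ hn).resolve_left fun e => hpG (IsPGroup.of_card (n := 2) ?_)
    by_contra hne
    obtain ⟨p, hp, hpd, hp3⟩ : ∃ p, p.Prime ∧ p ∣ Nat.card G ∧ p ≠ 3 := by
      by_contra hcon
      simp only [not_exists, not_and, not_not] at hcon
      have hpp := Nat.eq_prime_pow_of_unique_prime_dvd (Nat.card_pos.ne' : Nat.card G ≠ 0)
        (fun {p} hp hd => hcon p hp hd)
      exact hpG (IsPGroup.of_card hpp)
    haveI : Fact p.Prime := ⟨hp⟩
    obtain ⟨g, hg⟩ := exists_prime_orderOf_dvd_card' p hpd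
    have hgm : g ∈ pResidual 3 G := Subgroup.subset_closure (by
      simp only [Set.mem_ofPred_eq, hg]
      exact (Nat.coprime_primes hp Nat.prime_three).2 hp3)
    rw [e, mem_bot] at hgm
    rw [hgm, orderOf_one] at hg
    exact hp.ne_one hg.symm
  have hlen := CfsgLib.InertialTwo.pLengthLE_one_of_setting
    (CfsgLib.InertialTwo.setting_of_index_two (by norm_num : (3 : ℕ) ≠ 2) R hab hnc hidx htop)
  have hall : ∀ n, (upperPSeries 3 G n).1 = ⊥ := by
    intro n
    induction n with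
    | zero => rfl
    | succ n ih =>
      set U := (upperPSeries 3 G n).1 with hU
      let π : G →* G ⧸ U := QuotientGroup.mk' U
      have hπ : Function.Bijective π := ⟨by
        rw [← MonoidHom.ker_eq_bot_iff, QuotientGroup.ker_mk', ih], QuotientGroup.mk'_surjective U⟩
      have hc : Nat.card (G ⧸ U) = Nat.card G := (Nat.card_congr (Equiv.ofBijective π hπ)).symm
      have hcores : pPrimeCore 3 (G ⧸ U) = ⊥ ∧ pCore 3 (G ⧸ U) = ⊥ := by
        constructor <;> refine sSup_eq_bot.2 ?_ <;> rintro K ⟨hKn, hK⟩ <;>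
          rcases hbot_or (K.comap π) (hKn.comap π) with e | e
        · exact comap_injective hπ.2 (by rw [e, MonoidHom.comap_bot, (MonoidHom.ker_eq_bot_iff π).2 hπ.1])
        · exfalso
          rw [comap_injective hπ.2 (e.trans (comap_top π).symm), card_top, hc, h.card] at hK
          refine absurd (Nat.Coprime.coprime_dvd_left (Dvd.intro _ rfl) (Nat.Coprime.coprime_dvd_left (Dvd.intro _ rfl) hK)) ?_
          norm_num
        · exact comap_injective hπ.2 (by rw [e, MonoidHom.comap_bot, (MonoidHom.ker_eq_bot_iff π).2 hπ.1])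
        · exfalso
          rw [comap_injective hπ.2 (e.trans (comap_top π).symm)] at hK
          exact hpG ((hK.of_equiv Subgroup.topEquiv).of_injective π hπ.1)
      have hk : π.ker = ⊥ := (MonoidHom.ker_eq_bot_iff π).2 hπ.1
      simp only [upperPSeries]
      split_ifs
      · show (pPrimeCore 3 (G ⧸ U)).comap π = ⊥
        rw [hcores.1, MonoidHom.comap_bot, hk]
      · show (pCore 3 (G ⧸ U)).comap π = ⊥
        rw [hcores.2, MonoidHom.comap_bot, hk]
  have hlast : (⊥ : Subgroup G) = ⊤ := (hall 3).symm.trans hlen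
  exact bot_ne_top hlast

end CfsgLib.Known.ThreeClasses
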