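import Cfsg.Agent.Lib.Known.ThreeClasses.Sums
import Cfsg.Agent.Lib.Blocks.FrobeniusAutomizerChars
import Cfsg.Agent.Lib.Blocks.PrincipalGalois

/-!
# The principal block for an inverted Sylow subgroup of order three

Three characters, rational on regular elements, and one signed function carrying all of them.
-/

set_option autoImplicit false
set_option linter.all false

namespace CfsgLib.Known.ThreeClasses

open Cfsg CfsgLib.Char CfsgLib.CharDegree CfsgLib.Blocks Subgroup
open scoped ComplexConjugate

universe u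

variable {K : Type u} [Group K] [Finite K]

omit [Finite K] in
theorem index_centralizer_aut (α : K ≃* K) (g : K) :
    (centralizer ({α g} : Set K)).index = (centralizer ({g} : Set K)).index := by
  have h : centralizer ({g} : Set K) = (centralizer ({α g} : Set K)).comap α.toMonoidHom := by
    ext z
    simp only [mem_comap, MulEquiv.coe_toMonoidHom, mem_centralizer_singleton_iff, ← map_mul,
      α.injective.eq_iff]
  rw [h, index_comap_of_surjective _ (f := α.toMonoidHom) α.surjective]

/-- An automorphism carries the principal block to itself. -/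
theorem comp_mem_principalBlock (M : Ideal AlgInt) (α : K ≃* K) {χ χ' : IrrCharacter K}
    (he : ∀ g, (χ' : K → ℂ) g = (χ : K → ℂ) (α g)) (hχ : χ ∈ principalBlock M K) :
    χ' ∈ principalBlock M K := by
  have hs : SameBlock M (fun _ : K => (1 : ℂ)) (χ : K → ℂ) := hχ
  show SameBlock M (fun _ : K => (1 : ℂ)) (χ' : K → ℂ)
  intro g
  have h := hs (α g)
  simp only [centralChar, index_centralizer_aut] at h ⊢
  rw [he, he, map_one]
  exact h

/-- The signed function `U` with `1 + U + (-1 - U) = 0` describing the block on regular elements. -/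
structure Pair (M : Ideal AlgInt) (n : K) (U : K → ℂ) (u : ℤ) : Prop where
  sum : ∀ k k' : K, ¬ 3 ∣ orderOf k → ¬ 3 ∣ orderOf k' →
    ∑ᶠ φ ∈ principalBlock M K, (φ : K → ℂ) k * conj ((φ : K → ℂ) k') =
      1 + U k * U k' + (1 + U k) * (1 + U k')
  span : ∀ φ ∈ principalBlock M K, ∃ c e : ℤ, ∀ k : K, ¬ 3 ∣ orderOf k → (φ : K → ℂ) k = c + e * U k
  one : U 1 = u
  mod_three : u % 3 = 1
  dvd_left : u.natAbs ∣ Nat.card K
  dvd_right : (-1 - u).natAbs ∣ Nat.card K
  int : ∀ k : K, ¬ 3 ∣ orderOf k → ∃ v : ℤ, U k = v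
  move : U n ≠ u
  map_inv : ∀ k : K, ¬ 3 ∣ orderOf k → U k⁻¹ = U k
  invariant : ∀ (α : K ≃* K) (k : K), ¬ 3 ∣ orderOf k → U (α k) = U k

theorem exists_pair {M : Ideal AlgInt} [M.IsPrime] (hM : IsPModular 3 M) {P : Sylow 3 K} {y n : K}
    (hP : Nat.card (P : Subgroup K) = 3) (hy : y ∈ (P : Subgroup K)) (hy1 : y ≠ 1)
    (hinv : n * y * n⁻¹ = y⁻¹) (hn : ¬ 3 ∣ orderOf n) :
    ∃ (U : K → ℂ) (u : ℤ), Pair M n U u := by
  classical
  haveI : Fact (Nat.Prime 3) := ⟨Nat.prime_three⟩
  haveI := Fintype.ofFinite K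
  haveI := Fintype.ofFinite (IrrCharacter K)
  haveI : IsCyclic (P : Subgroup K) := isCyclic_of_prime_card hP
  have hzy : zpowers y = (P : Subgroup K) := by
    refine eq_of_le_of_card_ge (zpowers_le.2 hy) ?_
    rw [Nat.card_zpowers, hP]
    have hd := Subgroup.orderOf_dvd_natCard (P : Subgroup K) hy
    rw [hP, Nat.dvd_prime Nat.prime_three] at hd
    exact (hd.resolve_left fun e => hy1 (orderOf_eq_one_iff.1 e)).ge
  have hcen : ∀ z ∈ (P : Subgroup K), z ≠ 1 →
      centralizer ({z} : Set K) = centralizer ((P : Subgroup K) : Set K) := by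
    intro z hz hz1
    have hzz : zpowers z = (P : Subgroup K) := by
      refine eq_of_le_of_card_ge (zpowers_le.2 hz) ?_
      rw [Nat.card_zpowers, hP]
      have hd := Subgroup.orderOf_dvd_natCard (P : Subgroup K) hz
      rw [hP, Nat.dvd_prime Nat.prime_three] at hd
      exact (hd.resolve_left fun e => hz1 (orderOf_eq_one_iff.1 e)).ge
    rw [← hzz, zpowers_eq_closure, centralizer_closure]
  have hnN : n ∈ normalizer ((P : Subgroup K) : Set K) := by
    rw [mem_normalizer_iff_map_conj_eq, ← hzy, MonoidHom.map_zpowers]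
    show zpowers (n * y * n⁻¹) = _
    rw [hinv, zpowers_inv]
  have hy3 : y ^ 3 = 1 := by
    have := pow_card_eq_one' (G := (P : Subgroup K)) (x := ⟨y, hy⟩)
    rw [hP] at this
    simpa using congrArg Subtype.val this
  have S : Automizer.Setting 3 P 2 := by
    refine ⟨fun a ha b hb => congrArg Subtype.val (mul_comm' (⟨a, ha⟩ : (P : Subgroup K)) ⟨b, hb⟩), ?_,
      fun z hz hz1 => by
        rw [hcen z hz hz1, inf_eq_left]
        exact centralizer_le_normalizer' _⟩
    have hd : Nat.card ((P : Subgroup K).normalizerMonoidHom).range ∣ 2 := by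
      refine (Subgroup.card_subgroup_dvd_card _).trans ?_
      rw [IsCyclic.card_mulAut, hP, Nat.totient_prime Nat.prime_three]
    rw [← Subgroup.index_ker, Subgroup.normalizerMonoidHom_ker] at hd
    rcases (Nat.dvd_prime Nat.prime_two).1 hd with h | h
    · exfalso
      have hle : normalizer ((P : Subgroup K) : Set K) ≤ centralizer ((P : Subgroup K) : Set K) :=
        relIndex_eq_one.1 h
      have h2 := mem_centralizer_iff.1 (hle hnN) y hy
      rw [← h2, mul_inv_cancel_right] at hinv
      have hyy : y * y = 1 := by nth_rw 1 [hinv]; exact inv_mul_cancel y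
      have : y ^ 3 = y := by rw [pow_succ, pow_two, hyy, one_mul]
      exact hy1 (this.symm.trans hy3)
    · exact h
  set T := (Set.toFinite (principalBlock M K)).toFinset with hT
  have hmemT : ∀ φ : IrrCharacter K, φ ∈ T ↔ φ ∈ principalBlock M K := fun φ => Set.Finite.mem_toFinset _
  have hne0 : ∀ φ ∈ T, (φ : K → ℂ) y ≠ 0 := by
    intro φ hφ hz
    have hsb : SameBlock M (fun _ : K => (1 : ℂ)) (φ : K → ℂ) := (hmemT φ).1 hφ
    have h3 := hsb y
    rw [centralChar, centralChar, hz, mul_zero, zero_div, sub_zero, mul_one, div_one] at h3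
    exact P.not_dvd_index (((memLocalIdeal_natCast_iff hM).mp h3).trans
      (Subgroup.index_dvd_of_le (Automizer.le_centralizer S hy)))
  have hyinv : ∀ φ : IrrCharacter K, (φ : K → ℂ) y⁻¹ = (φ : K → ℂ) y := fun φ => by
    rw [← hinv, IsIrr.isClassFunction φ.2 y n]
  have hyo : orderOf y = 3 := by rw [← Nat.card_zpowers, hzy, hP]
  have hint : ∀ φ : IrrCharacter K, ∃ v : ℤ, (φ : K → ℂ) y = v ∧
      ((charDegree (φ : K → ℂ) : ℤ) + 2 * v) % 3 = 0 := by
    intro φ
    obtain ⟨m, hm⟩ := exists_sum_range (IsIrr.isCharacter φ.2) y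
    rw [hyo] at hm
    simp only [Finset.sum_range_succ, Finset.sum_range_zero, zero_add, pow_zero, pow_one] at hm
    rw [show y ^ 2 = y⁻¹ from eq_inv_of_mul_eq_one_left (by rw [← pow_succ]; exact hy3), hyinv,
      apply_one_eq_charDegree] at hm
    obtain ⟨v, hv, hv'⟩ := exists_int_of_mul_eq (IsChar.isIntegral (IsIrr.isCharacter φ.2) y)
      (n := 2) (c := 3 * (m : ℤ) - charDegree (φ : K → ℂ)) (by norm_num)
      (by push_cast; linear_combination hm)
    exact ⟨v, hv, by omega⟩
  choose v hv hvmod using hint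
  have hnorm : ∑ φ ∈ T, v φ ^ 2 = 3 := by
    have h := Automizer.sum_norm S hM hy hy1
    rw [finsum_mem_eq_finite_toFinset_sum _ (Set.toFinite _), hP] at h
    simp only [hyinv, hv] at h
    refine Int.cast_injective (α := ℂ) ?_
    push_cast
    rw [← hT] at h
    simp only [pow_two]
    exact h
  have hv1 : ∀ φ ∈ T, 1 ≤ v φ ^ 2 := fun φ hφ => by
    have : v φ ≠ 0 := fun e => hne0 φ hφ (by rw [hv, e, Int.cast_zero])
    have := sq_pos_of_ne_zero this
    omega
  have hsq : ∀ φ ∈ T, v φ = 1 ∨ v φ = -1 := by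
    intro φ hφ
    have h1 := Finset.single_le_sum (f := fun φ => v φ ^ 2) (fun ψ _ => sq_nonneg _) hφ
    rw [hnorm] at h1
    have h2 : -2 < v φ ∧ v φ < 2 := ⟨by nlinarith, by nlinarith⟩
    have := hv1 φ hφ
    rcases (show v φ = 1 ∨ v φ = -1 ∨ v φ = 0 by omega) with e | e | e
    · exact Or.inl e
    · exact Or.inr e
    · rw [e] at this; norm_num at this
  have hcard : T.card = 3 := by
    have h : ∑ φ ∈ T, v φ ^ 2 = T.card := by
      rw [Finset.card_eq_sum_ones, Nat.cast_sum]
      refine Finset.sum_congr rfl fun φ hφ => ?_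
      rcases hsq φ hφ with e | e <;> rw [e] <;> norm_num
    omega
  have htT : trivChar K ∈ T := (hmemT _).2 trivChar_mem_principalBlock
  obtain ⟨A, B, hAB, hTAB⟩ := Finset.card_eq_two.1
    (show (T.erase (trivChar K)).card = 2 by rw [Finset.card_erase_of_mem htT, hcard])
  have hA : A ∈ T.erase (trivChar K) := by rw [hTAB]; exact Finset.mem_insert_self _ _
  have hB : B ∈ T.erase (trivChar K) := by
    rw [hTAB]; exact Finset.mem_insert_of_mem (Finset.mem_singleton_self _)
  have hT3 : T = insert (trivChar K) {A, B} := by rw [← hTAB, Finset.insert_erase htT]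
  have hsum3 : ∀ F : IrrCharacter K → ℂ,
      ∑ᶠ φ ∈ principalBlock M K, F φ = F (trivChar K) + (F A + F B) := fun F => by
    rw [finsum_mem_eq_finite_toFinset_sum _ (Set.toFinite _), ← hT, hT3, Finset.sum_insert (by
      rw [← hTAB]; exact Finset.notMem_erase _ _), Finset.sum_pair hAB]
  set s := v A with hs
  set s' := v B with hs'
  have hsA := hsq A (Finset.mem_of_mem_erase hA)
  have hsB := hsq B (Finset.mem_of_mem_erase hB)
  rw [← hs] at hsA
  rw [← hs'] at hsB
  have hrel : ∀ k : K, ¬ 3 ∣ orderOf k → 1 + (s : ℂ) * (A : K → ℂ) k + (s' : ℂ) * (B : K → ℂ) k = 0 := by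
    intro k hk
    have h := Automizer.sum_regular (P := P) hM (x := ⟨y, hy⟩) (fun e => hy1 (congrArg Subtype.val e)) hk
    rw [hsum3] at h
    change (trivChar K : K → ℂ) k * (trivChar K : K → ℂ) y + ((A : K → ℂ) k * (A : K → ℂ) y + (B : K → ℂ) k * (B : K → ℂ) y) = 0 at h
    rw [trivChar_apply, trivChar_apply, hv A, hv B, ← hs, ← hs'] at h
    linear_combination h
  set dA := charDegree (A : K → ℂ) with hdA
  set dB := charDegree (B : K → ℂ) with hdB
  have h10 : ¬ 3 ∣ orderOf (1 : K) := by rw [orderOf_one]; norm_num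
  have hrel1 : 1 + s * (dA : ℤ) + s' * (dB : ℤ) = 0 := by
    refine Int.cast_injective (α := ℂ) ?_
    have h := hrel 1 h10
    rw [apply_one_eq_charDegree, apply_one_eq_charDegree, ← hdA, ← hdB] at h
    push_cast
    exact h
  have hdne : dA ≠ dB := by
    intro e
    rw [← e] at hrel1
    rcases hsA with e1 | e1 <;> rcases hsB with e2 | e2 <;> rw [e1, e2] at hrel1 <;> omega
  -- maps permuting the block fix `A`
  have hfix : ∀ σ : IrrCharacter K → IrrCharacter K, σ A ∈ T → σ A ≠ trivChar K →
      charDegree (σ A : K → ℂ) = dA → σ A = A := by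
    intro σ h1 h2 h3
    rw [hT3, Finset.mem_insert, Finset.mem_insert, Finset.mem_singleton] at h1
    rcases h1 with h | h | h
    · exact absurd h h2
    · exact h
    · rw [h] at h3; exact absurd h3.symm hdne
  have hA1 : A ≠ trivChar K := Finset.ne_of_mem_erase hA
  have hratA : IsRat A := by
    intro k hk g
    have h1 : powTwist hk A = A := hfix (powTwist hk)
      ((hmemT _).2 (powTwist_mem_principalBlock hM hk ((hmemT _).1 (Finset.mem_of_mem_erase hA))))
      (fun e => hA1 (powTwist_injective hk (e.trans (Subtype.ext rfl))))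
      (by rw [hdA, charDegree, charDegree, powTwist_apply, one_pow])
    conv_rhs => rw [← h1]
    exact (powTwist_apply hk A g).symm
  have hintU : ∀ k : K, ∃ z : ℤ, (s : ℂ) * (A : K → ℂ) k = z := fun k => by
    obtain ⟨z, hz⟩ := hratA.exists_int k
    exact ⟨s * z, by rw [hz]; push_cast; ring⟩
  refine ⟨fun k => (s : ℂ) * (A : K → ℂ) k, s * (dA : ℤ), ?_, ?_, ?_, ?_, ?_, ?_, fun k _ => hintU k, ?_, fun k _ => ?_, ?_⟩
  · intro k k' hk hk'
    obtain ⟨z, hz⟩ := hratA.exists_int k'
    have hB' : (B : K → ℂ) k' = (s' : ℂ) * (-1 - (s : ℂ) * (A : K → ℂ) k') := by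
      have h := hrel k' hk'
      rcases hsB with e | e <;> rw [e] at h ⊢ <;> push_cast at h ⊢
      · linear_combination h
      · linear_combination -h
    have hB0 : (B : K → ℂ) k = (s' : ℂ) * (-1 - (s : ℂ) * (A : K → ℂ) k) := by
      have h := hrel k hk
      rcases hsB with e | e <;> rw [e] at h ⊢ <;> push_cast at h ⊢
      · linear_combination h
      · linear_combination -h
    have hcA : conj ((A : K → ℂ) k') = (A : K → ℂ) k' := by rw [hz, map_intCast]
    rw [hsum3, trivChar_apply, trivChar_apply, map_one, hB0, hB', map_mul, map_sub, map_neg, map_one,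
      map_mul, map_intCast, map_intCast, hcA]
    rcases hsA with e | e <;> rcases hsB with e' | e' <;> rw [e, e'] <;> push_cast <;> ring
  · intro φ hφ
    rw [← hmemT, hT3, Finset.mem_insert, Finset.mem_insert, Finset.mem_singleton] at hφ
    rcases hφ with rfl | rfl | rfl
    · exact ⟨1, 0, fun k _ => by rw [trivChar_apply]; push_cast; ring⟩
    · exact ⟨0, s, fun k _ => by rcases hsA with e | e <;> rw [e] <;> push_cast <;> ring⟩
    · refine ⟨-s', -s', fun k hk => ?_⟩
      have h := hrel k hk
      rcases hsB with e | e <;> rw [e] at h ⊢ <;> push_cast at h ⊢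
      · linear_combination h
      · linear_combination -h
  · show (s : ℂ) * (A : K → ℂ) 1 = _
    rw [apply_one_eq_charDegree, ← hdA]
    push_cast; rfl
  · have := hvmod A
    rw [← hs, ← hdA] at this
    rcases hsA with e | e <;> rw [e] at this ⊢ <;> omega
  · rw [Int.natAbs_mul, show s.natAbs = 1 by rcases hsA with e | e <;> rw [e] <;> rfl, one_mul,
      Int.natAbs_natCast]
    exact Blocks.charDegree_dvd_card A
  · rw [show -1 - s * (dA : ℤ) = s' * (dB : ℤ) by omega, Int.natAbs_mul,
      show s'.natAbs = 1 by rcases hsB with e | e <;> rw [e] <;> rfl, one_mul, Int.natAbs_natCast]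
    exact Blocks.charDegree_dvd_card B
  · intro he
    have heA : (A : K → ℂ) n = (A : K → ℂ) 1 := by
      rw [apply_one_eq_charDegree, ← hdA]
      change (s : ℂ) * (A : K → ℂ) n = _ at he
      rcases hsA with e | e <;> rw [e] at he <;> push_cast at he <;>
        first
        | linear_combination he
        | linear_combination -he
    have heB : (B : K → ℂ) n = (B : K → ℂ) 1 := by
      have h := hrel n hn
      have h' := hrel 1 h10
      rw [heA] at h
      have : (s' : ℂ) * (B : K → ℂ) n = (s' : ℂ) * (B : K → ℂ) 1 := by linear_combination h - h'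
      exact mul_left_cancel₀ (by rcases hsB with e | e <;> rw [e] <;> norm_num) this
    have hlin : ∀ C : IrrCharacter K, (C : K → ℂ) n = (C : K → ℂ) 1 → v C = charDegree (C : K → ℂ) := by
      intro C hC
      have h1 : n ∈ kerSubgroup C := mem_kerSubgroup.2 hC
      have h2 : n * y * n⁻¹ * y⁻¹ ∈ kerSubgroup C := by
        rw [show n * y * n⁻¹ * y⁻¹ = n * (y * n⁻¹ * y⁻¹) by group]
        exact mul_mem h1 ((kerSubgroup_normal C).conj_mem _ (inv_mem h1) y)
      have h3 : n * y * n⁻¹ * y⁻¹ = y := by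
        rw [hinv, ← mul_inv_rev, inv_eq_iff_mul_eq_one]
        rw [← pow_two, ← pow_succ]
        exact hy3
      rw [h3, mem_kerSubgroup, hv, apply_one_eq_charDegree] at h2
      exact_mod_cast h2
    have e1 := hlin A heA
    have e2 := hlin B heB
    rw [← hs, ← hdA] at e1
    rw [← hs', ← hdB] at e2
    rcases hsA with e | e <;> rcases hsB with e' | e' <;> rw [e, e'] at hrel1 <;> omega
  · obtain ⟨z, hz⟩ := hratA.exists_int k
    show (s : ℂ) * (A : K → ℂ) k⁻¹ = (s : ℂ) * (A : K → ℂ) k
    rw [IsIrr.map_inv A.2, hz, map_intCast]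
  · intro α k _
    show (s : ℂ) * (A : K → ℂ) (α k) = (s : ℂ) * (A : K → ℂ) k
    congr 1
    let A' : IrrCharacter K :=
      ⟨fun g => (A : K → ℂ) (α g), IsIrr.comp_surjective α.toMonoidHom α.surjective A.2⟩
    have h1 : A' = A := hfix (fun _ => A')
      ((hmemT _).2 (comp_mem_principalBlock M α (fun g => rfl) ((hmemT _).1 (Finset.mem_of_mem_erase hA))))
      (fun e => hA1 (irr_ext fun g => by
        obtain ⟨g', rfl⟩ := α.surjective g
        rw [show (A : K → ℂ) (α g') = (A' : K → ℂ) g' from rfl, e]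
        rfl))
      (by rw [hdA, charDegree, charDegree]; show ⌊((A : K → ℂ) (α 1)).re⌋₊ = _; rw [map_one])
    exact congrFun (congrArg Subtype.val h1) k

end CfsgLib.Known.ThreeClasses
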