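import Cfsg.Agent.Lib.Char.Rationality
import Cfsg.Agent.Lib.Perm.ThreePrimeOrder.PrincipalValue
import Cfsg.Agent.Lib.Perm.CharAverage

/-!
# Rational characters on small abelian subgroups

Sums of a character over cyclic subgroups, and rational characters of prime degree.
-/

set_option autoImplicit false
set_option linter.all false

namespace CfsgLib.Known.ThreeClasses

open Cfsg CfsgLib.Char CfsgLib.CharDegree CfsgLib.Blocks
open scoped ComplexConjugate

universe u

variable {G : Type u} [Group G] [Finite G]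

theorem exists_int_of_mul_eq {z : ℂ} (hz : IsIntegral ℤ z) {c n : ℤ} (hn : n ≠ 0)
    (h : (n : ℂ) * z = c) : ∃ b : ℤ, z = b ∧ n * b = c := by
  have hrat : z = algebraMap ℚ ℂ ((c : ℚ) / n) := by
    rw [eq_ratCast]
    push_cast
    rw [eq_div_iff (Int.cast_ne_zero.2 hn), ← h, mul_comm]
  rw [hrat, isIntegral_algebraMap_iff (algebraMap ℚ ℂ).injective] at hz
  obtain ⟨b, hb⟩ := IsIntegrallyClosed.isIntegral_iff.mp hz
  refine ⟨b, by rw [hrat, ← hb, eq_intCast, map_intCast], ?_⟩
  rw [eq_intCast, eq_div_iff (Int.cast_ne_zero.2 hn)] at hb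
  rw [mul_comm]
  exact_mod_cast hb

/-- The values are fixed by the Galois group. -/
def IsRat (χ : IrrCharacter G) : Prop :=
  ∀ k : ℕ, k.Coprime (Nat.card G) → ∀ g : G, (χ : G → ℂ) (g ^ k) = (χ : G → ℂ) g

variable {χ : IrrCharacter G}

theorem IsRat.exists_int (h : IsRat χ) (g : G) : ∃ v : ℤ, (χ : G → ℂ) g = v := by
  obtain ⟨n, ρ, -, hρ, -⟩ := CfsgLib.CharDegree.exists_rep χ
  obtain ⟨r, hr⟩ := CharRational.exists_rat_of_apply_pow_eq ρ g fun m hm => by
    rw [hρ]; exact h m hm g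
  rw [hρ] at hr
  obtain ⟨b, hb, -⟩ := exists_int_of_mul_eq (IsChar.isIntegral (IsIrr.isCharacter χ.2) g)
    (c := r.num) (n := (r.den : ℤ)) (Int.natCast_ne_zero.2 r.den_ne_zero) (by
      rw [hr]
      have := r.den_mul_eq_num
      exact_mod_cast this)
  exact ⟨b, hb⟩

theorem IsRat.apply_pow (h : IsRat χ) (g : G) {j : ℕ} (hj : j.Coprime (orderOf g)) :
    (χ : G → ℂ) (g ^ j) = (χ : G → ℂ) g := by
  haveI : NeZero (Nat.card G) := ⟨Nat.card_pos.ne'⟩
  obtain ⟨u, hu⟩ := ZMod.unitsMap_surjective (orderOf_dvd_natCard g) (ZMod.unitOfCoprime j hj)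
  have hk : (u : ZMod (Nat.card G)).val ≡ j [MOD orderOf g] := by
    rw [← ZMod.natCast_eq_natCast_iff]
    have := congrArg Units.val hu
    rw [ZMod.unitsMap_val, ZMod.coe_unitOfCoprime] at this
    rw [← this, ZMod.natCast_val]
  rw [← pow_eq_pow_iff_modEq.2 hk, h _ (ZMod.val_coe_unit_coprime u)]

omit [Finite G] in
/-- A character sums over the powers of an element to a natural multiple of its order. -/
theorem exists_sum_range [Finite G] {f : G → ℂ} (hf : IsCharacter G f) (x : G) :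
    ∃ d : ℕ, ∑ i ∈ Finset.range (orderOf x), f (x ^ i) = (orderOf x : ℂ) * d := by
  haveI := Fintype.ofFinite G
  haveI := Fintype.ofFinite (Subgroup.zpowers x)
  obtain ⟨d, hd⟩ := Perm.CharAverage.exists_sum_eq (Subgroup.zpowers x) hf
  refine ⟨d, ?_⟩
  rw [Nat.card_zpowers] at hd
  rw [← hd, ← Equiv.sum_comp (finEquivZPowers (isOfFinOrder_of_finite x)),
    ← Fin.sum_univ_eq_sum_range (fun i => f (x ^ i))]
  exact Finset.sum_congr rfl fun i _ => by rw [finEquivZPowers_apply]

/-- Sum over a subgroup of prime order. -/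
theorem sum_prime {f : G → ℂ} (hf : IsCharacter G f) {x : G} {p : ℕ} (hp : p.Prime)
    (hx : orderOf x = p) {D v : ℤ} (h1 : f 1 = D)
    (hv : ∀ i, i < p → i ≠ 0 → f (x ^ i) = v) : ∃ m : ℕ, D + ((p : ℤ) - 1) * v = p * m := by
  obtain ⟨m, hm⟩ := exists_sum_range hf x
  refine ⟨m, ?_⟩
  have h0 : (0 : ℕ) ∈ Finset.range p := Finset.mem_range.2 hp.pos
  rw [hx, ← Finset.add_sum_erase _ _ h0, pow_zero, h1,
    Finset.sum_congr rfl (g := fun _ => (v : ℂ)) (fun i hi => hv i
      (Finset.mem_range.1 (Finset.mem_of_mem_erase hi)) (Finset.ne_of_mem_erase hi)),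
    Finset.sum_const, Finset.card_erase_of_mem h0, Finset.card_range, nsmul_eq_mul,
    Nat.cast_sub hp.one_le, Nat.cast_one] at hm
  exact_mod_cast hm

theorem IsRat.sum_prime (h : IsRat χ) {x : G} {p : ℕ} (hp : p.Prime) (hx : orderOf x = p) {D v : ℤ}
    (h1 : (χ : G → ℂ) 1 = D) (hv : (χ : G → ℂ) x = v) :
    ∃ m : ℕ, D + ((p : ℤ) - 1) * v = p * m := by
  refine ThreeClasses.sum_prime (IsIrr.isCharacter χ.2) hp hx h1 fun i hi hi0 => ?_
  have hcop : i.Coprime (orderOf x) := hx ▸ ((hp.coprime_iff_not_dvd).2 fun hd =>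
    absurd (Nat.le_of_dvd (Nat.pos_of_ne_zero hi0) hd) (not_le.2 hi)).symm
  rw [h.apply_pow x hcop, hv]

/-- Sum over a cyclic group of order `n p`, constant off the subgroup of order `p`. -/
theorem sum_mixed {f : G → ℂ} (hf : IsCharacter G f) {k x : G} {n p : ℕ} (hn : orderOf k = n)
    (hx : orderOf x = p) (hco : n.Coprime p) (hkx : Commute k x) {c : ℂ}
    (hc : ∀ i j : ℕ, ¬ n ∣ i → f (k ^ i * x ^ j) = c) :
    ∃ m : ℕ, (∑ j ∈ Finset.range p, f (x ^ j)) + ((n : ℂ) * p - p) * c = (n : ℂ) * p * m := by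
  classical
  have hn0 : 0 < n := hn ▸ orderOf_pos k
  have hp0 : 0 < p := hx ▸ orderOf_pos x
  have hord : orderOf (k * x) = n * p := by
    rw [hkx.orderOf_mul_eq_mul_orderOf_of_coprime (by rw [hn, hx]; exact hco), hn, hx]
  obtain ⟨m, hm⟩ := exists_sum_range hf (k * x)
  refine ⟨m, ?_⟩
  rw [hord, Nat.cast_mul] at hm
  rw [← hm]
  symm
  have h1 : (Finset.range (n * p)).filter (fun t => n ∣ t) =
      (Finset.range p).image (fun s => n * s) := by
    ext t
    simp only [Finset.mem_filter, Finset.mem_range, Finset.mem_image]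
    constructor
    · rintro ⟨ht, s, rfl⟩
      exact ⟨s, Nat.lt_of_mul_lt_mul_left ht, rfl⟩
    · rintro ⟨s, hs, rfl⟩
      exact ⟨Nat.mul_lt_mul_of_pos_left hs hn0, dvd_mul_right _ _⟩
  have hperm : ∑ j ∈ Finset.range p, f (x ^ (n * j)) = ∑ j ∈ Finset.range p, f (x ^ j) := by
    refine Finset.sum_bij' (fun s _ => n * s % p) (fun s _ => (Nat.chineseRemainder hco 0 s : ℕ) / n % p)
      (fun s _ => Finset.mem_range.2 (Nat.mod_lt _ hp0)) (fun s _ => Finset.mem_range.2 (Nat.mod_lt _ hp0))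
      ?_ ?_ ?_
    · intro s hs
      obtain ⟨hc0, hcs⟩ := (Nat.chineseRemainder hco 0 (n * s % p)).2
      obtain ⟨w, hw⟩ := Nat.modEq_zero_iff_dvd.1 hc0
      rw [hw, Nat.mul_div_cancel_left _ hn0]
      rw [hw] at hcs
      have h2 : w ≡ s [MOD p] := Nat.ModEq.cancel_left_of_coprime (by
        rw [Nat.gcd_comm]; exact hco) (hcs.trans (Nat.mod_modEq _ _))
      exact Eq.trans h2 (Nat.mod_eq_of_lt (Finset.mem_range.1 hs))
    · intro s hs
      obtain ⟨hc0, hcs⟩ := (Nat.chineseRemainder hco 0 s).2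
      obtain ⟨w, hw⟩ := Nat.modEq_zero_iff_dvd.1 hc0
      rw [hw, Nat.mul_div_cancel_left _ hn0]
      rw [hw] at hcs
      rw [Nat.mul_mod, Nat.mod_mod, ← Nat.mul_mod]
      exact Eq.trans hcs (Nat.mod_eq_of_lt (Finset.mem_range.1 hs))
    · intro s hs
      rw [← hx, pow_mod_orderOf]
  rw [← Finset.sum_filter_add_sum_filter_not (Finset.range (n * p)) (fun t => n ∣ t), h1,
    Finset.sum_image (fun a _ b _ e => Nat.eq_of_mul_eq_mul_left hn0 e),
    Finset.sum_congr rfl (g := fun s => f (x ^ (n * s))) (fun s _ => by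
      rw [hkx.mul_pow, pow_mul, ← hn, pow_orderOf_eq_one, one_pow, one_mul]), hperm]
  congr 1
  rw [Finset.sum_congr rfl (g := fun _ => c) (fun t ht => by
    rw [hkx.mul_pow]; exact hc t t (Finset.mem_filter.1 ht).2), Finset.sum_const, nsmul_eq_mul]
  congr 1
  have h2 := Finset.card_filter_add_card_filter_not (s := Finset.range (n * p)) (fun t => n ∣ t)
  rw [h1, Finset.card_image_of_injective _ (fun a b e => Nat.eq_of_mul_eq_mul_left hn0 e),
    Finset.card_range, Finset.card_range] at h2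
  have h3 : ((p + ((Finset.range (n * p)).filter (fun t => ¬ n ∣ t)).card : ℕ) : ℂ) = ((n * p : ℕ) : ℂ) := by
    rw [h2]
  push_cast at h3
  linear_combination h3

section Simple

variable [IsSimpleGroup G]

/-- Values of a nonlinear irreducible character of a simple group are below the degree. -/
theorem lt_degree {D v : ℤ} (h1 : (χ : G → ℂ) 1 = D) (hD : 1 < D) {g : G} (hg : g ≠ 1)
    (hv : (χ : G → ℂ) g = v) : v < D := by
  haveI := Fintype.ofFinite G
  have hle := IsChar.norm_le (IsIrr.isCharacter χ.2) g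
  rw [hv, h1, Complex.norm_intCast, Complex.norm_intCast] at hle
  rw [abs_of_pos (show (0 : ℝ) < (D : ℝ) by exact_mod_cast (by omega : (0 : ℤ) < D))] at hle
  have h2 : (|v| : ℤ) ≤ D := by exact_mod_cast hle
  rcases lt_or_eq_of_le ((le_abs_self v).trans h2) with h | rfl
  · exact h
  · refine absurd (Perm.ThreePrimeOrder.eq_one_of_apply_eq (χ := χ) (fun e => ?_) (hv.trans h1.symm)) hg
    rw [apply_one_eq_charDegree, e] at h1
    have h3 : ((1 : ℤ) : ℂ) = (v : ℂ) := by exact_mod_cast h1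
    have := Int.cast_injective h3
    omega

variable {q : ℕ}

theorem IsRat.apply_eq_zero (h : IsRat χ) (hq : q.Prime) (hq2 : q ≠ 2)
    (hd : charDegree (χ : G → ℂ) = q) {x : G} (hx : orderOf x = q) : (χ : G → ℂ) x = 0 := by
  haveI := Fintype.ofFinite G
  have h1 : (χ : G → ℂ) 1 = ((q : ℤ) : ℂ) := by
    rw [apply_one_eq_charDegree, hd, Int.cast_natCast]
  have hx1 : x ≠ 1 := fun e => hq.ne_one (by rw [← hx, e, orderOf_one])
  obtain ⟨v, hv⟩ := h.exists_int x
  obtain ⟨m, hm⟩ := h.sum_prime hq hx h1 hv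
  have hlt := lt_degree h1 (by exact_mod_cast hq.one_lt) hx1 hv
  have hq3 : (3 : ℤ) ≤ q := by
    have := hq.two_le
    omega
  obtain ⟨t, rfl⟩ : (q : ℤ) ∣ v := by
    refine ⟨(1 : ℤ) + v - m, ?_⟩
    linear_combination -hm
  have ht : t < 1 := by
    by_contra hc
    nlinarith
  have ht' : 0 ≤ t := by
    by_contra hc
    have he : 1 + ((q : ℤ) - 1) * t = m := mul_left_cancel₀ (by omega : (q : ℤ) ≠ 0) (by linear_combination hm)
    have := Int.natCast_nonneg m
    nlinarith [show t ≤ -1 by omega]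
  obtain rfl : t = 0 := by omega
  rw [hv]; simp

/-- A rational irreducible character of degree an odd prime `q` forces `q² ∤ |G|`. -/
theorem IsRat.not_sq_dvd (h : IsRat χ) (hq : q.Prime) (hq2 : q ≠ 2)
    (hd : charDegree (χ : G → ℂ) = q) : ¬ q ^ 2 ∣ Nat.card G := by
  classical
  intro hdvd
  haveI := Fact.mk hq
  haveI := Fintype.ofFinite G
  have h1 : (χ : G → ℂ) 1 = ((q : ℤ) : ℂ) := by
    rw [apply_one_eq_charDegree, hd, Int.cast_natCast]
  obtain ⟨H, hH⟩ := Sylow.exists_subgroup_card_pow_prime q hdvd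
  by_cases hcyc : ∃ x ∈ H, orderOf x = q ^ 2
  · obtain ⟨x, -, hx⟩ := hcyc
    obtain ⟨w, hw⟩ := h.exists_int x
    have hsum : ∀ (f : G → ℂ) (D e : ℂ), f 1 = D → (∀ y, orderOf y = q → f y = 0) →
        (∀ j, j.Coprime (orderOf x) → f (x ^ j) = e) →
        ∑ i ∈ Finset.range (orderOf x), f (x ^ i) = D + ((q : ℂ) * q - q) * e := by
      intro f D e hf1 hf0 hfe
      rw [hx, ← Finset.sum_filter_add_sum_filter_not (Finset.range (q ^ 2)) (fun t => q ∣ t)]
      have hmul : (Finset.range (q ^ 2)).filter (fun t => q ∣ t) =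
          (Finset.range q).image (fun s => q * s) := by
        ext t
        simp only [Finset.mem_filter, Finset.mem_range, Finset.mem_image]
        constructor
        · rintro ⟨ht, s, rfl⟩
          rw [pow_two] at ht
          exact ⟨s, Nat.lt_of_mul_lt_mul_left ht, rfl⟩
        · rintro ⟨s, hs, rfl⟩
          rw [pow_two]
          exact ⟨Nat.mul_lt_mul_of_pos_left hs hq.pos, dvd_mul_right _ _⟩
      congr 1
      · rw [hmul, Finset.sum_image (fun a _ b _ e => Nat.eq_of_mul_eq_mul_left hq.pos e),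
          Finset.sum_eq_single 0 (fun s hs hs0 => hf0 _ ?_)
            (fun h0 => absurd (Finset.mem_range.2 hq.pos) h0), mul_zero, pow_zero, hf1]
        rw [pow_mul]
        refine orderOf_eq_prime ?_ ?_
        · rw [← pow_mul, ← pow_mul, show q * (s * q) = q ^ 2 * s by ring, pow_mul, ← hx, pow_orderOf_eq_one, one_pow]
        · rw [← pow_mul]
          refine fun he => hs0 ?_
          have hsd := orderOf_dvd_of_pow_eq_one he
          rw [hx, pow_two] at hsd
          exact Nat.eq_zero_of_dvd_of_lt (Nat.dvd_of_mul_dvd_mul_left hq.pos hsd) (Finset.mem_range.1 hs)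
      · rw [Finset.sum_congr rfl (g := fun _ => e) (fun t ht => hfe t (hx ▸
            Nat.Coprime.pow_right 2 ((hq.coprime_iff_not_dvd).2 (Finset.mem_filter.1 ht).2).symm)),
          Finset.sum_const, nsmul_eq_mul]
        congr 1
        have h2 := Finset.card_filter_add_card_filter_not (s := Finset.range (q ^ 2)) (fun t => q ∣ t)
        rw [hmul, Finset.card_image_of_injective _ (fun a b e => Nat.eq_of_mul_eq_mul_left hq.pos e),
          Finset.card_range, Finset.card_range] at h2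
        have h3 : ((q + ((Finset.range (q ^ 2)).filter (fun t => ¬ q ∣ t)).card : ℕ) : ℂ) = ((q ^ 2 : ℕ) : ℂ) := by
          rw [h2]
        push_cast at h3
        linear_combination h3
    obtain ⟨d, hd1⟩ := exists_sum_range (IsIrr.isCharacter χ.2) x
    obtain ⟨d', hd2⟩ := exists_sum_range (IsChar.mul (IsIrr.isCharacter χ.2) (IsIrr.isCharacter χ.2)) x
    rw [hsum _ _ (w : ℂ) h1 (fun y hy => h.apply_eq_zero hq hq2 hd hy)
      (fun j hj => (h.apply_pow x hj).trans hw), hx] at hd1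
    rw [hsum _ (((q : ℤ) : ℂ) * (q : ℤ)) ((w : ℂ) * w) (by rw [Pi.mul_apply, h1])
      (fun y hy => by rw [Pi.mul_apply, h.apply_eq_zero hq hq2 hd hy, mul_zero])
      (fun j hj => by rw [Pi.mul_apply, h.apply_pow x hj, hw]), hx] at hd2
    have e1 : (q : ℤ) + ((q : ℤ) * q - q) * w = (q : ℤ) ^ 2 * d := by exact_mod_cast hd1
    have e2 : (q : ℤ) * q + ((q : ℤ) * q - q) * (w * w) = (q : ℤ) ^ 2 * d' := by exact_mod_cast hd2
    have hqi : Prime (q : ℤ) := Nat.prime_iff_prime_int.1 hq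
    have hq0 : (q : ℤ) ≠ 0 := hqi.ne_zero
    have e1' : 1 + ((q : ℤ) - 1) * w = q * d := mul_left_cancel₀ hq0 (by linear_combination e1)
    have e2' : (q : ℤ) + ((q : ℤ) - 1) * (w * w) = q * d' := mul_left_cancel₀ hq0 (by linear_combination e2)
    have hw2 : (q : ℤ) ∣ w * w := ⟨w * w + 1 - d', by linear_combination -e2'⟩
    obtain ⟨c, rfl⟩ : (q : ℤ) ∣ w := (hqi.dvd_or_dvd hw2).elim id id
    exact hqi.not_dvd_one ⟨d - ((q : ℤ) - 1) * c, by linear_combination e1'⟩
  · push Not at hcyc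
    haveI := Fintype.ofFinite H
    obtain ⟨m, hm⟩ := Perm.CharAverage.exists_sum_eq H (IsIrr.isCharacter χ.2)
    rw [← Finset.add_sum_erase _ _ (Finset.mem_univ (1 : H)), Finset.sum_eq_zero (fun y hy => ?_),
      add_zero, OneMemClass.coe_one, h1, hH] at hm
    · have e : (q : ℤ) = (q : ℤ) ^ 2 * m := by exact_mod_cast hm
      have e' : (1 : ℤ) = q * m := mul_left_cancel₀ (Int.natCast_ne_zero.2 hq.ne_zero) (by linear_combination e)
      exact (Nat.prime_iff_prime_int.1 hq).not_dvd_one ⟨m, e'⟩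
    · refine h.apply_eq_zero hq hq2 hd ?_
      have hd' := Subgroup.orderOf_dvd_natCard H y.2
      rw [hH] at hd'
      obtain ⟨i, hi, he⟩ := (Nat.dvd_prime_pow hq).1 hd'
      rcases i with _ | _ | i
      · exact absurd (Subtype.ext (orderOf_eq_one_iff.1 (by rw [he, pow_zero]))) (Finset.ne_of_mem_erase hy)
      · rw [he, pow_one]
      · exact absurd (by rw [he, show i + 1 + 1 = 2 by omega]) (hcyc y y.2)

end Simple

end CfsgLib.Known.ThreeClasses
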